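import Cfsg.Agent.N2.Ex.Sim.Defs
import Cfsg.Agent.N2.Ex.Sim.CjLUa

/-!
# The boxes `BoxCjL`, `BoxCjU` (helper39, task N2S-CjLU)
-/

set_option autoImplicit false

namespace Cfsg.Agent.N2.Ex.Sm

open Cfsg Subgroup
open Cfsg.Agent.H902 Cfsg.Agent.H902.Names Cfsg.Agent.OrdDiv
open Cfsg.Agent.N2C.RD (PdX)

namespace LU

theorem ch_of {N G : Type} [Group N] [Group G] (e : N ≃* G ⧸ center G) {r j h : ℕ} (hr : r.Prime) (k : Pw G r j)
    (hh : h ∣ orderOf (j : ZMod r)) (h1 : h ≠ 1) : Ch N r h := by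
  have hj : (j : ZMod r) ≠ 1 := by
    intro h0
    rw [h0, orderOf_one, Nat.dvd_one] at hh
    exact h1 hh
  obtain ⟨g, h2, h3⟩ := (k.quot hr hj).map e.symm.toMonoidHom e.symm.injective
  exact ⟨g, j, h2, h3, hh⟩

theorem dvd_quot {N G : Type} [Group N] [Group G] (e : N ≃* G ⧸ center G) {r : ℕ} (h : r ∣ Nat.card N) : r ∣ Nat.card G := by
  rw [Nat.card_congr e.toEquiv] at h
  exact h.trans (card_quotient_dvd_card _)

theorem dvd_of {X : Art.Sh} {s a M r : ℕ} (h : Art.Real X s a M) (hr : r.Prime) (h1 : r ∣ Art.num X (s ^ a))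
    (h2 : ¬ r ∣ Art.dd X (s ^ a)) : r ∣ M := by
  have h3 : r ∣ Art.dd X (s ^ a) * M := h.eq ▸ h1.mul_left _
  exact ((Nat.Prime.dvd_mul hr).1 h3).resolve_left h2

theorem dvd_sub {r q k : ℕ} (hq : 0 < q) (h : orderOf (q : ZMod r) ∣ k) : r ∣ q ^ k - 1 := by
  rw [← ZMod.natCast_eq_zero_iff, Nat.cast_sub (Nat.one_le_pow _ _ hq), Nat.cast_pow, orderOf_dvd_iff_pow_eq_one.1 h,
    Nat.cast_one, sub_self]

theorem dvd_add' {r q k : ℕ} (hr : r.Prime) (h : orderOf (q : ZMod r) = 2 * k) (hk : 0 < k) : r ∣ q ^ k + 1 := by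
  have : Fact r.Prime := ⟨hr⟩
  rw [← ZMod.natCast_eq_zero_iff, Nat.cast_add, Nat.cast_pow, Nat.cast_one]
  have h1 : (q : ZMod r) ^ k * (q : ZMod r) ^ k = 1 := by rw [← pow_add, ← two_mul, ← h, pow_orderOf_eq_one]
  rcases mul_self_eq_one_iff.1 h1 with h2 | h2
  · have h3 := Nat.le_of_dvd hk (orderOf_dvd_of_pow_eq_one h2)
    omega
  · rw [h2, neg_add_cancel]

theorem cast_pred {r : ℕ} (hr : r.Prime) : ((r - 1 : ℕ) : ZMod r) = -1 := by
  rw [Nat.cast_sub hr.pos, ZMod.natCast_self, Nat.cast_one, zero_sub]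

theorem neg_ne {r : ℕ} (hr : r.Prime) (h5 : 5 ≤ r) : (-1 : ZMod r) ≠ 1 := by
  have : Fact r.Prime := ⟨hr⟩
  have : Fact (2 < r) := ⟨by omega⟩
  exact ZMod.neg_one_ne_one

theorem oneg_dvd {r : ℕ} (hr : r.Prime) (h5 : 5 ≤ r) (x : ZMod r) :
    oneg (orderOf x) ∣ orderOf (-1 * x) := by
  have : Fact r.Prime := ⟨hr⟩
  set m := orderOf (-1 * x) with hm
  set i := orderOf x with hi
  have h1 : (-1) ^ m * x ^ m = 1 := by rw [← mul_pow, hm, pow_orderOf_eq_one]
  have he : m % 2 = 0 → i ∣ m := fun h => by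
    rw [(Nat.even_iff.2 h).neg_one_pow, one_mul] at h1
    exact orderOf_dvd_of_pow_eq_one h1
  have ho : m % 2 = 1 → i ∣ 2 * m ∧ ¬ i ∣ m := fun h => by
    rw [(Nat.odd_iff.2 h).neg_one_pow, neg_one_mul, neg_eq_iff_eq_neg] at h1
    refine ⟨orderOf_dvd_of_pow_eq_one (by rw [mul_comm, pow_mul, h1, neg_one_sq]), fun h2 => ?_⟩
    rw [orderOf_dvd_iff_pow_eq_one.1 h2] at h1
    exact neg_ne hr h5 h1.symm
  unfold oneg
  split_ifs with a b
  · have hc : Nat.Coprime 2 i := Nat.coprime_two_left.2 (Nat.odd_iff.2 a)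
    rcases Nat.mod_two_eq_zero_or_one m with h | h
    · exact hc.mul_dvd_of_dvd_of_dvd (Nat.dvd_of_mod_eq_zero h) (he h)
    · exact absurd (hc.symm.dvd_of_dvd_mul_left (ho h).1) (ho h).2
  · have h2 : i = 2 * (i / 2) := by omega
    rcases Nat.mod_two_eq_zero_or_one m with h | h
    · exact (Dvd.intro_left 2 h2.symm).trans (he h)
    · have h3 := (ho h).1
      rw [h2] at h3
      exact Nat.dvd_of_mul_dvd_mul_left two_pos h3
  · rcases Nat.mod_two_eq_zero_or_one m with h | h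
    · exact he h
    · have h3 : 4 ∣ 2 * m := (Nat.dvd_of_mod_eq_zero (by omega : i % 4 = 0)).trans (ho h).1
      omega

theorem dvdL {N : Type} [Group N] {n s a r : ℕ} (h : Art.Real (.L n) s a (Nat.card N)) (hr : r.Prime) (hn : n < r)
    (hq : orderOf ((s ^ a : ℕ) : ZMod r) ∣ 2) : r ∣ Nat.card N := by
  have h2 : 2 ≤ n := h.ok.1
  refine dvd_of h hr ?_ fun h3 => ?_
  · refine Dvd.dvd.trans ?_ (Finset.dvd_prod_of_mem _ (Finset.mem_range.2 (by omega : 0 < n - 1)))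
    exact dvd_sub (pow_pos h.hp.pos a) hq
  · have := Nat.le_of_dvd (by omega) (h3.trans (Nat.gcd_dvd_left _ _))
    omega

theorem dvdU {N : Type} [Group N] {n s a r : ℕ} (h : Art.Real (.U n) s a (Nat.card N)) (hr : r.Prime) (h5 : 5 ≤ r)
    (hP : PdX (.U n) (orderOf ((s ^ a : ℕ) : ZMod r))) : r ∣ Nat.card N := by
  have h3 : 3 ≤ n := h.ok.1
  have hq := pow_pos h.hp.pos a
  obtain ⟨h0, h1, h2⟩ := hP
  set k := orderOf ((s ^ a : ℕ) : ZMod r) with hk
  have ev : ∀ m, 2 ≤ m → m ≤ n → m % 2 = 0 → k ∣ m → r ∣ Art.num (.U n) (s ^ a) := fun m a1 a2 a3 a4 => by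
    refine Dvd.dvd.trans ?_ (Finset.dvd_prod_of_mem _ (Finset.mem_range.2 (by omega : m - 2 < n - 1)))
    rw [if_pos (Nat.even_iff.2 (by omega)), Nat.sub_add_cancel a1]
    exact dvd_sub hq a4
  refine dvd_of h hr ?_ fun h4 => ?_
  · rcases h1 with h1 | h1 | h1
    · exact ev (2 * k) (by omega) h1 (by omega) (dvd_mul_left _ _)
    · exact ev k (by omega) h1.2 h1.1 dvd_rfl
    · by_cases h6 : k = 2
      · exact ev k (by omega) (by omega) (by omega) dvd_rfl
      refine Dvd.dvd.trans ?_ (Finset.dvd_prod_of_mem _ (Finset.mem_range.2 (by omega : k / 2 - 2 < n - 1)))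
      rw [if_neg (by rw [Nat.even_iff]; omega), Nat.sub_add_cancel (by omega)]
      exact dvd_add' hr (by omega) (by omega)
  · have h6 := Nat.le_of_dvd (by omega) (h4.trans (Nat.gcd_dvd_left _ _))
    have h7 : ((s ^ a : ℕ) : ZMod r) = -1 := by
      have := (ZMod.natCast_eq_zero_iff _ _).2 (h4.trans (Nat.gcd_dvd_right _ _))
      rwa [Nat.cast_add, Nat.cast_one, add_eq_zero_iff_eq_neg] at this
    have : Fact r.Prime := ⟨hr⟩
    have h8 : k = 2 := by
      rw [hk, h7]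
      exact orderOf_eq_prime neg_one_sq (neg_ne hr h5)
    have := h2 h8
    omega

theorem cast_ne {F : Type} [Field F] {s j : ℕ} (h5 : 5 ≤ s) (h : (j : F) ^ (s - 1) = 1) : (j : F) ≠ 0 := by
  intro h0
  rw [h0, zero_pow (by omega)] at h
  exact zero_ne_one h

end LU

open LU

theorem boxCjL : BoxCjL := by
  intro n q X s a N _ _ hN
  obtain ⟨hl, hreal, hord⟩ := hN
  cases hl
  obtain ⟨F, _, _, hF, ⟨e⟩⟩ := hreal
  have hs := hord.hp
  have : Fact s.Prime := ⟨hs⟩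
  have := char_of_card hs hF
  refine ⟨fun r b hr h5 hrs hb _ hP => ?_, fun h5 hh0 => ?_⟩
  · obtain ⟨h0, h1, h2⟩ := hP
    have : Fact r.Prime := ⟨hr⟩
    have hq : orderOf ((s ^ a : ℕ) : ZMod r) ∣ orderOf ((s ^ b : ℕ) : ZMod r) := by
      obtain ⟨c, rfl⟩ := hb
      rw [pow_mul, Nat.cast_pow]
      exact orderOf_pow_dvd c
    simp only [hh]
    split_ifs with hn
    · subst hn
      have h3 : orderOf ((s ^ b : ℕ) : ZMod r) ∣ 2 := by
        generalize orderOf ((s ^ b : ℕ) : ZMod r) = i at h0 h1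
        interval_cases i <;> norm_num
      refine ch_of e hr (sl_two hr hrs (dvd_quot e (dvdL hord hr (by omega) (hq.trans h3)))) ?_ (by norm_num)
      rw [cast_pred hr, orderOf_eq_prime neg_one_sq (neg_ne hr h5)]
    · by_cases h3 : orderOf ((s ^ b : ℕ) : ZMod r) = 1
      · have h4 := h2 h3
        rw [h3] at hq ⊢
        exact Ch.one hr (dvdL hord hr (by omega) (hq.trans (one_dvd _)))
      · exact ch_of e hr (sl_sub hs hord.hf hF hb hr hrs h3 h0 h1) dvd_rfl h3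
  · obtain ⟨j, hj⟩ := exists_gen hs
    have hjF : (j : F) ^ (s - 1) = 1 := gen_pow hj
    have hj0 := cast_ne h5 hjF
    have hodd : s % 2 = 1 := hs.eq_two_or_odd.resolve_left (by omega)
    simp only [h0] at hh0 ⊢
    split_ifs at hh0 ⊢ with hn ha hn
    · subst hn
      refine ch_of e hs (tv_two (j := j * j) (j : F) hj0 (Nat.cast_mul j j).symm) ?_ (by omega)
      have h1 : ((j * j : ℕ) : ZMod s) = (j : ZMod s) ^ 2 := by rw [Nat.cast_mul, sq]
      rw [h1, orderOf_pow' _ two_ne_zero, hj, Nat.gcd_eq_right (by omega)]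
    · subst hn
      have hsq : IsSquare (j : F) := by
        have hc : ringChar F ≠ 2 := by rw [ringChar.eq F s]; omega
        rw [FiniteField.isSquare_iff hc hj0, hF]
        obtain ⟨c, rfl⟩ : ∃ c, a = 2 * c := ⟨a / 2, by omega⟩
        obtain ⟨t, ht⟩ : s ^ 2 - 1 ∣ s ^ (2 * c) - 1 := by
          have := Nat.sub_dvd_pow_sub_pow (s ^ 2) 1 c
          rwa [one_pow, ← pow_mul] at this
        obtain ⟨m, hm⟩ : ∃ m, s + 1 = 2 * m := ⟨(s + 1) / 2, by omega⟩
        have h1 : s ^ 2 - 1 = (s + 1) * (s - 1) := Nat.sq_sub_sq s 1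
        have h2 : s ^ (2 * c) = 2 * ((s - 1) * (m * t)) + 1 := by
          have := Nat.one_le_pow (2 * c) s hs.pos
          rw [h1, hm] at ht
          rw [← Nat.sub_add_cancel this, ht]
          ring
        rw [h2, show (2 * ((s - 1) * (m * t)) + 1) / 2 = (s - 1) * (m * t) by omega, pow_mul, hjF, one_pow]
      obtain ⟨x, hx⟩ := hsq
      exact ch_of e hs (tv_two x (fun h => hj0 (by rw [hx, h, mul_zero])) hx.symm) (dvd_of_eq hj.symm) (by omega)
    · subst hn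
      exact ch_of e hs (tv_three hj0) (dvd_of_eq hj.symm) (by omega)
    · exact absurd rfl hh0

theorem boxCjU : BoxCjU := by
  intro n q X s a N _ _ hN
  obtain ⟨hl, hreal, hord⟩ := hN
  cases hl
  obtain ⟨F, _, _, hF, ⟨e⟩⟩ := hreal
  have hs := hord.hp
  have : Fact s.Prime := ⟨hs⟩
  have := char_of_card hs (hF.trans (pow_mul s a 2).symm)
  refine ⟨fun r b hr h5 hrs _ hb hP => ?_, fun h5 hh0 => ?_⟩
  · obtain rfl : b = a := hb.resolve_right (by simp [sb])
    have hd := dvdU hord hr h5 hP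
    simp only [hh]
    by_cases h1 : oneg (orderOf ((s ^ b : ℕ) : ZMod r)) = 1
    · rw [h1]
      exact Ch.one hr hd
    · refine ch_of e hr (su_neg hs hF hr hrs (dvd_quot e hd)) ?_ h1
      rw [Nat.cast_mul, cast_pred hr]
      exact oneg_dvd hr h5 _
  · obtain ⟨j, hj⟩ := exists_gen hs
    have hjF : (j : F) ^ (s - 1) = 1 := gen_pow hj
    have hodd : Odd s := hs.odd_of_ne_two (by omega)
    simp only [h0] at hh0 ⊢
    split_ifs at hh0 ⊢ with hn
    · subst hn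
      refine ch_of e hs (tv_su hF ?_ hodd.pow ?_) (dvd_of_eq hj.symm) (by omega)
      · intro h
        have h1 : ((2 : ℕ) : F) = 0 := by exact_mod_cast h
        have := Nat.le_of_dvd two_pos ((CharP.cast_eq_zero_iff F s 2).1 h1)
        omega
      · obtain ⟨t, ht⟩ := Nat.sub_dvd_pow_sub_pow s 1 a
        rw [one_pow] at ht
        rw [ht, pow_mul, hjF, one_pow]
    · exact absurd rfl hh0

end Cfsg.Agent.N2.Ex.Sm
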