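import Cfsg.Agent.N2.Ex.Sim.R2

/-!
# N2, box R3: the rank of the centre of a centraliser, tables; the Kac form for any order (helper21)
-/

set_option autoImplicit false
set_option linter.unusedSectionVars false

namespace Cfsg.Agent.N2.Ex.Sm.R3

open CoxeterSystem Cfsg Cfsg.Lie Cfsg.Lie.ChevalleyDatum
open Cfsg.Agent.ChevalleyStructure Cfsg.Agent.ChevalleyStructure.Elts Cfsg.Agent.ChevalleyStructure.CoxeterGeom
  Cfsg.Agent.ChevalleyStructure.CoxeterGeomTypes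
open Cfsg.Agent.Tits.Roots Cfsg.Agent.Nodes.RGDChev Cfsg.Agent.BpExc.TorChev Cfsg.Agent.BpExc.TowChev Cfsg.Agent.BpExc.Fr
  Cfsg.Agent.BpExc.LangFr Cfsg.Agent.H129.TorusChar Cfsg.Agent.DS.Ex Cfsg.Agent.H316.U6 Cfsg.Agent.KFacts.RgdChevCoord Cfsg.Agent.H469.Exc
open Cfsg.Agent.H931.KC Cfsg.Agent.DS.Nt Cfsg.Agent.SB.Exc Cfsg.Agent.SB.Exc.CI Cfsg.Agent.N2.Ex.Cb Cfsg.Agent.N2.Ex.Sm.R2

/-- the check of a pair -/
def pr (l b s k : ℕ) : Bool := Nat.ble s (zT l k + b) && Nat.ble (zT l k) l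

/-- the check for one mask -/
def ck (T : List (List ℕ)) (h0 h1 : List ℕ) (b N l : ℕ) (m : List ℕ) : Bool := pr l b m.sum (N - (keys T h0 h1 m).length)

theorem c0F4 : (masks 4).all (ck t0F4 [8, 8, 8, 8] [8, 8, 8, 8] 0 48 4) = true := by decide +kernel
theorem c1F4 : (masks 4).all (ck t1F4 [8, 8, 8, 8] [10, 12, 11, 10] 1 48 4) = true := by decide +kernel
theorem c0E6 : (masks 6).all (ck t0E6 [8, 8, 8, 8, 8, 8] [8, 8, 8, 8, 8, 8] 0 72 6) = true := by decide +kernel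
theorem c1E6 : (masks 6).all (ck t1E6 [8, 8, 8, 8, 8, 8] [9, 10, 10, 11, 10, 9] 1 72 6) = true := by decide +kernel
theorem c0E7 : (masks 7).all (ck t0E7 [8, 8, 8, 8, 8, 8, 8] [8, 8, 8, 8, 8, 8, 8] 0 126 7) = true := by decide +kernel
theorem c1E7 : (masks 7).all (ck t1E7 [8, 8, 8, 8, 8, 8, 8] [10, 10, 11, 12, 11, 10, 9] 1 126 7) = true := by decide +kernel
theorem c0E8a : (masks 7).all (fun m => ck t0E8 [8, 8, 8, 8, 8, 8, 8, 8] [8, 8, 8, 8, 8, 8, 8, 8] 0 240 8 (0 :: m)) = true := by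
  decide +kernel
theorem c0E8b : (masks 7).all (fun m => ck t0E8 [8, 8, 8, 8, 8, 8, 8, 8] [8, 8, 8, 8, 8, 8, 8, 8] 0 240 8 (1 :: m)) = true := by
  decide +kernel
theorem c1E8a : (masks 7).all (fun m => ck t1E8 [8, 8, 8, 8, 8, 8, 8, 8] [10, 11, 12, 14, 13, 12, 11, 10] 1 240 8 (0 :: m)) = true := by
  decide +kernel
theorem c1E8b : (masks 7).all (fun m => ck t1E8 [8, 8, 8, 8, 8, 8, 8, 8] [10, 11, 12, 14, 13, 12, 11, 10] 1 240 8 (1 :: m)) = true := by
  decide +kernel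

/-- the check for all masks -/
def TK (D : ChevalleyDatum) (l : ℕ) : Prop := (∀ i, hr D l i ≤ 7) ∧
  ∀ z : Bool, ∀ m ∈ masks l, pr l (bif z then 1 else 0) m.sum (D.nroots - (ks D l z m).length) = true

theorem tk_of {D : ChevalleyDatum} {l N : ℕ} {T0 T1 : List (List ℕ)} {h0 h1 : List ℕ}
    (e : (∀ i, hr D l i ≤ 7) ∧ tb D l false = T0 ∧ tb D l true = T1 ∧ dg (0 : Fin l → ℤ) = h0 ∧ dg (hz D l false) = h0 ∧
      dg (hz D l true) = h1 ∧ D.nroots = N)
    (c0 : (masks l).all (ck T0 h0 h0 0 N l) = true) (c1 : (masks l).all (ck T1 h0 h1 1 N l) = true) : TK D l := by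
  obtain ⟨e0, rfl, rfl, rfl, e1, rfl, rfl⟩ := e
  refine ⟨e0, fun z m hm => ?_⟩
  cases z
  · rw [ks, e1]
    exact List.all_eq_true.1 c0 m hm
  · exact List.all_eq_true.1 c1 m hm

variable {D : ChevalleyDatum} {l : ℕ} {M : CoxeterMatrix (Fin l)} (hp : IsType D l M) {r : ℕ} {c : Fin l → ℕ} {c0 : ℕ}
include hp

theorem tk_typ (hD : Typ D) : TK D l ∧ nmk D l = dM l := by
  have hl := typ_l hp
  rcases hD with rfl | rfl | rfl | rfl
  · obtain rfl := hl.1 rfl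
    exact ⟨tk_of eF4 c0F4 c1F4, nmk_F4⟩
  · obtain rfl := hl.2.1 rfl
    exact ⟨tk_of eE6 c0E6 c1E6, nmk_E6⟩
  · obtain rfl := hl.2.2.1 rfl
    exact ⟨tk_of eE7 c0E7 c1E7, nmk_E7⟩
  · obtain rfl := hl.2.2.2 rfl
    exact ⟨tk_of eE8 (all_succ c0E8a c0E8b) (all_succ c1E8a c1E8b), nmk_E8⟩

/-- the number of roots killed by a Kac functional -/
theorem count_ks (K : Kac D l r c c0) (H : ∀ i, hr D l i ≤ 7) :
    D.nroots - (ks D l (decide (c0 = 0)) (List.ofFn (R2.mk c))).length = nK D l r c := by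
  classical
  set z := decide (c0 = 0) with hzd
  have hv : ∀ s : Fin D.nroots, IsRoot M.toCoxeterSystem hp.isCartan (vec D l s) := fun s => isRoot_vec hp _ s.2
  set m := R2.mk c
  have hm := mk_cases c
  have hm' := mk_ne c
  have hcd : ∀ x y : Fin l → ℤ, (∀ i, -hr D l i ≤ x i ∧ x i ≤ hr D l i) → (∀ i, -hr D l i ≤ y i ∧ y i ≤ hr D l i) →
      (cd (List.ofFn m) (dg x) = cd (List.ofFn m) (dg y) ↔ ∀ i, c i ≠ 0 → x i = y i) := fun x y hx hy => by
    rw [dg, dg, cd_eq_iff m _ _ hm (fun i => by have := hx i; have := H i; omega)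
      fun i => by have := hy i; have := H i; omega]
    refine forall_congr' fun i => ?_
    rw [hm']
    refine imp_congr_right fun _ => ?_
    have := hx i; have := hy i; have := H i
    omega
  have hb : ∀ s : Fin D.nroots, ∀ i, -hr D l i ≤ nrm D l z (vec D l s) i ∧ nrm D l z (vec D l s) i ≤ hr D l i :=
    fun s i => ⟨(nrm_bd hp (hv s) z i).1, (nrm_bd hp (hv s) z i).2.1⟩
  have hb0 : ∀ i, -hr D l i ≤ (0 : Fin l → ℤ) i ∧ (0 : Fin l → ℤ) i ≤ hr D l i := fun i => by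
    have := hr_pos hp i
    rw [Pi.zero_apply]
    omega
  have hb1 : ∀ i, -hr D l i ≤ hz D l z i ∧ hz D l z i ≤ hr D l i := fun i => by
    have := hr_pos hp i
    generalize z = z'
    cases z'
    · exact hb0 i
    · simp only [hz, cond_true]
      omega
  let key : Fin D.nroots → ℕ := fun s => cd (List.ofFn m) (dg (nrm D l z (vec D l s)))
  let q : ℕ → Bool := fun y => !(Nat.beq y (cd (List.ofFn m) (dg (0 : Fin l → ℤ))) || Nat.beq y (cd (List.ofFn m) (dg (hz D l z))))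
  have hq : ∀ s, q (key s) = true ↔ ¬ (r : ℤ) ∣ bb c (vec D l s) := fun s => by
    rw [psi_iff hp K (hv s), ← hcd _ _ (hb s) hb1]
    have h2 := hcd _ _ (hb s) hb0
    simp only [Pi.zero_apply] at h2
    rw [← h2]
    simp only [q, key, Bool.not_eq_true', ← Bool.not_eq_true, Bool.or_eq_true, Nat.beq_eq]
  have hK : ks D l z (List.ofFn m) = (List.ofFn key).filter q :=
    congrArg (List.filter q) (List.map_ofFn (f := fun s : Fin D.nroots => dg (nrm D l z (vec D l s))) (g := cd (List.ofFn m)))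
  rw [hK, length_filter_ofFn, nK]
  have h4 := Finset.card_filter_add_card_filter_not (s := Finset.univ) fun s : Fin D.nroots => (r : ℤ) ∣ bb c (vec D l s)
  rw [Finset.card_univ, Fintype.card_fin] at h4
  simp only [hq]
  omega

/-- **The rank of the centre.** -/
theorem rank_le (hD : Typ D) (K : Kac D l r c c0) : zT l (nK D l r c) ≤ l ∧
    (Finset.univ.filter fun i => c i ≠ 0).card ≤ zT l (nK D l r c) + if c0 = 0 then 1 else 0 := by
  obtain ⟨h1, h2⟩ := (tk_typ hp hD).1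
  have h3 := h2 (decide (c0 = 0)) _ (mem_masks _ (mk_cases c))
  rw [count_ks hp K h1, pr, Bool.and_eq_true, Nat.ble_eq, Nat.ble_eq, Bool.cond_decide] at h3
  refine ⟨h3.2, le_of_eq_of_le ?_ h3.1⟩
  rw [List.sum_ofFn, Finset.card_filter]
  refine Finset.sum_congr rfl fun i _ => ?_
  by_cases h8 : c i = 0 <;> simp [R2.mk, h8]

/-- **The Kac form**, any order. -/
theorem kacform {p : ℕ} [Fact p.Prime] {n : ℕ} (hn : n.Coprime p) {y : YY D p} (hy : y ^ n = 1) :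
    ∃ (x : YY D p) (ζ : KK p) (c : Fin l → ℕ) (c0 : ℕ), IsPrimitiveRoot ζ n ∧ Kac D l n c c0 ∧
      x * y * x⁻¹ ∈ TT D (KK p) ∧ ∀ a, cX hp (x * y * x⁻¹) a = ζ ^ bb c a := by
  have : NeZero (n : KK p) := ⟨cast_ne hn⟩
  obtain ⟨ζ, hζ⟩ := HasEnoughRootsOfUnity.exists_primitiveRoot (KK p) n
  obtain ⟨z, hz⟩ := exists_tor hp hn hy
  obtain ⟨w, c, c0, K, h2, -⟩ := exists_kac' hp (Nat.pos_of_ne_zero (ne_zero_of_coprime hn)) hζ hz
    (by rw [conj_pow, hy, mul_one, mul_inv_cancel])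
  obtain ⟨k, h3, h4⟩ := exists_move (hp := hp) hz w
  have e1 : k * z * y * (k * z)⁻¹ = k * (z * y * z⁻¹) * k⁻¹ := by group
  rw [← e1] at h3 h4
  exact ⟨k * z, ζ, c, c0, hζ, K, h3, fun x => by rw [h4, h2]; rfl⟩

end Cfsg.Agent.N2.Ex.Sm.R3
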