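import Cfsg.Agent.N2.Ex.Sim.R3A
import Cfsg.Agent.N2.Ex.Sim.R3T

/-!
# N2, box R3: the order of the centraliser of a semisimple element (helper21)

`boxR3 : BoxR3`.
-/

set_option autoImplicit false
set_option linter.unusedSectionVars false

namespace Cfsg.Agent.N2.Ex.Sm

open CoxeterSystem Cfsg Cfsg.Lie Cfsg.Lie.ChevalleyDatum
open Cfsg.Agent.Tits.Roots Cfsg.Agent.Nodes.RGDChev Cfsg.Agent.BpExc.TorChev Cfsg.Agent.BpExc.TowChev Cfsg.Agent.BpExc.Fr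
  Cfsg.Agent.BpExc.LangFr Cfsg.Agent.H129.TorusChar Cfsg.Agent.DS.Ex Cfsg.Agent.H316.U6 Cfsg.Agent.KFacts.RgdChevCoord Cfsg.Agent.H469.Exc
open Cfsg.Agent.H931.KC Cfsg.Agent.DS.Nt Cfsg.Agent.SB.Exc Cfsg.Agent.SB.Exc.CI Cfsg.Agent.N2.Ex.Cb

namespace R3

variable {D : ChevalleyDatum} {l : ℕ} {M : CoxeterMatrix (Fin l)} (hp : IsType D l M) {p : ℕ} [Fact p.Prime]
  {e : ℕ} {σ : MulAut (YY D p)} {g : (Fin l → ℤ) ≃+ (Fin l → ℤ)}

/-- **The centraliser.** -/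
theorem cen_le (hD : Typ D) (he : 0 < e) (hσ : IsFrob p e σ)
    (Φ : Fr M.toCoxeterSystem hp.isCartan (TT D (KK p)) (XX D l (KK p)) σ g) {y : YY D p} (hy : σ y = y) {n : ℕ}
    (hn : n.Coprime p) (hyn : y ^ n = 1) {k : ℕ} (hk : dd p y = l + k) :
    Nat.card ↥(DL.fix σ ⊓ Subgroup.centralizer {y}) ≤
      (if (dM l).Coprime n then 1 else dM l) * ((p ^ e) ^ (l + k - zT l k) * (p ^ e + 1) ^ zT l k) := by
  obtain ⟨x, ζ, c, c0, a1, a2, a3, a4⟩ := kacform hp hn hyn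
  obtain ⟨σ', w, b1, b2, b3, b4⟩ := exists_red (hp := hp) he hσ Φ hy a3
  have h3 : dd p (x * y * x⁻¹) = l + nK D l n c := dd_tor_zpow hp a3 a1 (f := bb c) a4
  have h4 := ncard_Ps (hp := hp) a3
  rw [dd_conj] at h3 h4
  obtain rfl : k = nK D l n c := by omega
  obtain ⟨h5, h6⟩ := rank_le hp hD a2
  have h7 := R3A.card_DZ_kac he b1 b2 a3 b3 a1 a2 a4 h5 h6
  rw [show (Ps hp p {x * y * x⁻¹}).ncard = nK D l n c by omega, ← mul_assoc, ← pow_add,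
    show nK D l n c + (l - zT l (nK D l n c)) = l + nK D l n c - zT l (nK D l n c) by omega] at h7
  have h8 : (x * y * x⁻¹) ^ n = 1 := by rw [conj_pow, hyn, mul_one, mul_inv_cancel]
  rw [b4]
  split_ifs with h9
  · rwa [conn (hp := hp) (cz_typ hp hD) hn h9 a3 h8, one_mul]
  · rw [← (tk_typ hp hD).2]
    exact (card_cen (hp := hp) hn a3 h8 _).trans (Nat.mul_le_mul_left _ h7)

end R3

/-- **[R3]** -/
theorem boxR3 : BoxR3 := by
  intro D l M hp hD p _ q K _ m a ha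
  refine ⟨fun k hk => ?_, fun h1 h2 h3 h4 h5 => R3A.clause2 hp hD m a h1 h2 (fun h => ?_) h3 h4 h5⟩
  · have h1 := R3.cen_le hp hD m.he m.frob m.fr (m.fix a) ha (by rw [← map_pow, pow_orderOf_eq_one, map_one]) hk
    rw [m.hq] at h1
    exact (cn_le_card m.ι m.inj m.fix m.fin a).trans h1
  · rw [h, Nat.coprime_self] at ha
    exact (Fact.out : p.Prime).ne_one ha

end Cfsg.Agent.N2.Ex.Sm
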