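import Cfsg.Agent.N2.Ex.Sim.ScA

/-!
# N2 (S3519), exceptional groups, defining characteristic: the rows `L₂, L₃, U₃` (helper83)

**`Sc.rowSc (B : NB) (h : Df.RowN qS0) : Df.RowN Df.qSc`**.
-/

set_option autoImplicit false
set_option linter.unusedSectionVars false

namespace Cfsg.Agent.N2.Ex.Sm.Sc

open Cfsg Subgroup Cfsg.Agent.H902 Cfsg.Agent.H902.Names Cfsg.Agent.OrdDiv
open Cfsg.Agent.N2C.RD (PdX oX dX gX Nd ord_pow oX_le)
open Cfsg.Agent.SB.Exc (dM ordU)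

variable {l : ℕ} {tw : Bool} {p e T a : ℕ} {N : Type} [Group N] [Finite N] {G : Prop} {c d : N → ℕ} {X : Art.Sh} {g : Grp}

/-- the least dimensions for elements of order two and three -/
def lw (l n : ℕ) : ℕ := (kv l n).headD 0

theorem low (R : Rx l tw p e T N G c d) {x : N} {n : ℕ} (hn : n = 2 ∨ n = 3) (hx : x ^ n = 1) : lw l n ≤ d x := by
  by_cases h : p = n
  · have h1 := R.lowp x 1 (by rwa [pow_one, h])
    have h2 : n * lw l n ≤ dimT l := by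
      rcases hn with rfl | rfl <;> rcases R.typ with rfl | ⟨-, rfl | rfl | rfl⟩ <;> decide
    rw [pow_one, h] at h1
    exact Nat.le_of_mul_le_mul_left (h2.trans h1) (by omega)
  · have h1 : n.Prime := by
      rcases hn with rfl | rfl <;> norm_num
    have h2 := (R.val x n ((Nat.coprime_primes h1 R.hp).2 (Ne.symm h)) hx).2.1 (by omega) (by omega)
    have h3 : ∀ v ∈ kv l n, lw l n ≤ v := by
      rcases hn with rfl | rfl <;> rcases R.typ with rfl | ⟨-, rfl | rfl | rfl⟩ <;> decide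
    exact h3 _ h2

theorem scott2 (R : Rx l tw p e T N G c d) {n : ℕ} (h : Tr N 2 3 n) (h1 : n.Coprime p) (h2 : p = 2 → n.Coprime 6) :
    ∃ y : N, (orderOf y).Coprime p ∧ d y ≤ l + k2 l p := by
  obtain ⟨x, y, hx, hy, hz, ht⟩ := h
  refine ⟨x * y, h1.coprime_dvd_left (orderOf_dvd_of_pow_eq_one hz), ?_⟩
  have a := R.scott x y ht
  have b := low R (Or.inl rfl) hx
  have b' := low R (Or.inr rfl) hy
  have v := (R.val _ n h1 hz).2.2
  rcases R.typ with rfl | ⟨-, rfl | rfl | rfl⟩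
  · change _ ≤ 78 + _ at a
    change 38 ≤ _ at b
    change 24 ≤ _ at b'
    by_cases k : p = 3
    · subst k
      change _ ≤ 78 + 2 at a
      change _ ≤ 18
      omega
    · rw [show zc 6 p = 0 by simp [zc, k]] at a
      rw [show k2 6 p = 10 by rw [k2, beq_false.2 k]; rfl]
      omega
  · change _ ≤ 52 + _ at a
    change 24 ≤ _ at b
    change 16 ≤ _ at b'
    change _ ≤ 12
    by_cases k : p = 2
    · have := v rfl (h2 k)
      subst k
      change _ ≤ 52 + 8 at a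
      omega
    · rw [show zc 4 p = 0 by simp [zc, k]] at a
      omega
  · have z : zc 7 p ≤ 1 := by unfold zc; split_ifs <;> omega
    change _ ≤ 133 + _ at a
    change 63 ≤ _ at b
    change 43 ≤ _ at b'
    change _ ≤ 29
    omega
  · rw [show zc 8 p = 0 by simp [zc]] at a
    change _ ≤ 248 at a
    change 120 ≤ _ at b
    change 80 ≤ _ at b'
    change _ ≤ 48
    omega

theorem scott3 (R : Rx l tw p e T N G c d) {n : ℕ} (h : Tr N 2 n n) (h1 : n.Coprime p) :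
    ∃ y : N, (orderOf y).Coprime p ∧ d y ≤ l + k3 l := by
  obtain ⟨x, y, hx, hy, hz, ht⟩ := h
  have a := R.scott x y ht
  have b := low R (Or.inl rfl) hx
  have v1 := (R.val _ n h1 hy).1.2
  have v2 := (R.val _ n h1 hz).1.2
  have k : d y ≤ l + k3 l ∨ d (x * y) ≤ l + k3 l := by
    have z : zc l p ≤ if l = 4 then 4 else if l = 8 then 0 else 1 := by unfold zc; split_ifs <;> omega
    rcases R.typ with rfl | ⟨-, rfl | rfl | rfl⟩
    · change _ ≤ 78 + _ at a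
      change 38 ≤ _ at b
      change _ ≤ 1 at z
      change _ ≤ 20 ∨ _ ≤ 20
      omega
    · change _ ≤ 52 + _ at a
      change 24 ≤ _ at b
      change _ ≤ 4 at z
      change _ ≤ 18 ∨ _ ≤ 18
      omega
    · change _ ≤ 133 + _ at a
      change 63 ≤ _ at b
      change _ ≤ 1 at z
      change _ ≤ 36 ∨ _ ≤ 36
      omega
    · change _ ≤ 248 + _ at a
      change 120 ≤ _ at b
      change _ ≤ 0 at z
      change _ ≤ 64 ∨ _ ≤ 64
      omega
  rcases k with k | k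
  exacts [⟨y, h1.coprime_dvd_left (orderOf_dvd_of_pow_eq_one hy), k⟩, ⟨_, h1.coprime_dvd_left (orderOf_dvd_of_pow_eq_one hz), k⟩]

theorem sc_of (R : Rx l tw p e T N G c d) {k0 : ℕ} (h : ∃ y : N, (orderOf y).Coprime p ∧ d y ≤ l + k0) (k : ℕ) (hk : k0 ≤ k)
    (h1 : (dM l * ((p ^ e) ^ k * (p ^ e + 1) ^ l)) ^ 3 * Nat.card (MulAut N) ≤ T) : G := by
  obtain ⟨y, h2, h3⟩ := h
  exact R.good1 y ((Nat.mul_le_mul_right _ (Nat.pow_le_pow_left (R.cen y k h2 (by omega)) 3)).trans h1)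

theorem pd_of (B : NB) (R : Rx l tw p e T N G c d) (k : Nm N g X p a) (D : Nd X p a N) {i h : ℕ} (hD : PdX X i) (hh : h = hh g i)
    (h3 : 3 ≤ a * i) (h6 : ¬ (p = 2 ∧ a * i = 6)) : ∃ f ∈ Cb.tpT l, Nat.lcm 2 (Nat.lcm h (a * i / Nat.gcd (a * i) e)) ∣ f.1 ∧
      (((p ^ e) ^ f.2 * (p ^ e + 1) ^ l) ^ 3 * Nat.card (MulAut N) ≤ T → G) := by
  obtain ⟨r, hr, ho, -, h5, hp, -, -⟩ := D.ppd hD h3 h6
  have ha := D.real.hf
  have he := R.real.hf
  have h1 : orderOf ((p ^ a : ℕ) : ZMod r) = i := by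
    rw [ord_pow ho (by omega), Nat.gcd_mul_right_left, Nat.mul_div_cancel_left _ (by omega)]
  obtain ⟨x, j, hx, hj, h2⟩ := ((B.cj k.lie) X p a N k).1 r a hr h5 hp dvd_rfl (Or.inl rfl) (h1.symm ▸ hD)
  rw [h1, ← hh] at h2
  obtain ⟨f, hf, n, m1, m2, -, m3, m4, m5, -⟩ := R.mt x r hr h5 hp hx
  rw [ord_pow ho (by omega)] at m4
  refine ⟨f, hf, (Nat.lcm_dvd m3 (Nat.lcm_dvd (h2.trans (m5 j hj)) m4)).trans m2, fun h => R.good1 x (le_trans ?_ h)⟩
  exact Nat.mul_le_mul_right _ (Nat.pow_le_pow_left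
    (R.conn x f.2 (hx ▸ (Nat.coprime_primes hr R.hp).2 hp) (hx ▸ cop_dM hr h5 l) m1.le) 3)

theorem card_eq (D : Nd X p a N) : Nat.card N = oX X (p ^ a) / Art.dd X (p ^ a) := by
  rw [← D.card, Nat.mul_div_cancel_left _ D.dd_pos]

theorem oL2 (s : ℕ) : oX (.L 2) s = dL2.oX s := by simp [oX, Art.NN, Art.num, dL2]
theorem oL3 (s : ℕ) : oX (.L 3) s = dL3.oX s := by simp [oX, Art.NN, Art.num, dL3, Finset.prod_range_succ]
theorem oU3 (s : ℕ) : oX (.U 3) s = dU3.oX s := by simp [oX, Art.NN, Art.num, dU3, Finset.prod_range_succ]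

theorem cop_of {n m : ℕ} (hp : p.Prime) (h : n ∣ m) (h1 : ¬ p ∣ m) : n.Coprime p :=
  ((Nat.Prime.coprime_iff_not_dvd hp).2 fun k => h1 (k.trans h)).symm

theorem tr_L2 (B : NB) (k : Nm N (.psl 2 (p ^ a)) (.L 2) p a) (h8 : 8 ≤ p ^ a) (h9 : p ^ a ≠ 9) (h11 : p ^ a ≠ 11) :
    ∃ n, Tr N 2 3 n ∧ n.Coprime p ∧ (p = 2 → n.Coprime 6) := by
  have hp := k.ord.hp
  have ha := k.ord.hf
  have h0 : p ∣ p ^ a := dvd_pow_self p (by omega)
  have h1 : ¬ p ∣ p ^ a + 1 := fun h => hp.one_lt.ne' (Nat.dvd_one.1 ((Nat.dvd_add_right h0).1 h))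
  have h2 : ¬ p ∣ p ^ a - 1 := fun h => hp.one_lt.ne' (Nat.dvd_one.1 ((Nat.dvd_add_right h).1 (by rwa [Nat.sub_add_cancel (by omega)])))
  have key : ∀ n, (∀ x, p * x ≤ p ^ a → x + 1 < n) → ∀ b, b ∣ a → b < a → ¬ n ∣ p ^ b + 1 ∧ ¬ n ∣ p ^ b - 1 := fun n hn b hb hl => by
    have h3 := hn (p ^ b) (by rw [← pow_succ']; exact Nat.pow_le_pow_right hp.pos hl)
    have h4 : 1 < p ^ b := Nat.one_lt_pow (fun h => by rw [h, zero_dvd_iff] at hb; omega) hp.one_lt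
    exact ⟨fun h => absurd (Nat.le_of_dvd (by omega) h) (by omega), fun h => absurd (Nat.le_of_dvd (by omega) h) (by omega)⟩
  rcases hp.eq_two_or_odd' with rfl | ho
  · have h3 : Nat.gcd 2 (2 ^ a - 1) = 1 := (Nat.Prime.coprime_iff_not_dvd hp).2 h2
    have h4 : ¬ 3 ∣ 2 ^ a := fun h => absurd (Nat.prime_three.dvd_of_dvd_pow h) (by norm_num)
    have h5 : ∀ n, ¬ 2 ∣ n → ¬ 3 ∣ n → n.Coprime 6 := fun n a b =>
      (cop_of Nat.prime_two dvd_rfl a).mul_right (cop_of Nat.prime_three dvd_rfl b)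
    by_cases h6 : 3 ∣ 2 ^ a + 1
    · exact ⟨2 ^ a - 1, B.l2 2 a _ N k (by omega) (Or.inr (by rw [h3, one_mul])) (key _ fun x hx => by omega),
        cop_of hp dvd_rfl h2, fun _ => h5 _ h2 (by omega)⟩
    · exact ⟨2 ^ a + 1, B.l2 2 a _ N k (by omega) (Or.inl (by rw [h3, one_mul])) (key _ fun x hx => by omega),
        cop_of hp dvd_rfl h1, fun _ => h5 _ h1 h6⟩
  · obtain ⟨m, hm⟩ := ho.pow (n := a)
    have h3 : 3 ≤ p := by
      have := hp.two_le
      obtain ⟨z, hz⟩ := ho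
      omega
    have h4 : 2 * (m + 1) = p ^ a + 1 := by omega
    refine ⟨m + 1, B.l2 p a _ N k (by omega) (Or.inl ((Nat.mul_dvd_mul_right (Nat.gcd_dvd_left _ _) _).trans h4.dvd))
      (key _ fun x hx => ?_), cop_of hp (Dvd.intro_left _ h4) h1, fun h => by omega⟩
    have := Nat.mul_le_mul_right x h3
    omega

theorem not_dvd_add (hp : p.Prime) (ha : 1 ≤ a) : ¬ p ∣ (p ^ a) ^ 2 + p ^ a + 1 := fun h =>
  have h0 : p ∣ p ^ a := dvd_pow_self p (by omega)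
  hp.one_lt.ne' (Nat.dvd_one.1 ((Nat.dvd_add_right ((h0.trans (dvd_pow_self _ two_ne_zero)).add h0)).1 h))

theorem not_dvd_sub (hp : p.Prime) (ha : 1 ≤ a) : ¬ p ∣ (p ^ a) ^ 2 - p ^ a + 1 := fun h =>
  have h0 : p ∣ p ^ a := dvd_pow_self p (by omega)
  hp.one_lt.ne' (Nat.dvd_one.1 ((Nat.dvd_add_right (Nat.dvd_sub (h0.trans (dvd_pow_self _ two_ne_zero)) h0)).1 h))

theorem div_dvd_add {s : ℕ} (hs : 1 ≤ s) : (s ^ 2 + s + 1) / Nat.gcd 3 (s - 1) ∣ s ^ 2 + s + 1 := by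
  refine Nat.div_dvd_of_dvd ?_
  obtain ⟨z, rfl⟩ : ∃ z, s = z + 1 := ⟨s - 1, by omega⟩
  rw [Nat.add_sub_cancel, show (z + 1) ^ 2 + (z + 1) + 1 = z * (z + 3) + 3 by ring]
  exact ((Nat.gcd_dvd_right _ _).mul_right _).add (Nat.gcd_dvd_left _ _)

theorem div_dvd_sub {s : ℕ} (hs : 2 ≤ s) : (s ^ 2 - s + 1) / Nat.gcd 3 (s + 1) ∣ s ^ 2 - s + 1 := by
  refine Nat.div_dvd_of_dvd ?_
  obtain ⟨z, rfl⟩ : ∃ z, s = z + 2 := ⟨s - 2, by omega⟩
  rw [show (z + 2) ^ 2 = (z + 2 + 1) * z + 2 + (z + 2) by ring, Nat.add_sub_cancel]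
  exact ((Nat.gcd_dvd_right _ _).mul_right _).add (Nat.gcd_dvd_left _ _)

variable [IsSimpleGroup N]

theorem row_L2 (B : NB) (hn : ¬ IsMulCommutative N) (k : Nm N (.psl 2 (p ^ a)) (.L 2) p a) (h8 : 8 ≤ p ^ a) (h9 : p ^ a ≠ 9)
    (h11 : p ^ a ≠ 11) (R : Rx l tw p e T N G c d) : G := by
  have D := k.nd hn
  obtain ⟨n, h1, h2, h3⟩ := tr_L2 B k h8 h9 h11
  refine Ab.fin (δ := dL2) ⟨R.typ, R.real, D.real.hf, le_rfl, List.mem_cons_self, oL2 _ ▸ card_eq D, oL2 _ ▸ D.aut,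
    oL2 _ ▸ oX_le D.two_le D.real.ok, R.dvd, ?_, ?_, Or.inr rfl, sc_of R (scott2 R h1 h2 h3), fun x hx => ?_⟩ chk_L2
  · rw [← Bool.not_eq_true]
    simp only [dL2, Bool.or_eq_true, Nat.beq_eq, Nat.ble_eq]
    omega
  · change k2 l p ≤ k2 l 3
    unfold k2
    cases Nat.beq l 4 <;> cases Nat.beq l 6 <;> cases Nat.beq p 3 <;> simp
  · simp only [dL2, List.mem_cons, List.not_mem_nil, or_false] at hx
    rcases hx with rfl | rfl
    exacts [pd_of B R k D ⟨two_pos, le_rfl, by omega⟩ rfl, pd_of B R k D ⟨one_pos, one_le_two, by omega⟩ rfl]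

theorem row_L3 (B : NB) (hn : ¬ IsMulCommutative N) (k : Nm N (.psl 3 (p ^ a)) (.L 3) p a) (h2 : p ^ a ≠ 2) (h4 : p ^ a ≠ 4)
    (R : Rx l tw p e T N G c d) : G := by
  have D := k.nd hn
  have ha := D.real.hf
  by_cases hs : l = 4 ∧ p ^ e = 2 ∧ p ^ a = 16
  · obtain ⟨rfl, h5, h6⟩ := hs
    obtain rfl : p = 2 := ((Nat.prime_dvd_prime_iff_eq R.hp Nat.prime_two).1 (h5 ▸ dvd_pow_self p (by have := R.real.hf; omega)))
    obtain rfl : a = 4 := Nat.pow_right_injective le_rfl h6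
    obtain rfl : tw = false := by
      rcases R.typ with h | h
      exacts [absurd h (by norm_num), h.1]
    have h7 : orderOf ((2 ^ 4 : ℕ) : ZMod 13) = 3 := orderOf_eq_prime (by decide) (by decide)
    have h8 := ((B.cj k.lie) _ 2 4 N k).1 13 4 (by norm_num) (by norm_num) (by norm_num) dvd_rfl (Or.inl rfl)
      (h7.symm ▸ ⟨three_pos, le_rfl, by omega⟩)
    rw [h7] at h8
    refine R.exq (o := 1425715200) (A := 34217164800) (els := [⟨13, 3, 0⟩]) (tris := []) (P := 2)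
      ((card_eq D).trans (by decide +kernel)) (D.aut.trans (by decide +kernel)).dvd (by norm_num) (by norm_num)
      (fun x hx => ?_) (fun x hx => absurd hx List.not_mem_nil) (by decide) (Or.inl rfl) (by rw [h5]; decide +kernel)
    obtain rfl := List.mem_singleton.1 hx
    exact ⟨by norm_num, by norm_num, h8, fun h => absurd rfl h⟩
  refine Ab.fin (δ := dL3) ⟨R.typ, R.real, ha, by decide, List.mem_cons_self, oL3 _ ▸ card_eq D, oL3 _ ▸ D.aut,
    oL3 _ ▸ oX_le D.two_le D.real.ok, R.dvd, ?_, le_rfl, Or.inl ⟨show 3 ≤ a * 3 by omega, ?_⟩,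
    sc_of R (scott3 R (B.l3 p a N k h2 h4) (cop_of R.hp (div_dvd_add (by have := D.two_le; omega)) (not_dvd_add R.hp ha))),
    fun x hx => ?_⟩ chk_L3
  · simp only [dL3, Bool.or_eq_false_iff, Bool.and_eq_false_iff, beq_false]
    omega
  · rintro ⟨rfl, h⟩
    obtain rfl : a = 2 := by change a * 3 = 6 at h; omega
    exact h4 rfl
  · simp only [dL3, List.mem_cons, List.not_mem_nil, or_false] at hx
    rcases hx with rfl | rfl
    exacts [pd_of B R k D ⟨three_pos, le_rfl, by omega⟩ rfl, pd_of B R k D ⟨two_pos, by omega, by omega⟩ rfl]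

theorem row_U3 (B : NB) (hn : ¬ IsMulCommutative N) (k : Nm N (.psu 3 (p ^ a)) (.U 3) p a) (h3 : p ^ a ≠ 3) (h5 : p ^ a ≠ 5)
    (R : Rx l tw p e T N G c d) : G := by
  have D := k.nd hn
  have ha := D.real.hf
  have h4 : 3 ≤ p ^ a := D.real.ok.2 rfl
  refine Ab.fin (δ := dU3) ⟨R.typ, R.real, ha, by decide, List.mem_cons_self, oU3 _ ▸ card_eq D, oU3 _ ▸ D.aut,
    oU3 _ ▸ oX_le D.two_le D.real.ok, R.dvd, ?_, le_rfl, Or.inl ⟨show 3 ≤ a * 6 by omega, ?_⟩,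
    sc_of R (scott3 R (B.u3 p a N k h3 h5) (cop_of R.hp (div_dvd_sub D.two_le) (not_dvd_sub R.hp ha))), fun x hx => ?_⟩ chk_U3
  · rw [← Bool.not_eq_true]
    simp only [dU3, Bool.or_eq_true, Nat.beq_eq, Nat.ble_eq]
    omega
  · rintro ⟨rfl, h⟩
    obtain rfl : a = 1 := by change a * 6 = 6 at h; omega
    omega
  · obtain rfl := List.mem_singleton.1 hx
    exact pd_of B R k D ⟨by norm_num, Or.inr (Or.inr ⟨rfl, le_rfl⟩), by omega⟩ rfl

/-- **the rows `L₂, L₃, U₃`** -/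
theorem rowSc (B : NB) (h : Df.RowN qS0) : Df.RowN Df.qSc := by
  intro cf l tw p e T N _ _ _ G c d g X a hn k hQ R
  by_cases h0 : qS0 X l p a e
  · exact h cf l tw p e T N G c d g X a hn k h0 R
  simp only [qS0, not_or, not_and, List.mem_cons, List.not_mem_nil] at h0
  have hl := k.lie
  rcases hQ with rfl | rfl | rfl <;> cases hl
  · have h1 := h0.1 rfl
    have h2 : 4 ≤ p ^ a := k.ord.ok.2 rfl
    have h3 : p ^ a ≠ 6 := fun h => by
      have h4 := (Nat.prime_dvd_prime_iff_eq Nat.prime_two R.hp).1 (Nat.prime_two.dvd_of_dvd_pow (n := a) (h ▸ by norm_num))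
      have h5 := (Nat.prime_dvd_prime_iff_eq Nat.prime_three R.hp).1 (Nat.prime_three.dvd_of_dvd_pow (n := a) (h ▸ by norm_num))
      omega
    exact row_L2 B hn k (by omega) (by omega) (by omega) R
  · exact row_L3 B hn k (h0.2.1 rfl).1 (h0.2.1 rfl).2.1 R
  · exact row_U3 B hn k (h0.2.2 rfl).1 (h0.2.2 rfl).2.1 R

end Cfsg.Agent.N2.Ex.Sm.Sc
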