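import Cfsg.Agent.N2.Ex.Sim.Defs
import Cfsg.Agent.N2.Ex.Cb.Hm

/-!
# N2 (S3519), `E₆`: the automizer of an element with centraliser `D₄ T₂` (helper11)
-/

set_option autoImplicit false
set_option maxHeartbeats 400000
set_option linter.unusedSectionVars false

namespace Cfsg.Agent.N2.Ex.Sm

open CoxeterSystem Cfsg Cfsg.Lie Cfsg.Lie.ChevalleyDatum
open Cfsg.Agent.ChevalleyStructure.CoxeterGeom Cfsg.Agent.ChevalleyStructure.CoxeterGeomTypes
open Cfsg.Agent.Tits.Roots Cfsg.Agent.Nodes.RGDChev Cfsg.Agent.DS.Ex Cfsg.Agent.H931.KC Cfsg.Agent.DS.Nt Cfsg.Agent.H316.U6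
open Cfsg.Agent.SB.Exc Cfsg.Agent.SB.Exc.CI Cfsg.Agent.N2.Ex.Cb

namespace Six

/-- the roots which are killed -/
def kl (z : Bool) (m : Fin 6 → Bool) (x : Fin 6 → ℤ) : Bool :=
  decide (∀ i, m i → x i = 0) || (z && (decide (∀ i, m i → x i = hr chevE6 6 i) || decide (∀ i, m i → x i = -hr chevE6 6 i)))

theorem mask : ∀ z a b c d e f : Bool,
    (Finset.univ.filter fun s : Fin chevE6.nroots => kl z ![a, b, c, d, e, f] (vec chevE6 6 s) = true).card = 24 →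
      [z, a, b, c, d, e, f] = [false, true, false, false, false, false, true] := by decide +kernel

theorem hex : ∀ s : Fin chevE6.nroots, (vec chevE6 6 s 0, vec chevE6 6 s 5) ∈
    [((0 : ℤ), (0 : ℤ)), (1, 0), (0, 1), (1, 1), (-1, 0), (0, -1), (-1, -1)] := by decide +kernel

theorem pair3 : ∀ i, (3 : ℤ) ∣ pairing (cartanOf chevE6 6) i ![1, 0, -1, 0, 1, -1] := by decide +kernel

variable {M : CoxeterMatrix (Fin 6)} (hp : IsType chevE6 6 M) {r : ℕ} {c : Fin 6 → ℕ} {c0 : ℕ}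

theorem fix3 (w : M.Group) : ∃ x, rep M.toCoxeterSystem hp.isCartan w ![1, 0, -1, 0, 1, -1] = ![1, 0, -1, 0, 1, -1] + (3 : ℤ) • x := by
  induction w using M.toCoxeterSystem.simple_induction_right with
  | one => exact ⟨0, by simp⟩
  | mul_simple_right w i ih =>
    obtain ⟨x, hx⟩ := ih
    obtain ⟨k, hk⟩ := pair3 i
    refine ⟨x - k • rep M.toCoxeterSystem hp.isCartan w (sr i), ?_⟩
    rw [rep_mul_apply, rep_simple_eq, hk, map_sub, map_smul, hx, mul_smul, smul_sub, add_sub_assoc]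

include hp in
theorem kl_iff (K : Kac chevE6 6 r c c0) (s : Fin chevE6.nroots) :
    (r : ℤ) ∣ bb c (vec chevE6 6 s) ↔ kl (decide (c0 = 0)) (fun i => decide (c i ≠ 0)) (vec chevE6 6 s) = true := by
  simp only [kl, Bool.or_eq_true, Bool.and_eq_true, decide_eq_true_eq]
  refine ⟨dvd_cases hp K s, ?_⟩
  have h1 := dvd_hz K
  rintro (h | ⟨h0, h | h⟩)
  · rw [bb_congr (y := 0) h, map_zero]
    exact dvd_zero _
  · rwa [bb_congr h, ← cond_true (hr chevE6 6) 0, ← decide_eq_true h0]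
  · rwa [bb_congr (y := -hr chevE6 6) h, map_neg, dvd_neg, ← cond_true (hr chevE6 6) 0, ← decide_eq_true h0]

theorem arith {F : Type} [Field F] {a b k : F} (k0 : k ≠ 0) (a0 : a ≠ 0) (b0 : b ≠ 0) {u0 u5 v0 v5 x y : ℤ}
    (e1 : (u0, u5) ∈ [((0 : ℤ), (0 : ℤ)), (1, 0), (0, 1), (1, 1), (-1, 0), (0, -1), (-1, -1)])
    (e2 : (v0, v5) ∈ [((0 : ℤ), (0 : ℤ)), (1, 0), (0, 1), (1, 1), (-1, 0), (0, -1), (-1, -1)])
    (e3 : (u0 : F) * a + u5 * b = k * a) (e4 : (v0 : F) * a + v5 * b = k * b) (x0 : u0 - v0 = 1 + 3 * x) (x5 : u5 - v5 = -1 + 3 * y) :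
    k ^ 2 = 1 ∨ k ^ 3 = 1 := by
  simp only [List.mem_cons, Prod.mk.injEq, List.not_mem_nil, or_false] at e1 e2
  rcases e1 with ⟨rfl, rfl⟩ | ⟨rfl, rfl⟩ | ⟨rfl, rfl⟩ | ⟨rfl, rfl⟩ | ⟨rfl, rfl⟩ | ⟨rfl, rfl⟩ | ⟨rfl, rfl⟩
  · exact absurd (by push_cast at e3; linear_combination -e3) (mul_ne_zero k0 a0)
  · exact Or.inl (mul_right_cancel₀ a0 (by push_cast at e3; linear_combination -(k + 1) * e3))
  · obtain ⟨rfl, rfl⟩ : v0 = -1 ∧ v5 = -1 := by omega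
    exact Or.inr (mul_right_cancel₀ a0 (by push_cast at e3 e4; linear_combination (1 - k) * e4 + (1 - k) * (k + 1) * e3))
  · obtain ⟨rfl, rfl⟩ : v0 = 0 ∧ v5 = -1 := by omega
    exact Or.inl (mul_right_cancel₀ b0 (by push_cast at e4; linear_combination (1 - k) * e4))
  · exact Or.inl (mul_right_cancel₀ a0 (by push_cast at e3; linear_combination (1 - k) * e3))
  · obtain ⟨rfl, rfl⟩ : v0 = -1 ∧ v5 = 0 := by omega
    exact Or.inl (mul_right_cancel₀ a0 (by push_cast at e3 e4; linear_combination e4 - k * e3))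
  · obtain ⟨rfl, rfl⟩ : v0 = 1 ∧ v5 = 0 := by omega
    exact Or.inr (mul_right_cancel₀ b0 (by push_cast at e3 e4; linear_combination (1 - k) * e3 + (1 - k) * (k + 1) * e4))

theorem arith0 {F : Type} [Field F] {a b : F} (a0 : a ≠ 0) (b0 : b ≠ 0) (s0 : a + b ≠ 0) {u0 u5 : ℤ}
    (e1 : (u0, u5) ∈ [((0 : ℤ), (0 : ℤ)), (1, 0), (0, 1), (1, 1), (-1, 0), (0, -1), (-1, -1)])
    (e : (u0 : F) * a + u5 * b = 0) : u0 = 0 ∧ u5 = 0 := by
  simp only [List.mem_cons, Prod.mk.injEq, List.not_mem_nil, or_false] at e1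
  rcases e1 with e1 | ⟨rfl, rfl⟩ | ⟨rfl, rfl⟩ | ⟨rfl, rfl⟩ | ⟨rfl, rfl⟩ | ⟨rfl, rfl⟩ | ⟨rfl, rfl⟩
  · exact e1
  all_goals push_cast at e
  exacts [absurd (by linear_combination e) a0, absurd (by linear_combination e) b0, absurd (by linear_combination e) s0,
    absurd (by linear_combination -e) a0, absurd (by linear_combination -e) b0, absurd (by linear_combination -e) s0]

include hp in
theorem shape (K : Kac chevE6 6 r c c0) (hn : nK chevE6 6 r c = 24) :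
    c0 ≠ 0 ∧ c 0 ≠ 0 ∧ c 1 = 0 ∧ c 2 = 0 ∧ c 3 = 0 ∧ c 4 = 0 ∧ c 5 ≠ 0 := by
  have e : (fun i => decide (c i ≠ 0)) = ![decide (c 0 ≠ 0), decide (c 1 ≠ 0), decide (c 2 ≠ 0), decide (c 3 ≠ 0),
      decide (c 4 ≠ 0), decide (c 5 ≠ 0)] := by
    funext i
    fin_cases i <;> rfl
  have m := mask (decide (c0 = 0)) _ _ _ _ _ _
    ((congrArg Finset.card (Finset.filter_congr fun s _ => (e ▸ kl_iff hp K s).symm)).trans hn)
  simpa only [List.cons.injEq, decide_eq_false_iff_not, decide_eq_true_eq, not_not, and_true] using m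

theorem hr05 : hr chevE6 6 0 = 1 ∧ hr chevE6 6 5 = 1 := by decide +kernel

theorem vv : (![1, 0, -1, 0, 1, -1] : Fin 6 → ℤ) = sr 0 - sr 2 + sr 4 - sr 5 := by decide

include hp in
theorem main [Fact r.Prime] (K : Kac chevE6 6 r c c0) (hn : nK chevE6 6 r c = 24) (u : Module.End ℤ (Fin 6 → ℤ))
    (hu : ∀ i, ∃ s : Fin chevE6.nroots, vec chevE6 6 s = u (sr i))
    (h3 : ∃ x, u ![1, 0, -1, 0, 1, -1] = ![1, 0, -1, 0, 1, -1] + (3 : ℤ) • x) {k : ZMod r} (k0 : k ≠ 0)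
    (hk : ∀ x, ((bb c (u x) : ℤ) : ZMod r) = k * (bb c x : ℤ)) : k ^ 2 = 1 ∨ k ^ 3 = 1 := by
  obtain ⟨m0, m1, m2, m3, m4, m5, m6⟩ := shape hp K hn
  have h1 : ∀ x, bb c x = x 0 * c 0 + x 5 * c 5 := fun x => by simp [bb_eq, Fin.sum_univ_six, m2, m3, m4, m5]
  have h2 : c0 + (c 0 + c 5) = r := by
    have h := bb_hr K
    rw [h1, hr05.1, hr05.2] at h
    omega
  have h0 : ∀ n : ℕ, n ≠ 0 → n < r → (n : ZMod r) ≠ 0 := fun n a b e =>
    absurd (Nat.le_of_dvd (Nat.pos_of_ne_zero a) ((ZMod.natCast_eq_zero_iff _ _).1 e)) b.not_ge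
  have a0 := h0 (c 0) m1 (by omega)
  have b0 := h0 (c 5) m6 (by omega)
  have s0 := h0 (c 0 + c 5) (by omega) (by omega)
  rw [Nat.cast_add] at s0
  have h4 : ∀ i, (u (sr i) 0, u (sr i) 5) ∈ [((0 : ℤ), (0 : ℤ)), (1, 0), (0, 1), (1, 1), (-1, 0), (0, -1), (-1, -1)] := fun i => by
    obtain ⟨s, e⟩ := hu i
    rw [← e]
    exact hex s
  have h5 : ∀ i, ((u (sr i) 0 : ℤ) : ZMod r) * c 0 + (u (sr i) 5 : ℤ) * c 5 = k * c i := fun i => by
    have h := hk (sr i)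
    rw [h1, bb_sr] at h
    exact_mod_cast h
  have h6 := arith0 a0 b0 s0 (h4 2) (by rw [h5, m3, Nat.cast_zero, mul_zero])
  have h7 := arith0 a0 b0 s0 (h4 4) (by rw [h5, m5, Nat.cast_zero, mul_zero])
  obtain ⟨x, hx⟩ := h3
  have h8 := (congrArg u vv).symm.trans hx
  rw [map_sub, map_add, map_sub] at h8
  have x0 : u (sr 0) 0 - u (sr 2) 0 + u (sr 4) 0 - u (sr 5) 0 = 1 + 3 * x 0 := congrFun h8 0
  have x5 : u (sr 0) 5 - u (sr 2) 5 + u (sr 4) 5 - u (sr 5) 5 = -1 + 3 * x 5 := congrFun h8 5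
  rw [h6.1, h7.1, sub_zero, add_zero] at x0
  rw [h6.2, h7.2, sub_zero, add_zero] at x5
  exact arith k0 a0 b0 (h4 0) (h4 5) (h5 0) (h5 5) x0 x5

end Six

/-- **[Six]** -/
theorem boxSix : BoxSix := by
  intro M hp p _ y r j hr h5 hrp hy hd h h6
  have : Fact r.Prime := ⟨hr⟩
  have hy' : y ^ r = 1 := hy ▸ pow_orderOf_eq_one y
  have h1 : y ≠ 1 := fun h => by
    rw [h, orderOf_one] at hy
    exact hr.ne_one hy.symm
  have hj : (j : ZMod r) ≠ 0 := fun h0 => by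
    rw [ZMod.natCast_eq_zero_iff, ← hy, orderOf_dvd_iff_pow_eq_one] at h0
    rw [h0, isConj_one_left] at h
    exact h1 h
  obtain ⟨x, ζ, c, c0, a1, a2, a3, a4, -⟩ := CI.exists_kacform hp hr hrp hy' h1
  have h2 := dd_tor_zpow hp a3 a1 (f := bb c) a4
  rw [dd_conj, hd] at h2
  obtain ⟨g, hg⟩ := isConj_iff.1 h
  obtain ⟨-, -, w, v, hv, h3, -⟩ := form₂ hp (ι := Unit) (s := fun _ => x * y * x⁻¹) (t := fun _ => (x * y * x⁻¹) ^ j)
    (fun _ => a3) (fun _ => pow_mem a3 j) (c := x * g * x⁻¹) fun _ => by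
      rw [conj_pow, ← hg]
      group
  have h4 : v * (x * y * x⁻¹) * v⁻¹ = (x * y * x⁻¹) ^ j := by rw [h3 (), mul_inv_cancel_right]
  have h7 := Six.main hp a2 (Nat.add_left_cancel (n := 6) h2.symm) (rep M.toCoxeterSystem hp.isCartan w) (fun i => by
      obtain ⟨s, hs, e⟩ := (isRoot_iff hp M.toCoxeterSystem _).1 ((isRoot_sr M.toCoxeterSystem hp.isCartan i).act w)
      exact ⟨⟨s, hs⟩, e⟩) (Six.fix3 hp w) (inv_ne_zero hj) fun b => by
    have h8 := hv.cX a3 b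
    have h0 := a1.ne_zero hr.ne_zero
    rw [h4, H129.TorusChar.cX_pow hp a3, a4, a4, ← zpow_natCast, ← zpow_mul] at h8
    rw [eq_inv_mul_iff_mul_eq₀ hj, mul_comm, ← Int.cast_natCast, ← Int.cast_mul, eq_comm, ZMod.intCast_eq_intCast_iff_dvd_sub,
      ← a1.zpow_eq_one_iff_dvd, zpow_sub₀ h0, h8, div_self (zpow_ne_zero _ h0)]
  rw [inv_pow, inv_pow, inv_eq_one, inv_eq_one] at h7
  rcases h7 with h7 | h7 <;> exact absurd (h6.trans (orderOf_dvd_of_pow_eq_one h7)) (by norm_num)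

end Cfsg.Agent.N2.Ex.Sm
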