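import Cfsg.Agent.N2.Ex.Sim.TrA
import Cfsg.Agent.N2.Tri.S4

/-!
# N2 (S3519), simple socle: triples of small linear, symplectic and unitary groups (helper85)
-/

set_option autoImplicit false
set_option maxRecDepth 100000

namespace Cfsg.Agent.N2.Ex.Sm.Trp

open Cfsg Cfsg.Agent.N2.Tg Cfsg.Agent.N2.Tg.Eng

variable {N : Type} [Group N]

theorem tr_l2_4_2_3_5 (h : OrdDiv.Real (.psl 2 4) N) : Sm.Tr N 2 3 5 :=
  full ((has_L (B := 8) (n := 4) (o := 60) rg4 (il_fin 2 (by decide)) h (by decide) (by decide +kernel) (by decide)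
      [mat 2 (b2 2 1 1) Fin.val [[1, 0], [3, 1]],
      mat 2 (b2 2 1 1) Fin.val [[0, 1], [1, 1]]]
      (two_mem (by simp only [Matrix.det_fin_two]; decide +kernel))).ext [[0], [1]]
      [[577, 72, 64, 512],
      [64, 512, 65, 520]] (by decide +kernel))
    [(1, 15, 12, [[1, 1, 0, 1], [1, 0, 1, 0, 1, 1, 0, 1, 0]]),
      (64, 4, 2, [])]
    (by decide +kernel)

theorem tr_l2_5_2_3_5 (h : OrdDiv.Real (.psl 2 5) N) : Sm.Tr N 2 3 5 :=
  full ((has_L (B := 64) (n := 2) (o := 120) (rg_prime 5 (by norm_num)) (il_fin 2 (by decide)) h (by decide) (by decide +kernel) (by decide)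
      [mat 5 ([1] : List (ZMod 5)) Fin.val [[4, 3], [1, 1]],
      mat 5 ([1] : List (ZMod 5)) Fin.val [[1, 1], [4, 0]]]
      (two_mem (by simp only [Matrix.det_fin_two]; decide +kernel))).ext [[0], [1]]
      [[68, 67],
      [257, 1]] (by decide +kernel))
    [(1, 24, 16, [[0, 1]]),
      (64, 5, 4, [])]
    (by decide +kernel)

theorem tr_l2_7_3_4_4 (h : OrdDiv.Real (.psl 2 7) N) : Sm.Tr N 3 4 4 :=
  full ((has_L (B := 128) (n := 2) (o := 336) (rg_prime 7 (by norm_num)) (il_fin 2 (by decide)) h (by decide) (by decide +kernel) (by decide)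
      [mat 7 ([1] : List (ZMod 7)) Fin.val [[2, 0], [5, 4]],
      mat 7 ([1] : List (ZMod 7)) Fin.val [[3, 5], [4, 0]]]
      (two_mem (by simp only [Matrix.det_fin_two]; decide +kernel))).ext [[0], [1]]
      [[642, 512],
      [515, 5]] (by decide +kernel))
    [(1, 48, 40, [[1, 0, 0, 1, 1, 0]]),
      (128, 7, 6, [])]
    (by decide +kernel)

theorem tr_l2_9_2_4_5 (h : OrdDiv.Real (.psl 2 9) N) : Sm.Tr N 2 4 5 :=
  full ((has_L (B := 32) (n := 4) (o := 720) rg9 (il_fin 2 (by decide)) h (by decide) (by decide +kernel) (by decide)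
      [mat 3 (b2 3 2 0) Fin.val [[3, 0], [8, 6]],
      mat 3 (b2 3 2 0) Fin.val [[8, 5], [0, 7]]]
      (two_mem (by simp only [Matrix.det_fin_two]; decide +kernel))).ext [[0], [1]]
      [[67616, 66562, 65536, 1024],
      [66, 65, 66594, 33858]] (by decide +kernel))
    [(1, 80, 72, [[0, 1, 0, 1, 1, 1, 0, 1, 1], [1, 0, 1, 0, 1, 1, 1, 0, 1]]),
      (1024, 9, 6, [])]
    (by decide +kernel)

theorem tr_l2_11_2_5_5 (h : OrdDiv.Real (.psl 2 11) N) : Sm.Tr N 2 5 5 :=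
  full ((has_L (B := 256) (n := 2) (o := 1320) (rg_prime 11 (by norm_num)) (il_fin 2 (by decide)) h (by decide) (by decide +kernel) (by decide)
      [mat 11 ([1] : List (ZMod 11)) Fin.val [[1, 1], [9, 10]],
      mat 11 ([1] : List (ZMod 11)) Fin.val [[5, 0], [7, 9]]]
      (two_mem (by simp only [Matrix.det_fin_two]; decide +kernel))).ext [[0], [1]]
      [[2305, 2561],
      [1797, 2304]] (by decide +kernel))
    [(1, 120, 114, [[0, 1, 0, 1, 1]]),
      (256, 11, 10, [])]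
    (by decide +kernel)

theorem tr_l2_11_3_3_5 (h : OrdDiv.Real (.psl 2 11) N) : Sm.Tr N 3 3 5 :=
  full ((has_L (B := 256) (n := 2) (o := 1320) (rg_prime 11 (by norm_num)) (il_fin 2 (by decide)) h (by decide) (by decide +kernel) (by decide)
      [mat 11 ([1] : List (ZMod 11)) Fin.val [[6, 2], [1, 6]],
      mat 11 ([1] : List (ZMod 11)) Fin.val [[5, 6], [4, 5]]]
      (two_mem (by simp only [Matrix.det_fin_two]; decide +kernel))).ext [[0], [1]]
      [[262, 1538],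
      [1029, 1286]] (by decide +kernel))
    [(1, 120, 118, [[1, 0, 1]]),
      (256, 11, 10, [])]
    (by decide +kernel)

theorem tr_l3_3_2_8_8 (h : OrdDiv.Real (.psl 3 3) N) : Sm.Tr N 2 8 8 :=
  full ((has_L (B := 16) (n := 3) (o := 5616) (rg_prime 3 (by norm_num)) (il_fin 3 (by decide)) h (by decide) (by decide +kernel) (by decide)
      [mat 3 ([1] : List (ZMod 3)) Fin.val [[0, 0, 1], [2, 2, 2], [1, 0, 0]],
      mat 3 ([1] : List (ZMod 3)) Fin.val [[2, 0, 2], [2, 0, 0], [2, 1, 1]]]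
      (two_mem (by simp only [Matrix.det_fin_three]; decide +kernel))).ext [[0], [1]]
      [[288, 32, 33],
      [546, 256, 258]] (by decide +kernel))
    [(1, 26, 22, [[0, 1, 1, 0, 1, 0, 1], [1, 1, 0, 1, 0, 1, 0, 1]]),
      (16, 24, 17, [[1, 1], [0, 0, 1, 1, 0, 0]]),
      (256, 9, 6, [])]
    (by decide +kernel)

theorem tr_l3_3_3_3_4 (h : OrdDiv.Real (.psl 3 3) N) : Sm.Tr N 3 3 4 :=
  full ((has_L (B := 16) (n := 3) (o := 5616) (rg_prime 3 (by norm_num)) (il_fin 3 (by decide)) h (by decide) (by decide +kernel) (by decide)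
      [mat 3 ([1] : List (ZMod 3)) Fin.val [[0, 2, 2], [2, 0, 2], [0, 1, 0]],
      mat 3 ([1] : List (ZMod 3)) Fin.val [[1, 0, 1], [0, 1, 2], [2, 2, 1]]]
      (two_mem (by simp only [Matrix.det_fin_three]; decide +kernel))).ext [[0], [1]]
      [[32, 258, 34],
      [513, 528, 289]] (by decide +kernel))
    [(1, 26, 20, [[0, 1], [1, 0, 0, 1, 0, 1, 1, 0]]),
      (16, 24, 19, [[0, 1, 0, 1], [0, 0, 1, 1, 0]]),
      (256, 9, 6, [])]
    (by decide +kernel)

theorem tr_l3_4_2_5_5 (h : OrdDiv.Real (.psl 3 4) N) : Sm.Tr N 2 5 5 :=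
  full ((has_L (B := 8) (n := 6) (o := 60480) rg4 (il_fin 3 (by decide)) h (by decide) (by decide +kernel) (by decide)
      [mat 2 (b2 2 1 1) Fin.val [[3, 0, 0], [0, 3, 0], [1, 2, 3]],
      mat 2 (b2 2 1 1) Fin.val [[2, 1, 2], [2, 0, 3], [0, 2, 1]]]
      (two_mem (by simp only [Matrix.det_fin_three]; decide +kernel))).ext [[0], [1]]
      [[4105, 32769, 33344, 36928, 36864, 4096],
      [520, 585, 32769, 36872, 4680, 32841]] (by decide +kernel))
    [(1, 63, 56, [[0, 1, 1, 0, 1, 0, 1], [1, 1, 0, 1, 0, 1, 1], [1, 0, 1, 0, 1, 0, 1, 1, 0]]),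
      (64, 60, 49, [[1, 1], [0, 1, 1, 0, 2], [1, 2, 1, 1, 2], [0, 0, 2, 0, 0, 2]]),
      (4096, 16, 7, [])]
    (by decide +kernel)

theorem tr_l3_8_2_3_63 [Finite N] [IsSimpleGroup N] (hn : ¬ IsMulCommutative N) (h : OrdDiv.Real (.psl 3 8) N) (hd : 73 ∣ Nat.card N) :
    Sm.Tr N 2 3 63 :=
  part hn (by norm_num) hd ((has_L (B := 16) (n := 9) (o := 16482816) rg8 (il_fin 3 (by decide)) h (by decide) (by decide +kernel) (by decide)
      [mat 2 (b3 2) Fin.val [[1, 0, 0], [3, 6, 7], [3, 7, 6]],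
      mat 2 (b3 2) Fin.val [[6, 7, 2], [4, 6, 7], [6, 6, 0]]]
      (two_mem (by simp only [Matrix.det_fin_three]; decide +kernel))).ext [[0], [1]]
      [[285282305, 4564516880, 4581298432, 4581294080, 4312862720, 17829888, 4564520960, 4581232640, 4311748608],
      [4564451600, 4580249873, 4312858881, 4564517137, 4581298433, 4312797185, 1118224, 1052928, 4113]] (by decide +kernel))
    [(1, 449, 399, [[0, 1, 0, 1, 1, 0], [1, 1, 0, 1, 0, 1], [1, 0, 1, 0, 1, 1, 0, 1, 1]]),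
      (4096, 504, 438, [])]
    (by decide +kernel)

theorem tr_l4_3_2_4_13 (h : OrdDiv.Real (.psl 4 3) N) : Sm.Tr N 2 4 13 :=
  full ((has_L (B := 32) (n := 4) (o := 12130560) (rg_prime 3 (by norm_num)) (il_fin 4 (by decide)) h (by decide) (by decide +kernel) (by decide)
      [mat 3 ([1] : List (ZMod 3)) Fin.val [[0, 2, 2, 2], [1, 0, 2, 0], [0, 0, 2, 2], [0, 0, 2, 1]],
      mat 3 ([1] : List (ZMod 3)) Fin.val [[0, 1, 1, 1], [1, 2, 1, 0], [0, 0, 1, 0], [2, 1, 1, 2]]]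
      (two_mem (by decide +kernel))).ext [[0], [1]]
      [[32, 2, 67650, 34818],
      [65568, 32833, 33825, 65537]] (by decide +kernel))
    [(1, 80, 76, [[0, 1, 1, 0], [1, 1, 0, 1, 1, 0, 1, 0, 1, 1]]),
      (32, 78, 73, [[1, 1, 0], [0, 1, 0, 1, 1, 0, 1, 0, 1, 1, 1]]),
      (1024, 72, 61, [[0, 0, 0, 1, 1, 0], [0, 1, 1, 0, 0, 0], [1, 0, 1, 1, 0, 1]]),
      (32768, 27, 21, [])]
    (by decide +kernel)

theorem tr_s4_7_2_3_24 [Finite N] [IsSimpleGroup N] (hn : ¬ IsMulCommutative N) (h : OrdDiv.Real (.psp 2 7) N) (hd : 7 ∣ Nat.card N) :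
    Sm.Tr N 2 3 24 :=
  part hn (by norm_num) hd ((has_S (B := 256) (n := 4) (o := 276595200) (rg_prime 7 (by norm_num)) (il_two 2 2 (by decide)) h (by decide +kernel)
      [mat 7 ([1] : List (ZMod 7)) (ix2 2) [[3, 2, 1, 2], [0, 4, 2, 1], [1, 5, 4, 0], [5, 1, 5, 3]],
      mat 7 ([1] : List (ZMod 7)) (ix2 2) [[6, 6, 3, 1], [4, 6, 5, 5], [1, 3, 4, 3], [4, 3, 0, 6]]]
      (two_mem (by decide +kernel))).ext [[0], [1]]
      [[83951619, 17105922, 84148737, 50331906],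
      [67175430, 50529798, 263427, 100861185]] (by decide +kernel))
    [(1, 343, 213, [[0, 1, 0, 1, 0, 1, 1, 0], [0, 1, 1, 0, 1, 1, 0, 1, 0, 1, 0, 1, 0, 1, 0, 1, 1]]),
      (65536, 343, 334, [[1, 1, 0, 0, 1, 1, 0, 0, 1, 1], [1, 0, 1, 1, 0, 0, 1, 1, 0, 1, 0]]),
      (256, 48, 42, [[0, 1, 1, 1, 0, 1]]),
      (16777216, 7, 6, [])]
    (by decide +kernel)

theorem tr_u3_3_2_7_7 (h : OrdDiv.Real (.psu 3 3) N) : Sm.Tr N 2 7 7 :=
  full ((has_U (B := 32) (n := 6) (o := 6048) (s := 1) rg9 (il_fin 3 (by decide)) (by norm_num) h (by decide) (by decide)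
      (by decide +kernel)
      [mat 3 (b2 3 2 0) Fin.val [[1, 8, 1], [5, 0, 7], [1, 4, 1]],
      mat 3 (b2 3 2 0) Fin.val [[5, 0, 5], [2, 5, 1], [3, 8, 6]]]
      (two_mem (by simp only [Matrix.det_fin_three]; decide +kernel))).ext [[0], [1]]
      [[1083393, 33622048, 34603074, 35651649, 1115137, 33588256],
      [33556514, 2162754, 69240832, 68225024, 67109922, 1081410]] (by decide +kernel))
    [(1, 252, 238, [[1, 0, 1, 1, 0, 1], [1, 1, 1, 0, 1, 1, 1, 1, 0, 1]]),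
      (1024, 24, 21, [])]
    (by decide +kernel)

theorem tr_u3_3_2_6_8 (h : OrdDiv.Real (.psu 3 3) N) : Sm.Tr N 2 6 8 :=
  full ((has_U (B := 32) (n := 6) (o := 6048) (s := 1) rg9 (il_fin 3 (by decide)) (by norm_num) h (by decide) (by decide)
      (by decide +kernel)
      [mat 3 (b2 3 2 0) Fin.val [[0, 7, 8], [4, 1, 3], [5, 6, 1]],
      mat 3 (b2 3 2 0) Fin.val [[6, 2, 5], [3, 4, 6], [8, 3, 1]]]
      (two_mem (by simp only [Matrix.det_fin_three]; decide +kernel))).ext [[0], [1]]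
      [[35685376, 69240832, 67109953, 1081377, 1081410, 33556545],
      [69238848, 68159489, 33588226, 2132032, 1114146, 33555522]] (by decide +kernel))
    [(1, 252, 238, [[0, 1, 1, 0, 1, 0, 1, 0, 1, 0], [1, 0, 1, 1, 1, 0, 1, 0, 1, 1]]),
      (1024, 24, 22, [])]
    (by decide +kernel)

theorem tr_u3_3_3_4_7 (h : OrdDiv.Real (.psu 3 3) N) : Sm.Tr N 3 4 7 :=
  full ((has_U (B := 32) (n := 6) (o := 6048) (s := 1) rg9 (il_fin 3 (by decide)) (by norm_num) h (by decide) (by decide)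
      (by decide +kernel)
      [mat 3 (b2 3 2 0) Fin.val [[7, 6, 6], [6, 7, 6], [6, 6, 7]],
      mat 3 (b2 3 2 0) Fin.val [[7, 3, 3], [2, 8, 6], [6, 1, 7]]]
      (two_mem (by simp only [Matrix.det_fin_three]; decide +kernel))).ext [[0], [1]]
      [[67174465, 1049633, 67175488, 1082369, 68223040, 34604033],
      [67110977, 1114145, 1116192, 33620994, 68223008, 34604034]] (by decide +kernel))
    [(1, 252, 251, [[1, 1, 0, 1, 1], [0, 0, 1, 1, 1, 0, 1, 0]]),
      (1024, 24, 20, [])]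
    (by decide +kernel)

theorem tr_u3_4_2_3_15 [Finite N] [IsSimpleGroup N] (hn : ¬ IsMulCommutative N) (h : OrdDiv.Real (.psu 3 4) N) (hd : 13 ∣ Nat.card N) :
    Sm.Tr N 2 3 15 :=
  part hn (by norm_num) hd ((has_U (B := 16) (n := 12) (o := 62400) (s := 2) rg16 (il_fin 3 (by decide)) (by norm_num) h (by decide) (by decide)
      (by decide +kernel)
      [mat 2 b4 Fin.val [[3, 13, 9], [14, 2, 12], [11, 15, 0]],
      mat 2 b4 Fin.val [[1, 10, 14], [4, 9, 14], [11, 9, 8]]]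
      (two_mem (by simp only [Matrix.det_fin_three]; decide +kernel))).ext [[0], [1]]
      [[17665486749713, 18696010530817, 1172542918912, 17596750496000, 18764713169153, 1103807709456, 4563406849, 69004693776, 285216769, 16781584, 285282577, 17826049],
      [17665217265665, 18696261074960, 1172543897856, 17596750565376, 17596749516816, 18760703414545, 18764998443025, 1103823437825, 17592472310032, 18691715563793, 17665217331457, 18696262127632]] (by decide +kernel))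
    [(1, 81, 62, [[1, 1, 0, 1, 1, 0, 1, 0, 1], [0, 1, 1, 0, 1, 0, 1, 1, 0, 1, 0, 1, 0, 1, 1, 0, 1, 0]]),
      (65536, 60, 48, [])]
    (by decide +kernel)

theorem tr_u4_2_2_4_9 (h : OrdDiv.Real (.psu 4 2) N) : Sm.Tr N 2 4 9 :=
  full ((has_U (B := 16) (n := 8) (o := 25920) (s := 1) rg4 (il_fin 4 (by decide)) (by norm_num) h (by decide) (by decide)
      (by decide +kernel)
      [mat 2 (b2 2 1 1) Fin.val [[1, 0, 2, 2], [0, 1, 2, 2], [3, 3, 1, 0], [3, 3, 0, 1]],
      mat 2 (b2 2 1 1) Fin.val [[3, 0, 2, 1], [3, 2, 0, 1], [1, 3, 3, 0], [0, 3, 3, 2]]]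
      (two_mem (by decide +kernel))).ext [[0], [1]]
      [[286326785, 16842768, 286327040, 16846848, 69648, 1052945, 16781328, 268439825],
      [69905, 1048833, 286330880, 16847104, 286326800, 16842769, 268435713, 285216784]] (by decide +kernel))
    [(1, 120, 111, [[0, 1, 0], [1, 1, 1, 0, 1, 0, 1]]),
      (256, 36, 31, [[1, 1], [0, 1, 1, 0, 0, 0]]),
      (65536, 6, 4, [])]
    (by decide +kernel)

theorem tr_u4_2_2_6_5 (h : OrdDiv.Real (.psu 4 2) N) : Sm.Tr N 2 6 5 :=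
  full ((has_U (B := 16) (n := 8) (o := 25920) (s := 1) rg4 (il_fin 4 (by decide)) (by norm_num) h (by decide) (by decide)
      (by decide +kernel)
      [mat 2 (b2 2 1 1) Fin.val [[1, 2, 0, 1], [3, 0, 3, 3], [0, 2, 1, 1], [1, 2, 1, 0]],
      mat 2 (b2 2 1 1) Fin.val [[3, 0, 0, 0], [0, 2, 2, 1], [0, 2, 1, 2], [0, 1, 2, 2]]]
      (two_mem (by decide +kernel))).ext [[0], [1]]
      [[16781569, 268435728, 269484048, 286326801, 16847104, 269484288, 69889, 1048848],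
      [17, 1, 17829888, 269553920, 268505088, 286265600, 269484288, 286330880]] (by decide +kernel))
    [(1, 120, 87, [[0, 1, 1, 0, 1, 0, 1, 1], [1, 0, 1, 1, 0, 1, 0, 1]]),
      (256, 36, 31, [[0, 0, 1, 1, 0, 0], [0, 1, 1, 0, 0, 0]]),
      (65536, 6, 4, [])]
    (by decide +kernel)

theorem tr_s4_3_2_4_9 (h : OrdDiv.Real (.psp 2 3) N) : Sm.Tr N 2 4 9 :=
  let ⟨x, y, h1, h2, h3, h4, _⟩ := S4.dat_s4_3J h
  ⟨x, y, h1, h2, h4, h3⟩

end Cfsg.Agent.N2.Ex.Sm.Trp
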