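import Cfsg.Agent.KM.Nt
import Cfsg.Agent.KM.Tor.Gen
import Cfsg.Agent.TO.E6.Tool

/-!
# N2 (S3519), simple socle, box `Cj`: fusion and tori from a datum (helper30)

* `fus` : if `Mx ^ d = m`, semisimple elements of `G ^ F` are conjugate to their `m`-th powers;
* `exists_ord` : elements of order `n` in a twisted torus;
* `fus_3D4`, `fus_2B2`, `fus_2G2`, `fus_2F4`, `sy_G2`, `sy_D4`.
-/

set_option autoImplicit false
set_option linter.unusedSectionVars false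
set_option maxHeartbeats 200000

namespace Cfsg.Agent.N2.Ex.Sm.CT

open Cfsg Cfsg.Lie Cfsg.Lie.ChevalleyDatum Matrix
open Cfsg.Agent.DL Cfsg.Agent.DL.Datum Cfsg.Agent.DL.Ex Cfsg.Agent.KZ.DatX Cfsg.Agent.KM.Nt Cfsg.Agent.Nodes.RGDChev
  Cfsg.Agent.Nodes.BNOf Cfsg.Agent.Nodes.Reps

section Gen

variable {p : ℕ} [Fact p.Prime] {k : Type} [Field k] [CharP k p] {Y : Type} [Group Y] {N : Type} [Fintype N]
  [DecidableEq N] {ρ : Y →* GL N k} {F : MulAut Y} {G : Subgroup Y} [IsAlgClosed k] (D : Datum p ρ F G)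

theorem pow_Wm (w : D.W) (d : ℕ) : ∃ u, (D.Wm w * D.Mx) ^ d = D.Wm u * D.Mx ^ d := by
  induction d with
  | zero => exact ⟨1, by rw [pow_zero, pow_zero, D.Wm_one, one_mul]⟩
  | succ d ih =>
    obtain ⟨u, hu⟩ := ih
    refine ⟨w * D.Fw u, ?_⟩
    rw [pow_succ', hu, mul_assoc, ← mul_assoc D.Mx, D.Mx_Wm, D.Wm_mul, pow_succ']
    simp only [mul_assoc]

theorem fus0 {d m : ℕ} (hm : m ≠ 0) (hM : D.Mx ^ d = (m : ℤ) • 1) {s : Y} (hs : s ∈ GF F G) (hss : ¬ p ∣ orderOf s) :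
    ∃ g ∈ GF F G, g * s ^ m * g⁻¹ = s := by
  obtain ⟨y, hy, ⟨v, hv⟩, h⟩ := TO.E6.exists_frame D hs hss
  obtain ⟨c, hc⟩ := (D.mem_T _).1 (mem_cj.1 h)
  obtain ⟨u, hu⟩ := pow_Wm D v d
  rw [hM, mul_smul_comm, mul_one] at hu
  obtain ⟨g, h1, h2⟩ := TO.E6.exists_fix_rep_conj D hy hv (u := u)
    (smul_right_injective _ (Int.natCast_ne_zero.2 hm) (by
      show (m : ℤ) • _ = (m : ℤ) • _
      rw [← mul_smul_comm, ← smul_mul_assoc, ← hu, ← pow_succ, ← pow_succ']))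
  have h3 : mon (D.Wm v * D.Mx) c = c := D.τ_inj (by
    rw [mon_mul, ← D.conj_τ hv, ← D.F_τ, hc, map_mul, map_mul, map_inv, (mem_GF.1 hs).2]
    group)
  have h4 : mon ((D.Wm v * D.Mx) ^ d) c = c := by rw [mon_pow]; exact Function.iterate_fixed h3 d
  have h5 := D.conj_τ h2 c
  have h6 : D.τ (mon (D.Wm u) c) ^ m = D.τ c := by rw [← map_pow, ← zpow_natCast, ← mon_zsmul, ← hu, h4]
  rw [← h5, hc, conj_pow, show y⁻¹ * s * y = y⁻¹ * s * y⁻¹⁻¹ by rw [inv_inv], conj_pow] at h6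
  refine ⟨g, h1, ?_⟩
  calc _ = y * (y⁻¹ * g * y * (y⁻¹ * s ^ m * y⁻¹⁻¹) * (y⁻¹ * g * y)⁻¹) * y⁻¹ := by group
    _ = _ := by rw [h6]; group

theorem exists_ord0 (w : D.W) {n : ℕ} (hn : ¬ p ∣ n) (v : D.R → ℤ) (i : D.R) (hi : v i = 1)
    (h : ∀ j, (n : ℤ) ∣ ((D.Wm w * D.Mx) *ᵥ v) j - v j) : ∃ t ∈ GF F G, orderOf t = n := by
  obtain ⟨ω, hω⟩ := KM.Tor.exists_prim p k hn
  obtain ⟨y, hy, h1⟩ := D.exists_type w
  have h2 : mon (D.Wm w * D.Mx) (coch v ω) = coch v ω := by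
    rw [mon_coch]
    funext j
    rw [coch_apply, coch_apply, ← mul_inv_eq_one, ← _root_.zpow_sub, ← orderOf_dvd_iff_zpow_eq_one, hω]
    exact h j
  refine ⟨_, mem_GF.2 ⟨mul_mem (mul_mem hy (D.T_le_G (D.τ_mem _))) (inv_mem hy), TO.E6.fix_conj D h1 h2⟩, ?_⟩
  have h3 : Function.Injective (coch v : kˣ →* (D.R → kˣ)) := fun a b e => by
    simpa only [coch_apply, hi, zpow_one] using congrFun e i
  rw [← MulAut.conj_apply, ← MulEquiv.coe_toMonoidHom, orderOf_injective _ (MulAut.conj y).injective,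
    orderOf_injective _ D.τ_inj, orderOf_injective _ h3, hω]

end Gen

section Fr

variable {C : ChevalleyDatum} {l : ℕ} {M : CoxeterMatrix (Fin l)} {hp : IsType C l M} {p : ℕ} [Fact p.Prime] {k : Type}
  [Field k] [CharP k p] [IsAlgClosed k] {Mx : Matrix (Fin l) (Fin l) ℤ} {X : XF hp p k Mx}
  {Adm : Matrix (Fin l) (Fin l) ℤ → Prop} {S : Type} [Group S]

theorem fus (s : XS X Adm 1 S) {d m : ℕ} (hm : m ≠ 0) (hM : Mx ^ d = (m : ℤ) • 1) {z : S} (hz : ¬ p ∣ orderOf z) :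
    IsConj z (z ^ m) := by
  obtain ⟨g, h1, h2⟩ := fus0 X.D hm hM (s.ov.mem z) (by rwa [orderOf_injective _ s.ov.inj])
  obtain ⟨a, rfl⟩ := s.ov.range_eq.ge h1
  refine IsConj.symm (isConj_iff.2 ⟨a, s.ov.inj ?_⟩)
  rwa [map_mul, map_mul, map_inv, map_pow]

theorem exists_ord {d : ℕ} (s : XS X Adm d S) (L : List (Fin l)) {n : ℕ} (hn : ¬ p ∣ n) (hd : n.Coprime d) (v : Fin l → ℤ)
    (i : Fin l) (hi : v i = 1) (h : ∀ j, (n : ℤ) ∣ (((L.map (sM C l)).prod * Mx) *ᵥ v) j - v j) : ∃ t : S, orderOf t = n := by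
  obtain ⟨t, h1, h2⟩ := exists_ord0 X.D (M.toCoxeterSystem.wordProd L) hn v i hi (by rw [X.Wm_word]; exact h)
  obtain ⟨a, ha⟩ := s.ov.mem_range.1 (s.ov.pow_mem ⟨t, h1⟩)
  refine ⟨a, ?_⟩
  rw [← orderOf_injective _ s.ov.inj, ha, Subgroup.coe_pow, (h2 ▸ hd : (orderOf t).Coprime d).orderOf_pow, h2]

end Fr

section Rows

variable {r : ℕ} [Fact r.Prime] {F : Type} [Field F] [Fintype F] [CharP F r] {e : ℕ}

theorem fus_3D4 (hK : Fintype.card F = (r ^ e) ^ 3) {z : ↥(twistedD4 F (r ^ e))} (hz : ¬ r ∣ orderOf z) :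
    IsConj z (z ^ (r ^ e) ^ 3) := by
  obtain ⟨k, _, _, _, X, -, ⟨s⟩⟩ := KM.Nt.has_3D4 hK
  refine fus s (d := 3) (pow_ne_zero _ (pow_ne_zero _ (Fact.out : r.Prime).ne_zero)) ?_ hz
  rw [_root_.smul_pow, P4_cube]
  push_cast
  rfl

theorem not_dvd (he : e ≠ 0) : ¬ r ∣ (r ^ e) ^ 2 + r ^ e + 1 := fun h =>
  (Fact.out : r.Prime).one_lt.ne' (Nat.dvd_one.1 ((Nat.dvd_add_right
    (dvd_add ((dvd_pow_self r he).pow two_ne_zero) (dvd_pow_self r he))).1 h))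

theorem cop_sy (q : ℕ) : (q ^ 2 + q + 1).Coprime (Nat.gcd 2 (q - 1)) := by
  refine Nat.Coprime.coprime_dvd_right (Nat.gcd_dvd_left _ _) ((Nat.coprime_two_right).2 ?_)
  rw [show q ^ 2 + q + 1 = q * (q + 1) + 1 by ring]
  exact (Nat.even_mul_succ_self q).add_one

theorem wG : (([0, 1, 0, 1] : List (Fin 2)).map (sM chevG2 2)).prod = !![-2, -1; 3, 1] := by decide +kernel

theorem wD : (([0, 1] : List (Fin 4)).map (sM chevD4 4)).prod = !![-1, -1, 0, 0; 1, 0, 0, 0; 0, 1, 1, 0; 0, 1, 0, 1] := by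
  decide +kernel

theorem sy_G2 (he : e ≠ 0) (hF : Fintype.card F = r ^ e) (hq : 3 ≤ r ^ e) :
    ∃ t : ↥(chevG2.group F), orderOf t = (r ^ e) ^ 2 + r ^ e + 1 := by
  obtain ⟨k, _, _, _, X, -, ⟨s⟩⟩ := KM.Nt.has_G2 hF (hF ▸ hq)
  refine exists_ord s [0, 1, 0, 1] (not_dvd he) (Nat.coprime_one_right _) ![1, (r : ℤ) ^ e - 1] 0 rfl fun j => ?_
  rw [wG, mul_smul_comm, mul_one]
  push_cast
  generalize (r : ℤ) ^ e = q
  fin_cases j
  · exact ⟨-1, by simp [mulVec, dotProduct, Fin.sum_univ_two]; ring⟩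
  · exact ⟨1, by simp [mulVec, dotProduct, Fin.sum_univ_two]; ring⟩

theorem sy_D4 (he : e ≠ 0) (hF : Fintype.card F = r ^ e) : ∃ t : ↥(chevD4.group F), orderOf t = (r ^ e) ^ 2 + r ^ e + 1 := by
  obtain ⟨k, _, _, _, X, -, ⟨s⟩⟩ := KM.Nt.has_D4 hF
  refine exists_ord s [0, 1] (not_dvd he) (cop_sy _) ![2 * (r : ℤ) ^ e + 1, -(r : ℤ) ^ e - 2, 1, 1] 2 rfl fun j => ?_
  rw [wD, mul_smul_comm, mul_one]
  push_cast
  generalize (r : ℤ) ^ e = q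
  fin_cases j
  · exact ⟨-1, by simp [mulVec, dotProduct, Fin.sum_univ_four]; ring⟩
  · exact ⟨2, by simp [mulVec, dotProduct, Fin.sum_univ_four]; ring⟩
  · exact ⟨-1, by simp [mulVec, dotProduct, Fin.sum_univ_four]; ring⟩
  · exact ⟨-1, by simp [mulVec, dotProduct, Fin.sum_univ_four]; ring⟩

end Rows

theorem GamB_sq : GamB ^ 2 = (2 : ℤ) • 1 := by rw [GamB_eq]; decide

theorem GamG_sq : GamG ^ 2 = (3 : ℤ) • 1 := by rw [GamG_eq]; decide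

theorem GamF_sq : GamF ^ 2 = (2 : ℤ) • 1 := by rw [GamF_eq]; decide

theorem sq_of {l p : ℕ} {A : Matrix (Fin l) (Fin l) ℤ} (h : A ^ 2 = (p : ℤ) • 1) (m : ℕ) :
    ((p : ℤ) ^ m • A) ^ 2 = ((p ^ (2 * m + 1) : ℕ) : ℤ) • 1 := by
  rw [_root_.smul_pow, h, smul_smul]
  congr 1
  push_cast
  ring

variable {K : Type} [Field K] [Fintype K] {m : ℕ} (hm : 1 ≤ m)
include hm

theorem fus_2B2 (hK : Fintype.card K = 2 ^ (2 * m + 1)) {z : ↥(Lie.Sz K (2 ^ (m + 1)))} (hz : ¬ 2 ∣ orderOf z) :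
    IsConj z (z ^ 2 ^ (2 * m + 1)) := by
  obtain ⟨k, _, _, _, X, -, ⟨s⟩⟩ := has_2B2 hm hK
  exact fus s (by positivity) (sq_of (p := 2) GamB_sq m) hz

theorem fus_2G2 (hK : Fintype.card K = 3 ^ (2 * m + 1)) {z : ↥(twistedG2 K (3 ^ m))} (hz : ¬ 3 ∣ orderOf z) :
    IsConj z (z ^ 3 ^ (2 * m + 1)) := by
  obtain ⟨k, _, _, _, X, -, ⟨s⟩⟩ := KM.Nt.has_2G2 hm hK
  exact fus s (by positivity) (sq_of (p := 3) GamG_sq m) hz

theorem fus_2F4 (hK : Fintype.card K = 2 ^ (2 * m + 1)) {z : ↥(twistedF4 K (2 ^ m))} (hz : ¬ 2 ∣ orderOf z) :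
    IsConj z (z ^ 2 ^ (2 * m + 1)) := by
  obtain ⟨k, _, _, _, X, -, ⟨s⟩⟩ := KM.Nt.has_2F4 hm hK
  exact fus s (by positivity) (sq_of (p := 2) GamF_sq m) hz

end Cfsg.Agent.N2.Ex.Sm.CT
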