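import Cfsg.Agent.N2.Ex.Sim.Defs
import Cfsg.Agent.N2.Cl.RX.Comb

/-!
# N2 (S3519), exceptional groups, simple socle: prime divisors of the orders, uniform bounds (helper93)
-/

set_option autoImplicit false

namespace Cfsg.Agent.N2.Ex.Sm

open Cfsg Finset Cfsg.Agent.H902 Cfsg.Agent.H902.Names Cfsg.Agent.OrdDiv
open Cfsg.Agent.N2C.RD (PdX oX dX)
open Cfsg.Agent.N2C.RX (frc frc_eq allR allR_sound allU allU_sound)
open Cfsg.Agent.SB.Exc (dM ordU nP degs)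

section ord

variable {s r k : ℕ}

theorem dvd_sub_iff (h1 : 1 ≤ s) (ho : orderOf (s : ZMod r) = k) (j : ℕ) : r ∣ s ^ j - 1 ↔ k ∣ j := by
  rw [← ho, orderOf_dvd_iff_pow_eq_one, ← Nat.cast_pow, ← Nat.cast_one (R := ZMod r), ZMod.natCast_eq_natCast_iff,
    Nat.ModEq.comm, Nat.modEq_iff_dvd' (Nat.one_le_pow _ _ h1)]

theorem sq_sub (s j : ℕ) : s ^ (j * 2) - 1 = (s ^ j - 1) * (s ^ j + 1) := by
  rw [pow_mul, mul_comm, ← Nat.sq_sub_sq, one_pow]

theorem dvd_add_iff (hr : r.Prime) (h5 : 5 ≤ r) (h1 : 1 ≤ s) (ho : orderOf (s : ZMod r) = k) (j : ℕ) :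
    r ∣ s ^ j + 1 ↔ k ∣ j * 2 ∧ ¬ k ∣ j := by
  rw [← dvd_sub_iff h1 ho, ← dvd_sub_iff h1 ho, sq_sub]
  refine ⟨fun h => ⟨h.mul_left _, fun h2 => ?_⟩, fun h => (hr.dvd_mul.1 h.1).resolve_left h.2⟩
  have h3 := Nat.dvd_sub h h2
  have h4 : 1 ≤ s ^ j := Nat.one_le_pow _ _ h1
  rw [show s ^ j + 1 - (s ^ j - 1) = 2 by omega] at h3
  exact absurd (Nat.le_of_dvd two_pos h3) (by omega)

theorem dvd_num {X : Art.Sh} {p f : ℕ} (h : Art.Ok X p f) (hD : PdX X k) (hr : r.Prime) (h5 : 5 ≤ r) (h1 : 1 ≤ s)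
    (ho : orderOf (s : ZMod r) = k) : r ∣ Art.num X s := by
  have hs : ∀ j, k ∣ j → r ∣ s ^ j - 1 := fun j => (dvd_sub_iff h1 ho j).2
  have ha : ∀ j, k ∣ j * 2 → ¬ k ∣ j → r ∣ s ^ j + 1 := fun j a b => (dvd_add_iff hr h5 h1 ho j).2 ⟨a, b⟩
  have hC : ∀ m, 0 < k → k ≤ m ∨ (k % 2 = 0 ∧ k ≤ 2 * m) → r ∣ ∏ i ∈ range m, (s ^ (2 * (i + 1)) - 1) := by
    rintro m h0 (h1 | h1)
    · exact (hs _ ⟨2, by omega⟩).trans (dvd_prod_of_mem _ (mem_range.2 (show k - 1 < m by omega)))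
    · exact (hs _ ⟨1, by omega⟩).trans (dvd_prod_of_mem _ (mem_range.2 (show k / 2 - 1 < m by omega)))
  cases X with
  | L m =>
    have hm : 2 ≤ m := h.1
    obtain ⟨h0, h1, -⟩ := hD
    refine (hs (k - 2 + 2) ?_).trans (dvd_prod_of_mem (fun i => s ^ (i + 2) - 1) (mem_range.2 (show k - 2 < m - 1 by omega)))
    obtain rfl | h2 : k = 1 ∨ 2 ≤ k := by omega
    exacts [one_dvd _, ⟨1, by omega⟩]
  | C m => exact hC m hD.1 hD.2
  | U m =>
    have hm : 3 ≤ m := h.1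
    have k1 : ∀ i, i + 2 ≤ m → r ∣ (if Even i then s ^ (i + 2) - 1 else s ^ (i + 2) + 1) → r ∣ Art.num (.U m) s :=
      fun i hi hd => hd.trans (dvd_prod_of_mem (fun i => if Even i then s ^ (i + 2) - 1 else s ^ (i + 2) + 1)
        (mem_range.2 (show i < m - 1 by omega)))
    obtain ⟨h0, h1 | h1 | h1, -⟩ := hD
    · exact k1 (2 * k - 2) (by omega) (by rw [if_pos ⟨k - 1, by omega⟩]; exact hs _ ⟨2, by omega⟩)
    · exact k1 (k - 2) (by omega) (by rw [if_pos ⟨k / 2 - 1, by omega⟩]; exact hs _ ⟨1, by omega⟩)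
    · obtain rfl | h2 : k = 2 ∨ 6 ≤ k := by omega
      · exact k1 0 (by omega) (by rw [if_pos Even.zero]; exact hs _ dvd_rfl)
      · refine k1 (k / 2 - 2) (by omega) ?_
        rw [if_neg (Nat.not_even_iff.2 (by omega))]
        exact ha _ ⟨1, by omega⟩ fun h3 => absurd (Nat.le_of_dvd (by omega) h3) (by omega)
  | D m =>
    obtain ⟨h0, h1⟩ := hD
    by_cases h2 : k = m
    · exact (hs m (h2 ▸ dvd_rfl)).mul_right _
    · exact (hC (m - 1) h0 (by omega)).mul_left _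
  | DD m =>
    obtain ⟨h0, h1⟩ := hD
    by_cases h2 : k = 2 * m
    · exact (ha m ⟨1, by omega⟩ fun h3 => absurd (Nat.le_of_dvd (by omega) h3) (by omega)).mul_right _
    · exact (hC (m - 1) h0 (by omega)).mul_left _
  | G2 => exact (hs 6 hD).mul_left _
  | F4 =>
    rcases hD with h1 | h1
    exacts [((hs 8 h1).mul_left _).mul_right _, (hs 12 h1).mul_left _]
  | E6 =>
    rcases hD with h1 | h1 | h1 | h1
    exacts [(((((hs 5 h1).mul_left _).mul_right _).mul_right _).mul_right _).mul_right _,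
      (((hs 8 h1).mul_left _).mul_right _).mul_right _, ((hs 9 h1).mul_left _).mul_right _, (hs 12 h1).mul_left _]
  | E7 =>
    rcases hD with h1 | h1 | h1 | h1 | h1
    exacts [(((((hs 8 h1).mul_left _).mul_right _).mul_right _).mul_right _).mul_right _,
      ((((hs 10 h1).mul_left _).mul_right _).mul_right _).mul_right _, (((hs 12 h1).mul_left _).mul_right _).mul_right _,
      ((hs 14 h1).mul_left _).mul_right _, (hs 18 h1).mul_left _]
  | E8 =>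
    rcases hD with h1 | h1 | h1 | h1 | h1
    exacts [(((((hs 14 h1).mul_left _).mul_right _).mul_right _).mul_right _).mul_right _,
      ((((hs 18 h1).mul_left _).mul_right _).mul_right _).mul_right _, (((hs 20 h1).mul_left _).mul_right _).mul_right _,
      ((hs 24 h1).mul_left _).mul_right _, (hs 30 h1).mul_left _]
  | TE6 =>
    rcases hD with h1 | rfl | h1 | rfl
    exacts [(((hs 8 h1).mul_left _).mul_right _).mul_right _,
      (((((ha 5 dvd_rfl (by norm_num)).mul_left _).mul_right _).mul_right _).mul_right _).mul_right _,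
      (hs 12 h1).mul_left _, ((ha 9 dvd_rfl (by norm_num)).mul_left _).mul_right _]
  | TD4 =>
    rcases hD with h2 | rfl
    · exact ((hs 6 h2).mul_left _).mul_right _
    · have h3 : s ^ 12 - 1 = (s ^ 4 - 1) * (s ^ 8 + s ^ 4 + 1) := by
        rw [Nat.sub_mul, one_mul, show s ^ 4 * (s ^ 8 + s ^ 4 + 1) = s ^ 12 + (s ^ 8 + s ^ 4) by ring]
        omega
      exact ((hr.dvd_mul.1 (h3 ▸ hs 12 dvd_rfl)).resolve_left fun h4 =>
        absurd ((dvd_sub_iff h1 ho 4).1 h4) (by norm_num)).mul_left _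
  | Sz =>
    rcases hD with rfl | rfl
    exacts [Dvd.dvd.mul_right (by simpa only [pow_one] using hs 1 dvd_rfl) _, (ha 2 dvd_rfl (by norm_num)).mul_left _]
  | Ree =>
    rcases hD with rfl | rfl | rfl
    exacts [Dvd.dvd.mul_right (by simpa only [pow_one] using hs 1 dvd_rfl) _, (ha 3 (by norm_num) (by norm_num)).mul_left _,
      (ha 3 dvd_rfl (by norm_num)).mul_left _]
  | TF4 =>
    rcases hD with h1 | rfl | rfl
    exacts [((hs 4 h1).mul_left _).mul_right _, (((ha 3 dvd_rfl (by norm_num)).mul_left _).mul_right _).mul_right _,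
      (ha 6 dvd_rfl (by norm_num)).mul_left _]

theorem not_dvd_dd {X : Art.Sh} {p f : ℕ} (h : Art.Ok X p f) (hD : PdX X k) (hr : r.Prime) (h5 : 5 ≤ r) (h1 : 1 ≤ s)
    (ho : orderOf (s : ZMod r) = k) : ¬ r ∣ Art.dd X s := by
  have hs : ∀ {a b : ℕ}, 0 < a → a ≤ 4 → ¬ r ∣ Nat.gcd a b := fun h0 h4 hd =>
    absurd (Nat.le_of_dvd h0 (hd.trans (Nat.gcd_dvd_left _ _))) (by omega)
  have h0 : ¬ r ∣ 1 := fun hd => absurd (Nat.le_of_dvd one_pos hd) (by omega)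
  cases X with
  | L m =>
    obtain ⟨-, -, h2⟩ := hD
    by_cases h4 : k = 1
    · exact hs (lt_of_lt_of_le two_pos h.1) (h2 h4)
    · exact fun hd => h4 (Nat.dvd_one.1 ((dvd_sub_iff h1 ho 1).1 (by rw [pow_one]; exact hd.trans (Nat.gcd_dvd_right _ _))))
  | U m =>
    obtain ⟨-, -, h2⟩ := hD
    by_cases h4 : k = 2
    · exact hs (lt_of_lt_of_le three_pos h.1) (h2 h4)
    · intro hd
      obtain ⟨a, b⟩ := (dvd_add_iff hr h5 h1 ho 1).1 (by rw [pow_one]; exact hd.trans (Nat.gcd_dvd_right _ _))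
      rcases (Nat.dvd_prime Nat.prime_two).1 a with h6 | h6
      exacts [b (h6 ▸ dvd_rfl), h4 h6]
  | C m => exact hs two_pos (by norm_num)
  | D m => exact hs four_pos le_rfl
  | DD m => exact hs four_pos le_rfl
  | E6 => exact hs three_pos (by norm_num)
  | E7 => exact hs two_pos (by norm_num)
  | TE6 => exact hs three_pos (by norm_num)
  | _ => exact h0

/-- **prime divisors of the order** -/
theorem real_dvd {X : Art.Sh} {p f M : ℕ} (h : Art.Real X p f M) (hr : r.Prime) (h5 : 5 ≤ r)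
    (hD : PdX X (orderOf ((p ^ f : ℕ) : ZMod r))) : r ∣ M :=
  h.dvd_of_dvd_num hr (not_dvd_dd h.ok hD hr h5 (one_le_two.trans h.q_ge) rfl) (dvd_num h.ok hD hr h5 (one_le_two.trans h.q_ge) rfl)

theorem Nm.dvd {N : Type} [Group N] {g : Grp} {X : Art.Sh} {a : ℕ} (h : Nm N g X s a) (hr : r.Prime) (h5 : 5 ≤ r)
    (hD : PdX X (orderOf ((s ^ a : ℕ) : ZMod r))) : r ∣ Nat.card N := real_dvd h.ord hr h5 hD

end ord

/-! ### the five types -/

/-- the types -/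
def Ty (l : ℕ) (tw : Bool) : Prop := l = 6 ∨ tw = false ∧ (l = 4 ∨ l = 7 ∨ l = 8)

/-- the possible orders of `q` modulo a prime divisor of the order -/
def pdT (l : ℕ) (tw : Bool) (m : ℕ) : Bool :=
  bif Nat.beq l 4 then Nat.beq (8 % m) 0 || Nat.beq (12 % m) 0
  else bif Nat.beq l 6 then Nat.beq (8 % m) 0 || Nat.beq (12 % m) 0 ||
    (bif tw then Nat.beq m 10 || Nat.beq m 18 else Nat.beq m 5 || Nat.beq m 9)
  else bif Nat.beq l 7 then Nat.beq (8 % m) 0 || Nat.beq (10 % m) 0 || Nat.beq (12 % m) 0 || Nat.beq (14 % m) 0 || Nat.beq (18 % m) 0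
  else Nat.beq (14 % m) 0 || Nat.beq (18 % m) 0 || Nat.beq (20 % m) 0 || Nat.beq (24 % m) 0 || Nat.beq (30 % m) 0

variable {l : ℕ} {tw : Bool} {p e T r : ℕ}

theorem pdT_of (ht : Ty l tw) (h : Art.Real (sh l tw) p e T) (hr : r.Prime) (h5 : 5 ≤ r) (hrp : r ≠ p) (hd : r ∣ T) :
    pdT l tw (orderOf ((p ^ e : ℕ) : ZMod r)) = true := by
  have h1 := h.dvd_num_of_dvd hr hrp hd
  have h2 : 1 ≤ p ^ e := one_le_two.trans h.q_ge
  generalize p ^ e = q at h1 h2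
  obtain ⟨m, hm⟩ : ∃ m, orderOf (q : ZMod r) = m := ⟨_, rfl⟩
  rw [hm]
  have key : ∀ (n : ℕ) (P : ℕ → Prop), 0 < n → m ∣ n → (∀ k ≤ n, k ∣ n → P k) → P m := fun n P h0 a b =>
    b m (Nat.le_of_dvd h0 a) a
  rcases ht with rfl | ⟨rfl, rfl | rfl | rfl⟩
  · cases tw
    · change r ∣ (q ^ 2 - 1) * (q ^ 5 - 1) * (q ^ 6 - 1) * (q ^ 8 - 1) * (q ^ 9 - 1) * (q ^ 12 - 1) at h1
      simp only [hr.dvd_mul, dvd_sub_iff h2 hm] at h1
      rcases h1 with ((((a | a) | a) | a) | a) | a <;> exact key _ (fun k => pdT 6 false k = true) (by norm_num) a (by decide)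
    · change r ∣ (q ^ 2 - 1) * (q ^ 5 + 1) * (q ^ 6 - 1) * (q ^ 8 - 1) * (q ^ 9 + 1) * (q ^ 12 - 1) at h1
      simp only [hr.dvd_mul, dvd_sub_iff h2 hm, dvd_add_iff hr h5 h2 hm] at h1
      rcases h1 with ((((a | a) | a) | a) | a) | a
      exacts [key _ (fun k => pdT 6 true k = true) (by norm_num) a (by decide),
        key _ (fun k => ¬ k ∣ 5 → pdT 6 true k = true) (by norm_num) a.1 (by decide) a.2,
        key _ (fun k => pdT 6 true k = true) (by norm_num) a (by decide),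
        key _ (fun k => pdT 6 true k = true) (by norm_num) a (by decide),
        key _ (fun k => ¬ k ∣ 9 → pdT 6 true k = true) (by norm_num) a.1 (by decide) a.2,
        key _ (fun k => pdT 6 true k = true) (by norm_num) a (by decide)]
  · change r ∣ (q ^ 2 - 1) * (q ^ 6 - 1) * (q ^ 8 - 1) * (q ^ 12 - 1) at h1
    simp only [hr.dvd_mul, dvd_sub_iff h2 hm] at h1
    rcases h1 with ((a | a) | a) | a <;> exact key _ (fun k => pdT 4 false k = true) (by norm_num) a (by decide)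
  · change r ∣ (q ^ 2 - 1) * (q ^ 6 - 1) * (q ^ 8 - 1) * (q ^ 10 - 1) * (q ^ 12 - 1) * (q ^ 14 - 1) * (q ^ 18 - 1) at h1
    simp only [hr.dvd_mul, dvd_sub_iff h2 hm] at h1
    rcases h1 with (((((a | a) | a) | a) | a) | a) | a <;> exact key _ (fun k => pdT 7 false k = true) (by norm_num) a (by decide)
  · change r ∣ (q ^ 2 - 1) * (q ^ 8 - 1) * (q ^ 12 - 1) * (q ^ 14 - 1) * (q ^ 18 - 1) * (q ^ 20 - 1) * (q ^ 24 - 1) *
      (q ^ 30 - 1) at h1
    simp only [hr.dvd_mul, dvd_sub_iff h2 hm] at h1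
    rcases h1 with ((((((a | a) | a) | a) | a) | a) | a) | a <;>
      exact key _ (fun k => pdT 8 false k = true) (by norm_num) a (by decide)

/-- the order -/
def oT (l : ℕ) (tw : Bool) (q : ℕ) : ℕ := oX (sh l tw) q / Art.dd (sh l tw) q

theorem oT_eq (h : Art.Real (sh l tw) p e T) : oT l tw (p ^ e) = T := by
  rw [oT, oX, ← h.eq, Nat.mul_div_cancel_left _ (Nat.pos_of_ne_zero h.dd_ne)]

theorem dM_pos (l : ℕ) : 0 < dM l := by unfold dM; split_ifs <;> norm_num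

theorem ordU_le (ht : Ty l tw) (h : Art.Real (sh l tw) p e T) : ordU l (p ^ e) ≤ dM l * T := by
  have h1 : Art.dd (sh l tw) (p ^ e) ≤ dM l := by
    rcases ht with rfl | ⟨rfl, rfl | rfl | rfl⟩
    · cases tw <;> exact Nat.gcd_le_left _ three_pos
    exacts [le_rfl, Nat.gcd_le_left _ two_pos, le_rfl]
  refine le_trans ?_ (h.eq.ge.trans (Nat.mul_le_mul_right _ h1))
  generalize p ^ e = q
  rcases ht with rfl | ⟨rfl, rfl | rfl | rfl⟩
  · cases tw
    · change q ^ 36 * [q ^ 2 - 1, q ^ 5 - 1, q ^ 6 - 1, q ^ 8 - 1, q ^ 9 - 1, q ^ 12 - 1].prod ≤ q ^ 36 * (_ * _ * _ * _ * _ * _)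
      simp only [List.prod_cons, List.prod_nil, mul_one, mul_assoc, le_refl]
    · change q ^ 36 * [q ^ 2 - 1, q ^ 5 - 1, q ^ 6 - 1, q ^ 8 - 1, q ^ 9 - 1, q ^ 12 - 1].prod ≤ q ^ 36 * (_ * _ * _ * _ * _ * _)
      simp only [List.prod_cons, List.prod_nil, mul_one, mul_assoc]
      gcongr <;> omega
  · change q ^ 24 * [q ^ 2 - 1, q ^ 6 - 1, q ^ 8 - 1, q ^ 12 - 1].prod ≤ q ^ 24 * (_ * _ * _ * _)
    simp only [List.prod_cons, List.prod_nil, mul_one, mul_assoc, le_refl]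
  · change q ^ 63 * [q ^ 2 - 1, q ^ 6 - 1, q ^ 8 - 1, q ^ 10 - 1, q ^ 12 - 1, q ^ 14 - 1, q ^ 18 - 1].prod ≤
      q ^ 63 * (_ * _ * _ * _ * _ * _ * _)
    simp only [List.prod_cons, List.prod_nil, mul_one, mul_assoc, le_refl]
  · change q ^ 120 * [q ^ 2 - 1, q ^ 8 - 1, q ^ 12 - 1, q ^ 14 - 1, q ^ 18 - 1, q ^ 20 - 1, q ^ 24 - 1, q ^ 30 - 1].prod ≤
      q ^ 120 * (_ * _ * _ * _ * _ * _ * _ * _)
    simp only [List.prod_cons, List.prod_nil, mul_one, mul_assoc, le_refl]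

theorem prod_mono {q1 q : ℕ} (hq : q1 ≤ q) (L : List ℕ) :
    (L.map fun d => q1 ^ d - 1).prod * q ^ L.sum ≤ q1 ^ L.sum * (L.map fun d => q ^ d - 1).prod := by
  induction L with
  | nil => simp
  | cons d L ih =>
    simp only [List.map_cons, List.prod_cons, List.sum_cons, pow_add]
    calc _ = (q1 ^ d - 1) * q ^ d * ((L.map fun d => q1 ^ d - 1).prod * q ^ L.sum) := by ring
      _ ≤ q1 ^ d * (q ^ d - 1) * (q1 ^ L.sum * (L.map fun d => q ^ d - 1).prod) :=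
        Nat.mul_le_mul (N2C.RD.Au.rsub hq d) ih
      _ = _ := by ring

theorem dim_eq (ht : Ty l tw) : dimT l = nP l + (degs l).sum := by
  rcases ht with rfl | ⟨-, rfl | rfl | rfl⟩ <;> rfl

theorem ordU_mono (ht : Ty l tw) {q1 q : ℕ} (hq : q1 ≤ q) : ordU l q1 * q ^ dimT l ≤ q1 ^ dimT l * ordU l q := by
  rw [dim_eq ht, ordU, ordU, pow_add, pow_add]
  calc _ = q1 ^ nP l * q ^ nP l * (((degs l).map fun d => q1 ^ d - 1).prod * q ^ (degs l).sum) := by ring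
    _ ≤ q1 ^ nP l * q ^ nP l * (q1 ^ (degs l).sum * ((degs l).map fun d => q ^ d - 1).prod) :=
      Nat.mul_le_mul_left _ (prod_mono hq _)
    _ = _ := by ring

theorem succ_mono {q1 q : ℕ} (hq : q1 ≤ q) (k l : ℕ) :
    q ^ k * (q + 1) ^ l * q1 ^ (k + l) ≤ q1 ^ k * (q1 + 1) ^ l * q ^ (k + l) := by
  have h1 : ((q + 1) * q1) ^ l ≤ ((q1 + 1) * q) ^ l := Nat.pow_le_pow_left (by nlinarith) l
  rw [mul_pow, mul_pow] at h1
  calc _ = q ^ k * q1 ^ k * ((q + 1) ^ l * q1 ^ l) := by ring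
    _ ≤ q ^ k * q1 ^ k * ((q1 + 1) ^ l * q ^ l) := Nat.mul_le_mul_left _ h1
    _ = _ := by ring

/-- **the uniform test** -/
theorem unif (ht : Ty l tw) (h : Art.Real (sh l tw) p e T) {q1 k α β γ : ℕ} (h0 : 0 < q1) (hq : q1 ≤ p ^ e)
    (hk : 3 * (k + l) ≤ dimT l) (hc : dM l * ((α * (q1 ^ k * (q1 + 1) ^ l)) ^ 3 * β) ≤ ordU l q1 * γ ^ 3) :
    (α * ((p ^ e) ^ k * (p ^ e + 1) ^ l)) ^ 3 * β ≤ T * γ ^ 3 := by
  have h1 := ordU_le ht h
  have h2 := ordU_mono ht hq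
  have h3 := Nat.pow_le_pow_left (succ_mono hq k l) 3
  generalize p ^ e = q at *
  obtain ⟨E, hE⟩ := Nat.exists_eq_add_of_le hk
  refine Nat.le_of_mul_le_mul_left ?_ (Nat.mul_pos (pow_pos h0 (dimT l)) (dM_pos l))
  calc _ = dM l * α ^ 3 * β * q1 ^ E * (q ^ k * (q + 1) ^ l * q1 ^ (k + l)) ^ 3 := by rw [hE]; ring
    _ ≤ dM l * α ^ 3 * β * q ^ E * (q1 ^ k * (q1 + 1) ^ l * q ^ (k + l)) ^ 3 := by gcongr
    _ = dM l * ((α * (q1 ^ k * (q1 + 1) ^ l)) ^ 3 * β) * q ^ dimT l := by rw [hE]; ring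
    _ ≤ ordU l q1 * γ ^ 3 * q ^ dimT l := Nat.mul_le_mul_right _ hc
    _ = ordU l q1 * q ^ dimT l * γ ^ 3 := by ring
    _ ≤ q1 ^ dimT l * (dM l * T) * γ ^ 3 := Nat.mul_le_mul_right _ (h2.trans (Nat.mul_le_mul_left _ h1))
    _ = _ := by ring

/-! ### primes -/

/-- trial division -/
def prm (n : ℕ) : Bool := Nat.ble 2 n && allU (fun d => Nat.blt n (d * d)) (fun d => !Nat.beq (n % d) 0) n 2

theorem prm_sound {n : ℕ} (h : prm n = true) : n.Prime := by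
  rw [prm, Bool.and_eq_true, Nat.ble_eq] at h
  refine Nat.prime_def_le_sqrt.2 ⟨h.1, fun m h2 h3 h4 => ?_⟩
  rcases allU_sound h.2 h2 with k | ⟨j, -, a, b⟩
  · rw [Nat.mod_eq_zero_of_dvd h4] at k
    exact absurd k (by decide)
  · rw [Nat.blt_eq] at b
    exact absurd (Nat.le_sqrt.1 (a.trans h3)) (by omega)

/-- a proper divisor below `100` -/
def cmp (n : ℕ) : Bool := !allR (fun d => Nat.ble n d || !Nat.beq (n % d) 0) 98 2

theorem allR_of {f : ℕ → Bool} {k lo : ℕ} (h : ∀ i, lo ≤ i → f i = true) : allR f k lo = true := by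
  induction k generalizing lo with
  | zero => rfl
  | succ k ih =>
    show (f lo && frc (lo + 1) (allR f k)) = true
    rw [h lo le_rfl, frc_eq, ih fun i hi => h i (by omega)]
    rfl

theorem cmp_prime {n : ℕ} (h : n.Prime) : cmp n = false := by
  rw [cmp, allR_of fun d hd => ?_]
  · rfl
  rw [Bool.or_eq_true, Nat.ble_eq, Bool.not_eq_true', ← Bool.not_eq_true, Nat.beq_eq]
  by_contra h1
  rw [not_or, not_not] at h1
  rcases (Nat.dvd_prime h).1 (Nat.dvd_of_mod_eq_zero h1.2) with h2 | h2 <;> omega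

end Cfsg.Agent.N2.Ex.Sm
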