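import Cfsg.Agent.N2.Ex.Sim.Num

/-!
# N2 (S3519), exceptional groups, simple socle: the sieve for a fixed subgroup (helper93)

`Rx.chkP` : one characteristic; `Rx.chkAll` : all allowed characteristics.  Mirror: `notes/N2/sim93/s3.py.txt`.
-/

set_option autoImplicit false
set_option linter.unusedSectionVars false

namespace Cfsg.Agent.N2.Ex.Sm

open Cfsg Subgroup Cfsg.Agent.H902
open Cfsg.Agent.N2C.RX (frc frc_eq allR allR_sound allU allU_sound ordm ordm_eq mf mf_eq)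
open Cfsg.Agent.SB.Exc (dM ordU)

/-- an element of prime order `r`, automizer divisible by `h`, normaliser of order at least `M` -/
structure El where
  r : ℕ
  h : ℕ
  M : ℕ

def El.Ok (e : El) (N : Type) [Group N] : Prop := e.r.Prime ∧ 5 ≤ e.r ∧ Ch N e.r e.h ∧ (e.M ≠ 0 → Tg.Nz N e.r e.M)

/-- the numerical tests -/
structure Ts where
  t1 : ℕ → ℕ → ℕ → ℕ → Bool
  t2 : ℕ → ℕ → ℕ → ℕ → Bool
  m : ℕ → ℕ

structure Ts.Ok (t : Ts) (l q T : ℕ) : Prop where
  t1 : ∀ k α β γ, t.t1 k α β γ = true → (α * (q ^ (l + k - zT l k) * (q + 1) ^ zT l k)) ^ 3 * β ≤ T * γ ^ 3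
  t2 : ∀ k α β γ, t.t2 k α β γ = true → (α * (q ^ (l + k - 2) * (q ^ 2 + q + 1))) ^ 3 * β ≤ T * γ ^ 3
  m : ∀ r, r.Prime → t.m r = 1 ∨ t.m r = orderOf (q : ZMod r)

section chk

variable (l P o A : ℕ) (t : Ts)

/-- odd order prime to three in `F₄` -/
def f4 (v : ℕ) : Bool := !Nat.beq l 4 || Nat.ble v 12 || Nat.beq v 22 || Nat.beq v 52

def gd2 (u : ℕ → ℕ → ℕ → ℕ → Bool) (e : El) (g k : ℕ) : Bool :=
  u k 1 A 1 || (!Nat.beq (A % e.r ^ 2) 0 && u k (Nat.gcd g (e.r - 1)) o (max e.M (e.r * e.h)))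

/-- an entry of the table is excluded or good -/
def ent (e : El) (m G : ℕ) (f : ℕ × ℕ) : Bool :=
  !Nat.beq (f.1 % G) 0 || (Nat.beq l 6 && Nat.beq f.2 24 && Nat.beq (e.h % 6) 0) || !f4 l (l + f.2) || gd2 o A t.t1 e f.1 f.2 ||
    (Nat.beq m 3 && ((Nat.beq l 8 && Nat.beq f.2 72) || (Nat.beq l 4 && Nat.beq f.2 6) || (Nat.beq l 6 && Nat.beq f.2 12)) &&
      gd2 o A t.t2 e f.1 f.2)

/-- the least value which is not good -/
def badEl (e : El) : ℕ := frc (t.m e.r) fun m => frc (Nat.lcm 2 (Nat.lcm e.h m)) fun G =>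
  (Cb.tpT l).foldr (fun f b => bif ent l o A t e m G f then b else min (l + f.2) b) (dimT l)

def okV (a v : ℕ) : Bool := (Nat.blt 5 a || Nat.blt a 2 || (kv l a).any (Nat.beq v)) && (!Nat.beq (Nat.gcd a 6) 1 || f4 l v)

def fstBad (a α : ℕ) : ℕ → ℕ → ℕ
  | 0, k => l + k
  | n + 1, k => bif okV l a (l + k) && !t.t1 k α A 1 then l + k else frc (k + 2) (fstBad a α n)

theorem fstBad_realised : True := by have := @fstBad.eq_def; trivial

def bad (els : List El) (a : ℕ) : ℕ :=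
  bif Nat.beq (a % P) 0 then (bif Nat.beq (P ^ a % a) 0 then (dimT l + a - 1) / a else 0)
  else els.foldr (fun e b => bif Nat.beq e.r a && !Nat.beq (A % a ^ 2) 0 then max (badEl l o A t e) b else b)
    (fstBad l A t a (bif Nat.beq (Nat.gcd (dM l) a) 1 then 1 else dM l) 130 0)

def ok (els : List El) (tris : List (ℕ × ℕ × ℕ)) : Bool :=
  els.any (fun e => !Nat.beq e.r P && Nat.beq (badEl l o A t e) (dimT l)) ||
    tris.any fun x => Nat.blt (dimT l + 2 * zc l P) (bad l P o A t els x.1 + bad l P o A t els x.2.1 + bad l P o A t els x.2.2)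

end chk

/-- exact tests -/
def tE (l q T : ℕ) : Ts where
  t1 k α β γ := frc (zT l k) fun z => Nat.ble ((α * (q ^ (l + k - z) * (q + 1) ^ z)) ^ 3 * β) (T * γ ^ 3)
  t2 k α β γ := Nat.ble ((α * (q ^ (l + k - 2) * (q ^ 2 + q + 1))) ^ 3 * β) (T * γ ^ 3)
  m r := frc (ordm (q % r) r) fun m => bif Nat.beq m 0 then 1 else m

/-- uniform tests; `U = ordU l q` -/
def tU (l q U : ℕ) : Ts where
  t1 k α β γ := frc (zT l k) fun z => Nat.ble (3 * (l + k - z + z)) (dimT l) &&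
    Nat.ble (dM l * ((α * (q ^ (l + k - z) * (q + 1) ^ z)) ^ 3 * β)) (U * γ ^ 3)
  t2 _ _ _ _ := false
  m _ := 1

section loops

variable (l : ℕ) (tw : Bool) (P o A : ℕ) (els : List El) (tris : List (ℕ × ℕ × ℕ))

def exq (q : ℕ) : Bool := frc (oT l tw q) fun T => !Nat.beq (T % o) 0 || Nat.ble T o || ok l P o A (tE l q T) els tris

def unq (q : ℕ) : Bool := frc (ordU l q) fun U => ok l P o A (tU l q U) els tris

/-- one characteristic -/
def chkP : Bool := allU (fun e => frc (P ^ e) (unq l P o A els tris)) (fun e => frc (P ^ e) (exq l tw P o A els tris)) 200 1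

/-- the relevant primes -/
def WW : ℕ := 6 * (els.map El.r).prod * (tris.map fun x => x.1 * x.2.1 * x.2.2).prod

def MX : ℕ := max 3 (max ((els.map El.r).foldr max 0) ((tris.map fun x => max x.1 (max x.2.1 x.2.2)).foldr max 0))

/-- the characteristics prime to `W` -/
def chkG (W : ℕ) : Bool := allU (fun q => (Nat.ble q 32 || Nat.beq (q % 16) 0) && unq l 0 o A els tris q)
  (fun q => !Nat.beq (Nat.gcd q W) 1 || !Nat.beq (mf q ^ q % q) 0 || exq l tw 0 o A els tris q) 100000 5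

/-- one type -/
def chkT (al : ℕ → Bool) : Bool := frc (WW els tris) fun W => !Nat.beq W 0 &&
  allR (fun p => !Nat.beq (W % p) 0 || cmp p || !al p || chkP l tw p o A els tris) (MX els tris) 2 && chkG l tw o A els tris W

end loops

/-- all types of dimension at least `dg` -/
def allT (dg : ℕ) (f : ℕ → Bool → Bool) : Bool :=
  (Nat.blt 52 dg || f 4 false) && (Nat.blt 78 dg || (f 6 false && f 6 true)) && (Nat.blt 133 dg || f 7 false) &&
    (Nat.blt 248 dg || f 8 false)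

def chkAll (al : ℕ → Bool) (dg o A : ℕ) (els : List El) (tris : List (ℕ × ℕ × ℕ)) : Bool :=
  allT dg fun l tw => chkT l tw o A els tris al

theorem allT_sound {dg : ℕ} {f : ℕ → Bool → Bool} (h : allT dg f = true) {l : ℕ} {tw : Bool} (ht : Ty l tw) (hd : dg ≤ dimT l) :
    f l tw = true := by
  simp only [allT, Bool.and_eq_true, Bool.or_eq_true, Nat.blt_eq] at h
  obtain ⟨⟨⟨a, b⟩, c⟩, d⟩ := h
  rcases ht with rfl | ⟨rfl, rfl | rfl | rfl⟩
  · have k := b.resolve_left (not_lt.2 hd)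
    cases tw
    exacts [k.1, k.2]
  exacts [a.resolve_left (not_lt.2 hd), c.resolve_left (not_lt.2 hd), d.resolve_left (not_lt.2 hd)]

/-! ### soundness -/

theorem beq_false {a b : ℕ} : Nat.beq a b = false ↔ a ≠ b := by rw [← Bool.not_eq_true, Nat.beq_eq]

theorem tp_lt {l : ℕ} {tw : Bool} (ht : Ty l tw) : ∀ f ∈ Cb.tpT l, l + f.2 < dimT l := by
  rcases ht with rfl | ⟨-, rfl | rfl | rfl⟩ <;> decide

theorem foldr_min_le {α : Type} (L : List α) (p : α → Bool) (v : α → ℕ) (b : ℕ) :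
    L.foldr (fun f b => bif p f then b else min (v f) b) b ≤ b ∧
      ∀ f ∈ L, p f = false → L.foldr (fun f b => bif p f then b else min (v f) b) b ≤ v f := by
  induction L with
  | nil => exact ⟨le_rfl, fun _ h => absurd h List.not_mem_nil⟩
  | cons x L ih =>
    rw [List.foldr_cons]
    refine ⟨?_, fun f hf h => ?_⟩
    · cases p x
      exacts [(min_le_right _ _).trans ih.1, ih.1]
    rcases List.mem_cons.1 hf with rfl | hf
    · rw [h]
      exact min_le_left _ _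
    · cases p x
      exacts [(min_le_right _ _).trans (ih.2 f hf h), ih.2 f hf h]

theorem le_foldr_max {L : List ℕ} {x : ℕ} (h : x ∈ L) : x ≤ L.foldr max 0 := List.le_max_of_le h le_rfl

variable {l : ℕ} {tw : Bool} {p e T : ℕ} {N : Type} [Group N] [Finite N] {G : Prop} {c d : N → ℕ}

theorem Rx.hp (R : Rx l tw p e T N G c d) : p.Prime := R.real.hp

theorem Rx.d_one (R : Rx l tw p e T N G c d) : dimT l ≤ d 1 := by
  simpa using R.lowp 1 0 (one_pow _)

theorem Rx.f4_of (R : Rx l tw p e T N G c d) {x : N} {a : ℕ} (h1 : a.Coprime p) (h2 : x ^ a = 1) (h3 : a.Coprime 6) :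
    f4 l (d x) = true := by
  simp only [f4, Bool.or_eq_true, Bool.not_eq_true', beq_false, Nat.ble_eq, Nat.beq_eq]
  by_cases h : l = 4
  · rcases (R.val x a h1 h2).2.2 h h3 with k | k | k
    exacts [Or.inl (Or.inl (Or.inr k)), Or.inl (Or.inr k), Or.inr k]
  · exact Or.inl (Or.inl (Or.inl h))

theorem cop_dM {r : ℕ} (hr : r.Prime) (h5 : 5 ≤ r) (l : ℕ) : (dM l).Coprime r := by
  refine ((Nat.Prime.coprime_iff_not_dvd hr).2 fun h => ?_).symm
  have := Nat.le_of_dvd (dM_pos l) h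
  unfold dM at this
  split_ifs at this <;> omega

theorem cop_six {r : ℕ} (hr : r.Prime) (h5 : 5 ≤ r) : r.Coprime 6 := by
  refine (Nat.Prime.coprime_iff_not_dvd hr).2 fun h => ?_
  have h6 := Nat.le_of_dvd (by norm_num) h
  interval_cases r
  exacts [absurd h (by norm_num), absurd hr (by norm_num)]

variable {o A P : ℕ} {t : Ts}

theorem Rx.good1' (R : Rx l tw p e T N G c d) (hA : Nat.card (MulAut N) ∣ A) (h0 : A ≠ 0) {g : N} {b : ℕ} (hb : c g ≤ b)
    (h : (1 * b) ^ 3 * A ≤ T * 1 ^ 3) : G := by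
  refine R.good1 g (le_trans ?_ (by simpa using h))
  exact Nat.mul_le_mul (Nat.pow_le_pow_left hb 3) (Nat.le_of_dvd (Nat.pos_of_ne_zero h0) hA)

/-- elements of prime order -/
theorem Rx.el (R : Rx l tw p e T N G c d) (ho : Nat.card N = o) (hA : Nat.card (MulAut N) ∣ A) (hoA : o ∣ A) (h0 : A ≠ 0)
    (ht : t.Ok l (p ^ e) T) {x : El} (hx : x.Ok N) (hrp : x.r ≠ p) {g : N} {j : ℕ} (hg : orderOf g = x.r) (hj : IsConj g (g ^ j))
    (hh : x.h ∣ orderOf (j : ZMod x.r)) : G ∨ badEl l o A t x ≤ d g ∧ d g < dimT l := by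
  obtain ⟨hr, h5, -, hM⟩ := hx
  obtain ⟨f, hf, n, h1, h2, h3, h4, h6, h7, h8⟩ := R.mt g x.r hr h5 hrp hg
  have hc : (orderOf g).Coprime p := hg ▸ (Nat.coprime_primes hr R.hp).2 hrp
  have key : ∀ (u : ℕ → ℕ → ℕ → ℕ → Bool) (b : ℕ), c g ≤ b → (∀ α β γ, u f.2 α β γ = true → (α * b) ^ 3 * β ≤ T * γ ^ 3) →
      gd2 o A u x f.1 f.2 = true → G := fun u b hb hu h => by
    simp only [gd2, Bool.or_eq_true, Bool.and_eq_true, Bool.not_eq_true', beq_false] at h
    rcases h with h | ⟨k1, k2⟩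
    · exact R.good1' hA h0 hb (hu _ _ _ h)
    have k3 : ¬ x.r ^ 2 ∣ A := fun k => k1 (Nat.mod_eq_zero_of_dvd k)
    have k4 : ¬ x.r ^ 2 ∣ Nat.card N := fun k => k3 (k.trans (ho ▸ hoA))
    have k5 : max x.M (x.r * x.h) ≤ Nat.card (normalizer (zpowers g : Set N)) := by
      refine max_le ?_ (le_trans (Nat.mul_le_mul_left _ (Nat.le_of_dvd (Nat.pos_of_ne_zero fun k => ?_) hh))
        (N2C.RX.card_norm_ge hg hj))
      · by_cases k : x.M = 0
        exacts [k ▸ Nat.zero_le _, N2C.RX.nz_all hr k4 (hM k) hg]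
      · have k6 := ((h7 j hj).trans h3)
        rw [k, zero_dvd_iff] at k6
        omega
    refine h8 (fun k => k3 (((Nat.mul_dvd_mul_left _ (hg ▸ orderOf_dvd_natCard g)).trans k).trans hA |> fun k => by rwa [sq]))
      (fun y hy => ?_) ?_
    · obtain ⟨z, hz⟩ := N2C.RX.syl_conj hr k4 hg hy
      obtain ⟨i, hi⟩ := (mem_powers_iff_mem_zpowers.2 (hz ▸ mem_zpowers _ : z * y * z⁻¹ ∈ zpowers g))
      exact ⟨i, isConj_iff.2 ⟨z, hi.symm⟩⟩
    · have k7 : n ≤ Nat.gcd f.1 (x.r - 1) :=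
        Nat.le_of_dvd (Nat.gcd_pos_of_pos_right _ (by omega)) (Nat.dvd_gcd h2 h3)
      calc _ ≤ (Nat.gcd f.1 (x.r - 1) * b) ^ 3 * o := by rw [ho, mul_comm (c g)]; gcongr
        _ ≤ _ := hu _ _ _ k2
        _ ≤ _ := by gcongr
  have hlt : d g < dimT l := h1 ▸ tp_lt R.typ f hf
  rw [badEl, frc_eq, frc_eq]
  cases hE : ent l o A t x (t.m x.r) (Nat.lcm 2 (Nat.lcm x.h (t.m x.r))) f
  · exact Or.inr ⟨h1 ▸ (foldr_min_le _ _ (fun f => l + f.2) _).2 f hf hE, hlt⟩
  left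
  simp only [ent, Bool.or_eq_true, Bool.and_eq_true, Bool.not_eq_true', beq_false, Nat.beq_eq] at hE
  rcases hE with (((k | k) | k) | k) | k
  · refine absurd (Nat.mod_eq_zero_of_dvd (Dvd.dvd.trans ?_ h2)) k
    refine Nat.lcm_dvd h4 (Nat.lcm_dvd (hh.trans (h7 j hj)) ?_)
    rcases ht.m x.r hr with a | a <;> rw [a]
    exacts [one_dvd _, h6]
  · exact absurd ((Nat.dvd_of_mod_eq_zero k.2).trans hh) (R.six g x.r j hr h5 hrp hg k.1.1 (by rw [h1, k.1.1, k.1.2]) hj)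
  · rw [← h1, R.f4_of (hg ▸ hc) (hg ▸ pow_orderOf_eq_one g) (cop_six hr h5)] at k
    exact absurd k (by decide)
  · have k1 := R.r3 g f.2 hc h1
    rw [if_pos (hg ▸ cop_dM hr h5 l), one_mul] at k1
    exact key t.t1 _ k1 (ht.t1 f.2) k
  · obtain ⟨⟨k1, k2⟩, k3⟩ := k
    have k4 : orderOf ((p ^ e : ℕ) : ZMod x.r) = 3 := by
      rcases ht.m x.r hr with a | a
      · omega
      · exact a ▸ k1
    refine key t.t2 _ ?_ (ht.t2 f.2) k3
    rcases k2 with (k2 | k2) | k2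
    exacts [h1 ▸ R.r2 g x.r hr h5 hrp hg k4 (Or.inl ⟨k2.1, by omega⟩), h1 ▸ R.r2 g x.r hr h5 hrp hg k4 (Or.inr ⟨k2.1, by omega⟩),
      (show 16 = l + f.2 - 2 by omega) ▸ R.r26 g x.r hr h5 hrp hg k4 k2.1 (by omega)]

theorem ch_all {r h : ℕ} (hr : r.Prime) (hN : ¬ r ^ 2 ∣ Nat.card N) (k : Ch N r h) {g : N} (hg : orderOf g = r) :
    ∃ j : ℕ, IsConj g (g ^ j) ∧ h ∣ orderOf (j : ZMod r) := by
  obtain ⟨x, j, h1, h2, h3⟩ := k
  exact ⟨j, N2C.RX.cj_all hr hN ⟨x, h1, h2⟩ hg, h3⟩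

theorem Rx.fst (R : Rx l tw p e T N G c d) (hA : Nat.card (MulAut N) ∣ A) (h0 : A ≠ 0) (ht : t.Ok l (p ^ e) T) {x : N} {a : ℕ}
    (ha : a.Coprime p) (hx : x ^ a = 1) (n k : ℕ) (h1 : l + k ≤ d x) (h2 : d x % 2 = (l + k) % 2) :
    G ∨ fstBad l A t a (bif Nat.beq (Nat.gcd (dM l) a) 1 then 1 else dM l) n k ≤ d x := by
  induction n generalizing k with
  | zero => exact Or.inr h1
  | succ n ih =>
    rw [fstBad, frc_eq]
    cases hE : okV l a (l + k) && !t.t1 k (bif Nat.beq (Nat.gcd (dM l) a) 1 then 1 else dM l) A 1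
    swap
    · exact Or.inr h1
    rcases h1.eq_or_lt with h3 | h3
    swap
    · exact ih (k + 2) (by omega) (by omega)
    left
    have h4 : okV l a (l + k) = true := by
      simp only [okV, Bool.and_eq_true, Bool.or_eq_true, Nat.blt_eq, Bool.not_eq_true', beq_false, List.any_eq_true, Nat.beq_eq]
      refine ⟨?_, ?_⟩
      · by_cases h5 : 5 < a ∨ a < 2
        exacts [Or.inl h5, Or.inr ⟨_, (R.val x a ha hx).2.1 (by omega) (by omega), h3⟩]
      · by_cases h5 : Nat.gcd a 6 = 1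
        exacts [Or.inr (h3 ▸ R.f4_of ha hx h5), Or.inl h5]
    rw [h4, Bool.true_and, Bool.not_eq_false'] at hE
    have h5 := ht.t1 _ _ _ _ hE
    have h6 := orderOf_dvd_of_pow_eq_one hx
    have h7 : (orderOf x).Coprime p := ha.coprime_dvd_left h6
    cases h8 : Nat.beq (Nat.gcd (dM l) a) 1
    · rw [h8, cond_false] at h5
      refine R.good1' hA h0 ((R.r3 x k h7 h3.symm).trans (Nat.mul_le_mul_right _ ?_)) (by rwa [one_mul])
      split_ifs
      exacts [dM_pos l, le_rfl]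
    · rw [h8, cond_true] at h5
      have h9 := R.r3 x k h7 h3.symm
      rw [if_pos (Nat.Coprime.coprime_dvd_right h6 (Nat.eq_of_beq_eq_true h8)), one_mul] at h9
      exact R.good1' hA h0 h9 h5

variable {els : List El} {tris : List (ℕ × ℕ × ℕ)}

theorem Rx.bad_le (R : Rx l tw p e T N G c d) (ho : Nat.card N = o) (hA : Nat.card (MulAut N) ∣ A) (hoA : o ∣ A) (h0 : A ≠ 0)
    (ht : t.Ok l (p ^ e) T) (hE : ∀ x ∈ els, x.Ok N) {x : N} {a : ℕ} (ha : a ≠ 0) (hP : P = p ∨ P = 0 ∧ ¬ p ∣ a) (hx : x ^ a = 1) :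
    G ∨ bad l P o A t els a ≤ d x := by
  rw [bad]
  cases h1 : Nat.beq (a % P) 0
  swap
  · obtain rfl : P = p := hP.resolve_right fun k => ha (by simpa [k.1] using Nat.eq_of_beq_eq_true h1)
    rw [cond_true]
    cases h2 : Nat.beq (P ^ a % a) 0
    · exact Or.inr (Nat.zero_le _)
    obtain ⟨k, -, rfl⟩ := (Nat.dvd_prime_pow R.hp).1 (Nat.dvd_of_mod_eq_zero (Nat.eq_of_beq_eq_true h2))
    have h3 := R.lowp x k hx
    refine Or.inr (Nat.lt_succ_iff.1 ((Nat.div_lt_iff_lt_mul (Nat.pos_of_ne_zero ha)).2 ?_))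
    rw [Nat.succ_mul, mul_comm]
    have := Nat.pos_of_ne_zero ha
    omega
  have h2 : a.Coprime p := by
    refine ((Nat.Prime.coprime_iff_not_dvd R.hp).2 ?_).symm
    rcases hP with rfl | k
    exacts [fun k => beq_false.1 h1 (Nat.mod_eq_zero_of_dvd k), k.2]
  rw [cond_false]
  induction els with
  | nil => exact R.fst hA h0 ht h2 hx 130 0 (R.val x a h2 hx).1.1 (R.val x a h2 hx).1.2
  | cons y els ih =>
    rw [List.foldr_cons]
    rcases ih fun z hz => hE z (List.mem_cons_of_mem _ hz) with k | k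
    · exact Or.inl k
    cases h3 : Nat.beq y.r a && !Nat.beq (A % a ^ 2) 0
    · exact Or.inr k
    rw [Bool.and_eq_true, Nat.beq_eq, Bool.not_eq_true', beq_false] at h3
    obtain ⟨rfl, h3⟩ := h3
    have hy := hE y List.mem_cons_self
    have : Fact y.r.Prime := ⟨hy.1⟩
    by_cases h4 : x = 1
    · refine Or.inr (max_le (le_trans ?_ (h4 ▸ R.d_one)) k)
      rw [badEl, frc_eq, frc_eq]
      exact (foldr_min_le _ _ (fun f : ℕ × ℕ => l + f.2) _).1
    have h5 := orderOf_eq_prime hx h4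
    obtain ⟨j, h6, h7⟩ := ch_all hy.1 (fun k => h3 (Nat.mod_eq_zero_of_dvd (k.trans (ho ▸ hoA)))) hy.2.2.1 h5
    exact (R.el ho hA hoA h0 ht hy (fun k => R.hp.one_lt.ne' ((Nat.coprime_self p).1 (k ▸ h2))) h5 h6 h7).imp_right
      fun k1 => max_le k1.1 k

theorem Rx.ok (R : Rx l tw p e T N G c d) (ho : Nat.card N = o) (hA : Nat.card (MulAut N) ∣ A) (hoA : o ∣ A) (h0 : A ≠ 0)
    (ht : t.Ok l (p ^ e) T) (hE : ∀ x ∈ els, x.Ok N) (hT : ∀ x ∈ tris, Tr N x.1 x.2.1 x.2.2) (hW : WW els tris ≠ 0)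
    (hP : P = p ∨ P = 0 ∧ ¬ p ∣ WW els tris) (h : ok l P o A t els tris = true) : G := by
  simp only [Sm.ok, Bool.or_eq_true, List.any_eq_true, Bool.and_eq_true, Bool.not_eq_true', beq_false, Nat.beq_eq,
    Nat.blt_eq] at h
  rcases h with ⟨x, hx, h1, h2⟩ | ⟨x, hx, h1⟩
  · obtain ⟨g, j, h3, h4, h5⟩ := (hE x hx).2.2.1
    have h6 : x.r ≠ p := by
      rcases hP with rfl | k
      exacts [h1, fun a => k.2 (a ▸ ((List.dvd_prod (List.mem_map_of_mem hx)).mul_left _).mul_right _)]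
    exact (R.el ho hA hoA h0 ht (hE x hx) h6 h3 h4 h5).resolve_right fun k => by omega
  · obtain ⟨y, z, h2, h3, h4, h5⟩ := hT x hx
    have h6 : x.1 * x.2.1 * x.2.2 ∣ WW els tris :=
      (List.dvd_prod (List.mem_map_of_mem (f := fun x : ℕ × ℕ × ℕ => x.1 * x.2.1 * x.2.2) hx)).mul_left _
    have h7 : ∀ {a : ℕ} {u : N}, a ∣ x.1 * x.2.1 * x.2.2 → u ^ a = 1 → G ∨ bad l P o A t els a ≤ d u := fun ha hu =>
      R.bad_le ho hA hoA h0 ht hE (fun k => hW (zero_dvd_iff.1 (k ▸ ha.trans h6)))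
        (hP.imp_right fun k => ⟨k.1, fun b => k.2 (b.trans (ha.trans h6))⟩) hu
    have h8 : zc l P = zc l p := by
      rcases hP with rfl | ⟨rfl, k⟩
      · rfl
      have a2 : p ≠ 2 := by
        rintro rfl
        exact k ((Dvd.dvd.mul_right (by norm_num) _).mul_right _)
      have a3 : p ≠ 3 := by
        rintro rfl
        exact k ((Dvd.dvd.mul_right (by norm_num) _).mul_right _)
      simp [zc, a2, a3]
    have h9 := R.scott y z h5
    by_contra hG
    have a1 := (h7 ((dvd_mul_right _ _).mul_right _) h2).resolve_left hG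
    have a2 := (h7 ((dvd_mul_left _ _).mul_right _) h3).resolve_left hG
    have a3 := (h7 (dvd_mul_left _ _) h4).resolve_left hG
    omega

theorem unif2 (ht : Ty l tw) (h : Art.Real (sh l tw) p e T) {q1 k z α β γ : ℕ} (h0 : 0 < q1) (hq : q1 ≤ p ^ e)
    (hk : 3 * (k + z) ≤ dimT l) (hc : dM l * ((α * (q1 ^ k * (q1 + 1) ^ z)) ^ 3 * β) ≤ ordU l q1 * γ ^ 3) :
    (α * ((p ^ e) ^ k * (p ^ e + 1) ^ z)) ^ 3 * β ≤ T * γ ^ 3 := by
  have h1 := ordU_le ht h
  have h2 := ordU_mono ht hq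
  have h3 := Nat.pow_le_pow_left (succ_mono hq k z) 3
  generalize p ^ e = q at *
  obtain ⟨E, hE⟩ := Nat.exists_eq_add_of_le hk
  refine Nat.le_of_mul_le_mul_left ?_ (Nat.mul_pos (pow_pos h0 (dimT l)) (dM_pos l))
  calc _ = dM l * α ^ 3 * β * q1 ^ E * (q ^ k * (q + 1) ^ z * q1 ^ (k + z)) ^ 3 := by rw [hE]; ring
    _ ≤ dM l * α ^ 3 * β * q ^ E * (q1 ^ k * (q1 + 1) ^ z * q ^ (k + z)) ^ 3 := by gcongr
    _ = dM l * ((α * (q1 ^ k * (q1 + 1) ^ z)) ^ 3 * β) * q ^ dimT l := by rw [hE]; ring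
    _ ≤ ordU l q1 * γ ^ 3 * q ^ dimT l := Nat.mul_le_mul_right _ hc
    _ = ordU l q1 * q ^ dimT l * γ ^ 3 := by ring
    _ ≤ q1 ^ dimT l * (dM l * T) * γ ^ 3 := Nat.mul_le_mul_right _ (h2.trans (Nat.mul_le_mul_left _ h1))
    _ = _ := by ring

theorem tE_ok (l q T : ℕ) : (tE l q T).Ok l q T where
  t1 k α β γ h := by
    simp only [tE, frc_eq, Nat.ble_eq] at h
    exact h
  t2 _ _ _ _ h := Nat.le_of_ble_eq_true h
  m r hr := by
    have : Fact r.Prime := ⟨hr⟩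
    rw [show (tE l q T).m r = bif Nat.beq (ordm (q % r) r) 0 then 1 else ordm (q % r) r from
      frc_eq (ordm (q % r) r) fun m => bif Nat.beq m 0 then 1 else m]
    cases h : Nat.beq (ordm (q % r) r) 0
    · exact Or.inr (by rw [cond_false, ← ordm_eq (beq_false.1 h), ZMod.natCast_mod])
    · exact Or.inl rfl

theorem Rx.tU_ok (R : Rx l tw p e T N G c d) {q : ℕ} (h0 : 0 < q) (hq : q ≤ p ^ e) : (tU l q (ordU l q)).Ok l (p ^ e) T where
  t1 k α β γ h := by
    simp only [tU, frc_eq, Bool.and_eq_true, Nat.ble_eq] at h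
    exact unif2 R.typ R.real h0 hq h.1 h.2
  t2 _ _ _ _ h := absurd h Bool.false_ne_true
  m _ _ := Or.inl rfl

section final

variable (R : Rx l tw p e T N G c d) (ho : Nat.card N = o) (hA : Nat.card (MulAut N) ∣ A) (hoA : o ∣ A) (h0 : A ≠ 0)
  (hE : ∀ x ∈ els, x.Ok N) (hT : ∀ x ∈ tris, Tr N x.1 x.2.1 x.2.2) (hW : WW els tris ≠ 0)

include R ho hA hoA h0 hE hT hW

theorem Rx.exq (hP : P = p ∨ P = 0 ∧ ¬ p ∣ WW els tris) (h : exq l tw P o A els tris (p ^ e) = true) : G := by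
  rw [Sm.exq, frc_eq, oT_eq R.real] at h
  simp only [Bool.or_eq_true, Bool.not_eq_true', beq_false, Nat.ble_eq] at h
  rcases h with (h | h) | h
  exacts [absurd (Nat.mod_eq_zero_of_dvd (ho ▸ R.dvd)) h, absurd (ho ▸ R.lt) (not_lt.2 h),
    R.ok ho hA hoA h0 (tE_ok _ _ _) hE hT hW hP h]

theorem Rx.unq (hP : P = p ∨ P = 0 ∧ ¬ p ∣ WW els tris) {q : ℕ} (h1 : 0 < q) (hq : q ≤ p ^ e)
    (h : unq l P o A els tris q = true) : G := by
  rw [Sm.unq, frc_eq] at h
  exact R.ok ho hA hoA h0 (R.tU_ok h1 hq) hE hT hW hP h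

/-- **one characteristic** -/
theorem Rx.chkP (h : chkP l tw p o A els tris = true) : G := by
  rcases allU_sound h R.real.hf with k | ⟨j, -, k1, k⟩ <;> rw [frc_eq] at k
  exacts [R.exq ho hA hoA h0 hE hT hW (Or.inl rfl) k,
    R.unq ho hA hoA h0 hE hT hW (Or.inl rfl) (pow_pos R.hp.pos j) (Nat.pow_le_pow_right R.hp.pos k1) k]

omit hW in
theorem Rx.chkT {al : ℕ → Bool} (hal : al p = true) (h : chkT l tw o A els tris al = true) : G := by
  rw [Sm.chkT, frc_eq, Bool.and_eq_true, Bool.and_eq_true, Bool.not_eq_true', beq_false] at h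
  obtain ⟨⟨hW, h1⟩, h2⟩ := h
  by_cases hd : p ∣ WW els tris
  · have h3 : p ≤ MX els tris := by
      have hp := R.hp
      rcases hp.dvd_mul.1 hd with k | k
      · rcases hp.dvd_mul.1 k with k | k
        · have k1 := Nat.le_of_dvd (by norm_num) k
          refine le_trans ?_ (le_max_left _ _)
          interval_cases p <;> first | omega | exact absurd hp (by norm_num)
        · obtain ⟨_, k1, k2⟩ := hp.prime.dvd_prod_iff.1 k
          obtain ⟨x, hx, rfl⟩ := List.mem_map.1 k1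
          exact ((Nat.le_of_dvd (hE x hx).1.pos k2).trans (le_foldr_max k1)).trans ((le_max_left _ _).trans (le_max_right _ _))
      · obtain ⟨_, k1, k2⟩ := hp.prime.dvd_prod_iff.1 k
        obtain ⟨x, hx, rfl⟩ := List.mem_map.1 k1
        have k3 : x.1 * x.2.1 * x.2.2 ≠ 0 := fun a => hW (zero_dvd_iff.1 (a ▸ (List.dvd_prod k1).mul_left _))
        refine le_trans ?_ ((le_foldr_max (List.mem_map_of_mem (f := fun x : ℕ × ℕ × ℕ => max x.1 (max x.2.1 x.2.2)) hx)).trans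
          ((le_max_right _ _).trans (le_max_right _ _)))
        rw [mul_ne_zero_iff, mul_ne_zero_iff] at k3
        rcases hp.dvd_mul.1 k2 with a | a
        · rcases hp.dvd_mul.1 a with a | a
          exacts [(Nat.le_of_dvd (Nat.pos_of_ne_zero k3.1.1) a).trans (le_max_left _ _),
            (Nat.le_of_dvd (Nat.pos_of_ne_zero k3.1.2) a).trans ((le_max_left _ _).trans (le_max_right _ _))]
        · exact (Nat.le_of_dvd (Nat.pos_of_ne_zero k3.2) a).trans ((le_max_right _ _).trans (le_max_right _ _))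
    have h4 := allR_sound h1 R.hp.two_le (by omega)
    rw [Nat.mod_eq_zero_of_dvd hd, cmp_prime R.hp, hal] at h4
    exact R.chkP ho hA hoA h0 hE hT hW h4
  · have h5 : 5 ≤ p ^ e := by
      refine le_trans ?_ (Nat.le_self_pow (by have := R.real.hf; omega) p)
      by_contra h6
      have hp := R.hp
      have h7 := hp.two_le
      interval_cases p
      exacts [hd ((Dvd.dvd.mul_right (by norm_num) _).mul_right _), hd ((Dvd.dvd.mul_right (by norm_num) _).mul_right _),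
        absurd hp (by norm_num)]
    rcases allU_sound h2 h5 with k | ⟨j, k1, k2, k⟩
    · rw [mf_eq R.hp R.real.hf, Nat.mod_eq_zero_of_dvd (pow_dvd_pow p (Nat.lt_pow_self R.hp.one_lt).le),
        show Nat.gcd (p ^ e) (WW els tris) = 1 from ((Nat.Prime.coprime_iff_not_dvd R.hp).2 hd).pow_left e] at k
      exact R.exq ho hA hoA h0 hE hT hW (Or.inr ⟨rfl, hd⟩) k
    · rw [Bool.and_eq_true] at k
      exact R.unq ho hA hoA h0 hE hT hW (Or.inr ⟨rfl, hd⟩) (by omega) k2 k.2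

omit hW in
/-- **all characteristics** -/
theorem Rx.chkAll {al : ℕ → Bool} {dg : ℕ} (hal : al p = true) (hd : dg ≤ dimT l) (h : chkAll al dg o A els tris = true) : G :=
  R.chkT ho hA hoA h0 hE hT hal (allT_sound h R.typ hd)

end final

end Cfsg.Agent.N2.Ex.Sm
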