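import Cfsg.Agent.N2.Ex.Sim.Defs
import Cfsg.Agent.N2.Ex.Cb.Ref
import Cfsg.Agent.N2.Cl.RD.Lnk

/-!
# N2 (S3519), `F₄, E₆, ²E₆, E₇, E₈`, simple socle: `boxRx_of` (helper94)
-/

set_option autoImplicit false
set_option linter.unusedSectionVars false

namespace Cfsg.Agent.N2.Ex.Sm

open Cfsg Cfsg.Lie Cfsg.Lie.ChevalleyDatum Subgroup
open Cfsg.Agent.Nodes.RGDChev Cfsg.Agent.H316.U6 Cfsg.Agent.DS.Ex Cfsg.Agent.DS.Nt
open Cfsg.Agent.H902 Cfsg.Agent.H902.Names Cfsg.Agent.OrdDiv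
open Cfsg.Agent.SB.Exc (XF dM)
open Cfsg.Agent.H290.ElReg (Fth)
open Cfsg.Agent.H931.KC (nmk nmk_F4 nmk_E6 nmk_E7 nmk_E8)
open Cfsg.Agent.TH.Ab (IsoX)

namespace RxG

section typ

variable {D : ChevalleyDatum} {l : ℕ} {M : CoxeterMatrix (Fin l)} (hp : IsType D l M) (hD : Typ D)

include hp hD

theorem cases : D = chevF4 ∧ l = 4 ∨ D = chevE6 ∧ l = 6 ∨ D = chevE7 ∧ l = 7 ∨ D = chevE8 ∧ l = 8 := by
  have hl := typ_l hp
  rcases hD with h | h | h | h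
  exacts [.inl ⟨h, hl.1 h⟩, .inr (.inl ⟨h, hl.2.1 h⟩), .inr (.inr (.inl ⟨h, hl.2.2.1 h⟩)), .inr (.inr (.inr ⟨h, hl.2.2.2 h⟩))]

theorem card_idx : Fintype.card D.Idx = dimT l := by
  rcases cases hp hD with ⟨rfl, rfl⟩ | ⟨rfl, rfl⟩ | ⟨rfl, rfl⟩ | ⟨rfl, rfl⟩ <;>
    rw [Fintype.card_sum, Fintype.card_fin, Fintype.card_fin] <;> decide +kernel

theorem nmk_eq : nmk D l = dM l := by
  rcases cases hp hD with ⟨rfl, rfl⟩ | ⟨rfl, rfl⟩ | ⟨rfl, rfl⟩ | ⟨rfl, rfl⟩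
  exacts [nmk_F4, nmk_E6, nmk_E7, nmk_E8]

theorem real {tw : Bool} {p f : ℕ} (h : p.Prime) {T : Type} [Group T] [Finite T] (hs : IsSimpleGroup T)
    (hn : ¬ IsMulCommutative T) (hi : IsoX D tw p f T) :
    (l = 6 ∨ tw = false ∧ (l = 4 ∨ l = 7 ∨ l = 8)) ∧ Art.Real (sh l tw) p f (Nat.card T) := by
  obtain ⟨hf, F, _, _, _, ⟨rfl, hF, ⟨e⟩⟩ | ⟨rfl, rfl, hF, ⟨e⟩⟩⟩ := hi
  · rcases cases hp hD with ⟨rfl, rfl⟩ | ⟨rfl, rfl⟩ | ⟨rfl, rfl⟩ | ⟨rfl, rfl⟩
    exacts [⟨by simp, (N2C.RD.nd_F4 hs hn h hf hF e).real⟩, ⟨by simp, (N2C.RD.nd_E6 hs hn h hf hF e).real⟩,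
      ⟨by simp, (N2C.RD.nd_E7 hs hn h hf hF e).real⟩, ⟨by simp, (N2C.RD.nd_E8 hs hn h hf hF e).real⟩]
  · obtain rfl := (typ_l hp).2.1 rfl
    exact ⟨.inl rfl, (N2C.RD.nd_2E6 hs hn h hf hF e).real⟩

end typ

section grp

variable {G : Type} [Group G] [Finite G] {T H N : Subgroup G}

theorem card_dvd (h : Prf T H N) : Nat.card (H.subgroupOf T) ∣ Nat.card (MulAut N) := by
  have hn : H ⊓ T ≤ normalizer (N : Set G) := fun a ha =>
    mem_normalizer_iff.2 fun x => ⟨h.nrm a ha.1 x, fun hx => by simpa [mul_assoc] using h.nrm a⁻¹ (inv_mem ha.1) _ hx⟩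
  rw [card_A]
  refine card_dvd_of_injective (N.normalizerMonoidHom.comp (inclusion hn))
    ((injective_iff_map_eq_one _).2 fun a ha => Subtype.ext (h.cent a a.2.2 fun x hx => ?_))
  have h1 := congrArg Subtype.val (DFunLike.congr_fun ha ⟨x, hx⟩)
  exact mul_inv_eq_iff_eq_mul.1 h1

/-- **the criterion with the automizer** -/
theorem good2 (h : Prf T H N) (i : N →* T) (hi : ∀ x, (i x : G) = x) {g : N} {r n : ℕ} (hr : r.Prime) (hg : orderOf g = r)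
    (hn : Nat.card {y : zpowers g // IsConj (i g) (i y)} ≤ n) (h1 : ¬ r * Nat.card N ∣ Nat.card (MulAut N))
    (h2 : ∀ x : N, orderOf x = r → ∃ j : ℕ, IsConj x (g ^ j))
    (h3 : (cn (i g) * n) ^ 3 * Nat.card N ≤ Nat.card T * Nat.card (normalizer (zpowers g : Set N)) ^ 3) : Gd T H := by
  have hj : Function.Injective i := fun x y e => Subtype.ext (by rw [← hi, ← hi, e])
  have hB : ∀ s, i s ∈ H.subgroupOf T := fun s => by
    rw [mem_subgroupOf, hi]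
    exact (h.le s.2).1
  have h4 := N2C.RD.Lk.cc_mul (H.subgroupOf T) i hj hB (fun b hb s => ⟨⟨_, h.nrm b hb s s.2⟩, Subtype.ext (by
    rw [hi, coe_mul, coe_mul, hi, coe_inv])⟩) hr hg (fun k => h1 (k.trans (card_dvd h))) h2
  have h5 : Nat.card N ≤ Nat.card (H.subgroupOf T) :=
    Nat.card_le_card_of_injective (fun s => (⟨i s, hB s⟩ : H.subgroupOf T)) fun x y e => hj (congrArg Subtype.val e)
  refine good_of_le (hB g) le_rfl ?_
  have h6 := fx_mul (H.subgroupOf T) (i g)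
  have h7 : 0 < Nat.card (H.subgroupOf T) := Nat.card_pos
  have h8 : 0 < Nat.card (normalizer (zpowers g : Set N)) := Nat.card_pos
  generalize FP3.fx (H.subgroupOf T) (i g) = x, Nat.card (H.subgroupOf T) = A, cn (i g) = c, cc (H.subgroupOf T) (i g) = k,
    Nat.card (normalizer (zpowers g : Set N)) = m, Nat.card N = s, Nat.card T = t at *
  have h9 : x * A * m ≤ c * n * s := by
    rw [h6, mul_assoc, mul_assoc]
    exact Nat.mul_le_mul_left _ (h4.trans (Nat.mul_le_mul_right _ hn))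
  refine Nat.le_of_mul_le_mul_right ?_ (show 0 < A ^ 2 * m ^ 3 by positivity)
  calc x ^ 3 * A * (A ^ 2 * m ^ 3) = (x * A * m) ^ 3 := by ring
    _ ≤ (c * n * s) ^ 3 := Nat.pow_le_pow_left h9 3
    _ = (c * n) ^ 3 * s * s ^ 2 := by ring
    _ ≤ t * m ^ 3 * A ^ 2 := Nat.mul_le_mul h3 (Nat.pow_le_pow_left h5 2)
    _ = _ := by ring

end grp

/-- the powers of `g` which are conjugate to `g` -/
theorem card_le_hm {D : ChevalleyDatum} {l : ℕ} {M : CoxeterMatrix (Fin l)} (hp : IsType D l M) {p r : ℕ} [Fact p.Prime]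
    [Fact r.Prime] (hrp : r ≠ p) {N T : Type} [Group N] [Finite N] [Group T] (i : N →* T) (ι : T →* YY D p)
    (hj : Function.Injective (ι.comp i)) {g : N} (hg : orderOf g = r) :
    Nat.card {y : zpowers g // IsConj (i g) (i y)} ≤ Cb.hm hp (ι (i g)) r := by
  have ho : orderOf (ι (i g)) = r := (orderOf_injective (ι.comp i) hj g).trans hg
  have h0 : ∀ y : {y : zpowers g // IsConj (i g) (i y)}, ∃ j : ℕ, g ^ j = y.1 := fun y =>
    mem_powers_iff_mem_zpowers.2 y.1.2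
  choose j h1 using h0
  have h2 : ∀ y, IsConj (ι (i g)) (ι (i g) ^ j y) := fun y => by
    rw [← map_pow, ← map_pow, h1]
    exact ι.map_isConj y.2
  have h3 : ∀ y, (j y : ZMod r) ≠ 0 := fun y h0 => by
    have h := h2 y
    rw [ZMod.natCast_eq_zero_iff, ← ho, orderOf_dvd_iff_pow_eq_one] at h0
    rw [h0, isConj_one_left] at h
    rw [h, orderOf_one] at ho
    exact (Fact.out : r.Prime).ne_one ho.symm
  refine Nat.card_le_card_of_injective (β := Cb.HH hp (ι (i g)) r) (fun y => ⟨Units.mk0 _ (h3 y),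
    Cb.mem_HH_of_conj hrp (ho ▸ pow_orderOf_eq_one _) (h2 y).symm rfl⟩) fun x y e => Subtype.ext (Subtype.ext ?_)
  rw [← h1, ← h1, pow_eq_pow_iff_modEq, hg]
  exact (ZMod.natCast_eq_natCast_iff _ _ _).1 (congrArg (fun k : Cb.HH hp (ι (i g)) r => ((k : (ZMod r)ˣ) : ZMod r)) e)

end RxG

open RxG

/-- **[Rx]** -/
theorem boxRx_of (hV : BoxVal) (h6 : BoxSix) (h2 : BoxR2) (hR3 : BoxR3) : BoxRx := by
  intro hK D l M hp p _ tw f G _ _ T H F C N hN
  obtain ⟨d, d1, d2, d3⟩ := (hK D l M hp p tw f G T H F C N hN.prf).scott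
  rw [card_idx hp C.typ] at d2 d3
  rw [F.hι] at d1
  have hpp : p.Prime := Fact.out
  have hT : N ≤ T := hN.le.trans inf_le_right
  let i : N →* T := inclusion hT
  have hi : Function.Injective i := inclusion_injective hT
  have hj : Function.Injective (F.m.ι.comp i) := F.m.inj.comp hi
  have ho : ∀ g, orderOf (i g) = orderOf g := orderOf_injective i hi
  have ho' : ∀ g, orderOf (F.m.ι (i g)) = orderOf g := orderOf_injective _ hj
  have hd : ∀ g : N, (orderOf g).Coprime p → d (i g) = dd p (F.m.ι (i g)) := fun g h => d1 _ (.inl (ho g ▸ h))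
  have hc : ∀ {g : N} {r : ℕ}, r.Prime → r ≠ p → orderOf g = r → (orderOf g).Coprime p := fun h1 h2 h3 =>
    h3 ▸ (Nat.coprime_primes h1 hpp).2 h2
  have hcj : ∀ {g : N} {j : ℕ}, IsConj g (g ^ j) → IsConj (F.m.ι (i g)) (F.m.ι (i g) ^ j) := fun h => by
    rw [← map_pow, ← map_pow]
    exact (F.m.ι.comp i).map_isConj h
  obtain ⟨k1, k2⟩ := real hp C.typ hpp C.cx.setup.simple C.cx.setup.noncomm C.iso
  refine ⟨fun g => cn (i g), fun g => d (i g), k1, k2, card_dvd_of_le hT, ?_, ⟨_, inferInstance, (inferInstance : CharP (H469.Exc.KK p) p), ?_⟩,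
    fun g h => gd_of_cn (a := i g) (hN.le g.2).1 le_rfl ((Nat.mul_le_mul_left _ hN.prf.card_le).trans h),
    fun g k h1 h3 => ?_, fun g k h1 h3 h4 => ?_, fun x y h => ?_, fun x k h => d2 _ k (by rw [← map_pow, h, map_one]),
    fun x a h1 h3 => ?_, fun g r h1 h3 h4 h5 => ?_, fun g r j h1 h3 h4 h5 h7 h8 h9 => ?_, fun g r h1 h3 h4 h5 h7 h8 => ?_,
    fun g k h1 h3 => ?_, fun g r h1 h3 h4 h5 h7 h8 h9 => ?_⟩
  · refine lt_of_le_of_ne (card_le_of_le hT) fun e => C.cx.setup.not_le ?_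
    exact (eq_of_le_of_card_ge hT e.ge).ge.trans (hN.le.trans inf_le_left)
  · rw [← card_idx hp C.typ]
    exact Fth.of (ρ := (D.group _).subtype.comp (F.m.ι.comp i)) ((D.group _).subtype_injective.comp hj)
  · rw [← nmk_eq hp C.typ]
    exact Cb.cn_le' F.m (ho g ▸ h1) (hd g h1 ▸ h3)
  · exact Cb.cn_le_conn (Cb.cz_typ hp C.typ) F.m (ho g ▸ h1) (ho g ▸ h3) (hd g h1 ▸ h4)
  · rw [map_mul]
    refine d3 _ _ ?_
    have h1 := congrArg (Subgroup.map N.subtype) h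
    rwa [MonoidHom.map_closure, Set.image_pair, ← MonoidHom.range_eq_map, range_subtype] at h1
  · rw [hd x (h1.coprime_dvd_left (orderOf_dvd_of_pow_eq_one h3))]
    exact hV D l M hp C.typ p _ a h1 (by rw [← map_pow, ← map_pow, h3, map_one, map_one])
  · have : Fact r.Prime := ⟨h1⟩
    obtain ⟨t, ht, a1, a2⟩ := Cb.pair (hp := hp) C.typ h4 ((ho' g).trans h5)
    refine ⟨t, ht, _, (hd g (hc h1 h4 h5)).trans a2, a1, Cb.hm_dvd,
      Cb.two_dvd_hm (by rw [← h5, ← ho' g, pow_orderOf_eq_one]) (by omega),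
      Cb.ord_dvd h4 F.m (by rw [← h5, ← ho g, pow_orderOf_eq_one]),
      fun j h => Cb.ord_conj_dvd h4 ((ho' g).trans h5) (hcj h), fun b1 b2 b3 => ?_⟩
    exact good2 hN.prf i (fun _ => rfl) h1 h5 (card_le_hm hp h4 i F.m.ι hj h5) b1 b2 b3
  · subst h7
    rcases cases hp C.typ with ⟨-, e⟩ | ⟨rfl, -⟩ | ⟨-, e⟩ | ⟨-, e⟩
    · omega
    · exact h6 M hp p _ r j h1 h3 h4 ((ho' g).trans h5) (hd g (hc h1 h4 h5) ▸ h8) (hcj h9)
    all_goals omega
  · rw [hd g (hc h1 h4 h5)] at h8 ⊢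
    refine h2 D l M hp p _ T F.m (i g) r h1 h3 h4 ((ho g).trans h5) h7 ?_
    rcases cases hp C.typ with ⟨e, e'⟩ | ⟨e, e'⟩ | ⟨e, e'⟩ | ⟨e, e'⟩
    · exact .inr ⟨e, by omega⟩
    · omega
    · omega
    · exact .inl ⟨e, by omega⟩
  · rw [hd g h1] at h3
    rw [← ho g] at h1 ⊢
    exact (hR3 D l M hp C.typ p _ T F.m (i g) h1).1 k h3
  · rw [hd g (hc h1 h4 h5)] at h9
    have h0 := hc h1 h4 h5
    rw [← ho g] at h0 h5
    subst h5
    exact (hR3 D l M hp C.typ p _ T F.m (i g) h0).2 h1 h3 h7 h8 h9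

end Cfsg.Agent.N2.Ex.Sm
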