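import Cfsg.Agent.N2.Ex.Sim.Sieve
import Cfsg.Agent.TH.Ex.Dg.BoxL
import Cfsg.Agent.H364.LieNam
import Cfsg.Agent.OrdDiv.Table

/-!
# N2 (S3519), exceptional groups, socle of Lie type in another characteristic: the engine (helper6)

`row_of` : the row from a table of data and a list of further triples.
-/

set_option autoImplicit false
set_option linter.unusedSectionVars false

namespace Cfsg.Agent.N2.Ex.Sm.Cr

open Cfsg Cfsg.Agent.H902 Cfsg.Agent.H902.Names Cfsg.Agent.OrdDiv Cfsg.Agent.TH.Ex.Dg Cfsg.Agent.H290.ElReg Cfsg.Agent.H290.ElTab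
open Cfsg.Agent.H252.EN Cfsg.Agent.H889.Enum
open Cfsg.Agent.N2C.RD (PdX)
open Cfsg.Agent.N2C.RX (frc frc_eq allR allR_sound ordm ordm_eq)

/-- the name -/
def nm : Art.Sh → Bool → ℕ → Grp
  | .L n, _, q => .psl n q
  | .C n, o, q => bif o then .oodd n q else .psp n q
  | .U n, _, q => .psu n q
  | .D n, _, q => .oplus n q
  | .DD n, _, q => .ominus n q
  | .G2, _, q => .g2 q
  | .F4, _, q => .f4 q
  | .E6, _, q => .e6 q
  | .E7, _, q => .e7 q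
  | .E8, _, q => .e8 q
  | .TE6, _, q => .te6 q
  | .TD4, _, q => .td4 q
  | .Sz, _, q => .sz q
  | .Ree, _, q => .ree q
  | .TF4, _, q => .tf4 q

/-- there are two names -/
def isO : Art.Sh → ℕ → Bool
  | .C n, q => Nat.ble 3 n && Nat.beq (q % 2) 1
  | _, _ => false

/-- `PdX` is decidable -/
def pdD : (X : Art.Sh) → (k : ℕ) → Decidable (PdX X k)
  | .L m, k => inferInstanceAs (Decidable (0 < k ∧ k ≤ m ∧ (k = 1 → m ≤ 4)))
  | .C m, k => inferInstanceAs (Decidable (0 < k ∧ (k ≤ m ∨ (k % 2 = 0 ∧ k ≤ 2 * m))))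
  | .U m, k => inferInstanceAs (Decidable (0 < k ∧ (2 * k ≤ m ∨ (k % 2 = 0 ∧ k ≤ m) ∨ (k % 4 = 2 ∧ k ≤ 2 * m)) ∧ (k = 2 → m ≤ 4)))
  | .D m, k => inferInstanceAs (Decidable (0 < k ∧ (k ≤ m ∨ (k % 2 = 0 ∧ k + 2 ≤ 2 * m))))
  | .DD m, k => inferInstanceAs (Decidable (0 < k ∧ (k < m ∨ (k % 2 = 0 ∧ k ≤ 2 * m))))
  | .G2, k => inferInstanceAs (Decidable (k ∣ 6))
  | .F4, k => inferInstanceAs (Decidable (k ∣ 8 ∨ k ∣ 12))
  | .E6, k => inferInstanceAs (Decidable (k ∣ 5 ∨ k ∣ 8 ∨ k ∣ 9 ∨ k ∣ 12))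
  | .E7, k => inferInstanceAs (Decidable (k ∣ 8 ∨ k ∣ 10 ∨ k ∣ 12 ∨ k ∣ 14 ∨ k ∣ 18))
  | .E8, k => inferInstanceAs (Decidable (k ∣ 14 ∨ k ∣ 18 ∨ k ∣ 20 ∨ k ∣ 24 ∨ k ∣ 30))
  | .TE6, k => inferInstanceAs (Decidable (k ∣ 8 ∨ k = 10 ∨ k ∣ 12 ∨ k = 18))
  | .TD4, k => inferInstanceAs (Decidable (k ∣ 6 ∨ k = 12))
  | .Sz, k => inferInstanceAs (Decidable (k = 1 ∨ k = 4))
  | .Ree, k => inferInstanceAs (Decidable (k = 1 ∨ k = 2 ∨ k = 6))
  | .TF4, k => inferInstanceAs (Decidable (k ∣ 4 ∨ k = 6 ∨ k = 12))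

/-- triples -/
abbrev T3 : Type := ℕ × ℕ × ℕ

/-- the datum of an element is correct -/
def okE (g : Grp) (X : Art.Sh) (r a o : ℕ) (e : El) : Bool :=
  prm e.r && Nat.ble 5 e.r && Nat.beq e.M 0 && ((Nat.beq e.h 1 && Nat.beq (o % e.r) 0) ||
    bif Nat.beq e.r r then !Nat.beq (h0 g r a) 0 && Nat.beq (h0 g r a % e.h) 0
    else [a, 1, 2, 3].any fun b => Nat.beq (a % b) 0 && (Nat.beq b a || sb g) &&
      frc (ordm (r ^ b % e.r) e.r) fun i => !Nat.beq i 0 && @decide _ (pdD X i) && Nat.beq (hh g i % e.h) 0)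

/-- the triple is one of the three families -/
def okT (X : Art.Sh) (r a q : ℕ) (t : T3) : Bool :=
  (decide (X = .L 2 ∧ t.1 = 2 ∧ t.2.1 = 3 ∧ 7 ≤ t.2.2 ∧ (Nat.gcd 2 (q - 1) * t.2.2 ∣ q + 1 ∨ Nat.gcd 2 (q - 1) * t.2.2 ∣ q - 1)) &&
      allR (fun b => decide (b ∣ a → ¬ t.2.2 ∣ r ^ b + 1 ∧ ¬ t.2.2 ∣ r ^ b - 1)) a 0) ||
    decide (X = .L 3 ∧ q ≠ 2 ∧ q ≠ 4 ∧ t = (2, (q ^ 2 + q + 1) / Nat.gcd 3 (q - 1), (q ^ 2 + q + 1) / Nat.gcd 3 (q - 1))) ||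
    decide (X = .U 3 ∧ q ≠ 3 ∧ q ≠ 5 ∧ t = (2, (q ^ 2 - q + 1) / Nat.gcd 3 (q + 1), (q ^ 2 - q + 1) / Nat.gcd 3 (q + 1)))

/-- further triples : name, order, triple -/
def XS (xs : List (Grp × ℕ × T3)) : Prop := ∀ x ∈ xs, ∀ (N : Type) [Group N] [Finite N], OrdDiv.Real x.1 N → Nat.card N = x.2.1 →
  Tr N x.2.2.1 x.2.2.2.1 x.2.2.2.2

/-- the degree -/
def dgO (X : Art.Sh) (o : Bool) (q : ℕ) : ℕ := max (dgL X q) (bif o then q ^ 3 - 1 else 0)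

/-- a row of the table -/
structure Rw where
  X : Art.Sh
  r : ℕ
  a : ℕ
  o : Bool
  els : List El
  tris : List T3

/-- the check of a row -/
def chk (xs : List (Grp × ℕ × T3)) (w : Rw) : Bool :=
  frc (w.r ^ w.a) fun q => frc (od w.X w.r w.a) fun o => frc (ouN w.X w.r w.a * o) fun A => frc (w.r * o2 w.X q) fun s =>
    frc (dgO w.X w.o q) fun dg => !Nat.beq A 0 && w.els.all (okE (nm w.X w.o q) w.X w.r w.a o) &&
      w.tris.all (fun t => okT w.X w.r w.a q t || decide ((nm w.X w.o q, o, t) ∈ xs)) &&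
        chkAll (fun p => !Nat.beq (s % p) 0) dg o A w.els w.tris

/-- the groups -/
def keys : List ((Art.Sh × ℕ × ℕ) × Bool) := (reg 248).flatMap fun x => frc (x.2.1 ^ x.2.2) fun q =>
  bif Nat.blt 248 (dgL x.1 q) || @decide (AltN x.1 q) (by unfold AltN; infer_instance) then []
  else (x, false) :: bif isO x.1 q then [(x, true)] else []

variable {l : ℕ} {tw : Bool} {p e T : ℕ} {N : Type} [Group N] [Finite N] {G : Prop} {c d : N → ℕ} {g : Grp} {X : Art.Sh} {r a : ℕ}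

theorem nm_of (hg : IsLie g X r a) : g = nm X false (r ^ a) ∨ isO X (r ^ a) = true ∧ g = nm X true (r ^ a) ∧
    ∃ n, 3 ≤ n ∧ g = .oodd n (r ^ a) := by
  cases hg with
  | oodd n _ _ hn ho =>
    refine Or.inr ⟨?_, rfl, n, hn, rfl⟩
    show (Nat.ble 3 n && Nat.beq (r ^ a % 2) 1) = true
    rw [Bool.and_eq_true, Nat.ble_eq, Nat.beq_eq]
    exact ⟨hn, Nat.odd_iff.1 ho⟩
  | _ => exact Or.inl rfl

theorem okE_ok (B : NB) (h : Nm N g X r a) {x : El} (k : okE g X r a (Nat.card N) x = true) : x.Ok N := by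
  simp only [okE, Bool.and_eq_true, Bool.or_eq_true, Nat.ble_eq, Nat.beq_eq] at k
  obtain ⟨⟨⟨k1, k2⟩, k3⟩, k4⟩ := k
  have hr := prm_sound k1
  refine ⟨hr, k2, ?_, fun k => absurd k3 k⟩
  rcases k4 with k4 | k4
  · exact k4.1 ▸ Ch.one hr (Nat.dvd_of_mod_eq_zero k4.2)
  have C := B.cj h.lie X r a N h
  cases h1 : Nat.beq x.r r
  · rw [h1, cond_false, List.any_eq_true] at k4
    obtain ⟨b, -, k4⟩ := k4
    simp only [frc_eq, Bool.and_eq_true, Bool.or_eq_true, Nat.beq_eq, Bool.not_eq_true', beq_false, decide_eq_true_eq] at k4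
    obtain ⟨⟨a1, a2⟩, ⟨a3, a4⟩, a5⟩ := k4
    have := Fact.mk hr
    have h2 : orderOf ((r ^ b : ℕ) : ZMod x.r) = ordm (r ^ b % x.r) x.r := by rw [← ordm_eq a3, ZMod.natCast_mod]
    exact (C.1 x.r b hr k2 (beq_false.1 h1) (Nat.dvd_of_mod_eq_zero a1) a2 (h2 ▸ a4)).mono (h2 ▸ Nat.dvd_of_mod_eq_zero a5)
  · rw [h1, cond_true, Bool.and_eq_true, Bool.not_eq_true', beq_false, Nat.beq_eq] at k4
    rw [Nat.beq_eq] at h1
    rw [h1] at k2 ⊢
    exact (C.2 k2 k4.1).mono (Nat.dvd_of_mod_eq_zero k4.2)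

theorem okT_ok (B : NB) (h : Nm N g X r a) {t : T3} (k : okT X r a (r ^ a) t = true) : Tr N t.1 t.2.1 t.2.2 := by
  simp only [okT, Bool.and_eq_true, Bool.or_eq_true, decide_eq_true_eq] at k
  have hg := h.lie
  rcases k with (⟨⟨rfl, k1, k2, k3, k4⟩, k5⟩ | ⟨rfl, k1, k2, rfl⟩) | ⟨rfl, k1, k2, rfl⟩ <;> cases hg
  · rw [k1, k2]
    exact B.l2 r a _ N h k3 k4 fun b h1 h2 => of_decide_eq_true (allR_sound k5 (Nat.zero_le b) (by omega)) h1
  · exact B.l3 r a N h k1 k2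
  · exact B.u3 r a N h k1 k2

variable [IsSimpleGroup N]

theorem row (B : NB) {xs : List (Grp × ℕ × T3)} (hx : XS xs) (R : Rx l tw p e T N G c d) (hna : ¬ IsMulCommutative N)
    (hp : ¬ IsLieTypeChar p N) (hr : r ≠ p) {o : Bool} (h : Nm N (nm X o (r ^ a)) X r a) (hd : dgO X o (r ^ a) ≤ dimT l)
    {els : List El} {tris : List T3} (k : chk xs ⟨X, r, a, o, els, tris⟩ = true) : G := by
  have h1 := real_eq h.ord
  simp only [chk, frc_eq, Bool.and_eq_true, Bool.not_eq_true', beq_false, List.all_eq_true, Bool.or_eq_true, decide_eq_true_eq,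
    ← h1] at k
  obtain ⟨⟨⟨k1, k2⟩, k3⟩, k4⟩ := k
  refine R.chkAll rfl (aut_ouN (fun h => hna ⟨⟨h⟩⟩) h.lie h.real h.ord).dvd (dvd_mul_left _ _) k1 (fun x hx => okE_ok B h (k2 x hx))
    (fun t ht => (k3 t ht).elim (okT_ok B h) fun k => hx _ k N h.real rfl) ?_ hd k4
  rw [Bool.not_eq_true', beq_false]
  intro k
  rcases R.hp.dvd_mul.1 (Nat.dvd_of_mod_eq_zero k) with k | k
  exacts [hr ((Nat.prime_dvd_prime_iff_eq R.hp h.ord.hp).1 k).symm, not_dvd_o2 h.lie h.real R.hp hp k]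

theorem dim_le (ht : Ty l tw) : dimT l ≤ 248 := by
  rcases ht with rfl | ⟨-, rfl | rfl | rfl⟩ <;> decide

/-- **the row from a table** -/
theorem row_of (B : NB) {xs : List (Grp × ℕ × T3)} (hx : XS xs) {tab : List Rw}
    (h1 : keys = tab.map fun w => ((w.X, w.r, w.a), w.o)) (h2 : ∀ w ∈ tab, chk xs w = true) : Row qCross := by
  rintro - l tw p e T N _ _ _ G c d hna ⟨hp, hA, r, hr, hN⟩ R
  obtain ⟨g, X, a, hg, h, hR⟩ := H364.LieNam.lie_nam OrdDiv.table hr hN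
  have hrp : r ≠ p := fun k => hp (k ▸ hN)
  obtain ⟨F, _, _, hf⟩ := R.fth
  have h3 : (r : F) ≠ 0 := fun k => hrp ((Nat.prime_dvd_prime_iff_eq R.hp hr).1 ((CharP.cast_eq_zero_iff F p r).1 k)).symm
  have h4 := dim_le R.typ
  have h5 := dgL_le (fun h => hna ⟨⟨h⟩⟩) hg h hR h4 h3 hf
  have h6 : (X, r, a) ∈ reg 248 := H290.ElCross.mem_reg le_rfl hr hR.hf hR.ok
    ((lb_le (fun h => hna ⟨⟨h⟩⟩) h4 hf hg h hR h3).trans h4)
  have key : ∀ o : Bool, g = nm X o (r ^ a) → (o = false ∨ o = true ∧ isO X (r ^ a) = true) → dgO X o (r ^ a) ≤ dimT l → G := by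
    rintro o rfl ho hd
    have h7 : ((X, r, a), o) ∈ keys := by
      refine List.mem_flatMap.2 ⟨_, h6, ?_⟩
      rw [frc_eq, show Nat.blt 248 (dgL X (r ^ a)) = false from by rw [← Bool.not_eq_true, Nat.blt_eq]; omega,
        @decide_eq_false _ (_) fun k => hA (alt_of hg h k)]
      rcases ho with rfl | ⟨rfl, ho⟩
      · exact List.mem_cons_self
      · rw [ho]
        exact List.mem_cons_of_mem _ List.mem_cons_self
    obtain ⟨⟨X', r', a', o', els, tris⟩, hw, k⟩ := List.mem_map.1 (h1 ▸ h7)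
    simp only [Prod.mk.injEq] at k
    obtain ⟨⟨rfl, rfl, rfl⟩, rfl⟩ := k
    exact row B hx R hna hp hrp ⟨hg, h, hR⟩ hd (h2 _ hw)
  rcases nm_of hg with k | ⟨k1, k2, n, hn, rfl⟩
  · exact key false k (Or.inl rfl) (max_le h5 (Nat.zero_le _))
  · refine key true k2 (Or.inr ⟨rfl, k1⟩) (max_le h5 ?_)
    obtain ⟨K, _, _, hK, ⟨f⟩⟩ := h
    exact hK ▸ (H912.Bd.bd_pomega_odd_cube (F := F) hr h3 (charP_of_pow hr hK) hn).congr f _ (hf.pr r)

end Cfsg.Agent.N2.Ex.Sm.Cr
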