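import Cfsg.Agent.N2.Ex.Sim.DfDefs
import Cfsg.Agent.N2.Cl.RD.Num

/-!
# N2 (S3519), exceptional groups, simple socle in the defining characteristic: the engine (helper69)

`s = x ^ u`, `q = x ^ v` with `u`, `v` coprime.  The checks are exact for small `x`, `v` and uniform for large `x`, `v`.
-/

set_option autoImplicit false
set_option linter.unusedSectionVars false

namespace Cfsg.Agent.N2.Ex.Sm.Df

open Cfsg Subgroup Cfsg.Agent.H902 Cfsg.Agent.H902.Names Cfsg.Agent.OrdDiv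
open Cfsg.Agent.N2C.RD (PdX oX dX gX Nd lg lg_eq lg_mul)
open Cfsg.Agent.N2C.RX (frc frc_eq allR allR_sound allU allU_sound mf mf_eq ordm ordm_eq nbeq syl_conj card_norm_ge)
open Cfsg.Agent.SB.Exc (dM ordU)

/-! ### the checks -/

def pdB : Art.Sh → ℕ → Bool
  | .L m, k => decide (0 < k ∧ k ≤ m ∧ (k = 1 → m ≤ 4))
  | .C m, k => decide (0 < k ∧ (k ≤ m ∨ (k % 2 = 0 ∧ k ≤ 2 * m)))
  | .U m, k => decide (0 < k ∧ (2 * k ≤ m ∨ (k % 2 = 0 ∧ k ≤ m) ∨ (k % 4 = 2 ∧ k ≤ 2 * m)) ∧ (k = 2 → m ≤ 4))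
  | .D m, k => decide (0 < k ∧ (k ≤ m ∨ (k % 2 = 0 ∧ k + 2 ≤ 2 * m)))
  | .DD m, k => decide (0 < k ∧ (k < m ∨ (k % 2 = 0 ∧ k ≤ 2 * m)))
  | .G2, k => decide (k ∣ 6)
  | .F4, k => decide (k ∣ 8 ∨ k ∣ 12)
  | .E6, k => decide (k ∣ 5 ∨ k ∣ 8 ∨ k ∣ 9 ∨ k ∣ 12)
  | .E7, k => decide (k ∣ 8 ∨ k ∣ 10 ∨ k ∣ 12 ∨ k ∣ 14 ∨ k ∣ 18)
  | .E8, k => decide (k ∣ 14 ∨ k ∣ 18 ∨ k ∣ 20 ∨ k ∣ 24 ∨ k ∣ 30)
  | .TE6, k => decide (k ∣ 8 ∨ k = 10 ∨ k ∣ 12 ∨ k = 18)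
  | .TD4, k => decide (k ∣ 6 ∨ k = 12)
  | .Sz, k => decide (k = 1 ∨ k = 4)
  | .Ree, k => decide (k = 1 ∨ k = 2 ∨ k = 6)
  | .TF4, k => decide (k ∣ 4 ∨ k = 6 ∨ k = 12)

theorem pdB_sound {X : Art.Sh} {k : ℕ} (h : pdB X k = true) : PdX X k := by
  cases X <;> simp only [pdB, decide_eq_true_eq] at h <;> exact h

def gM (X : Art.Sh) : ℕ := max (gX X 2) (gX X 3)

theorem gX_le (X : Art.Sh) (p : ℕ) : gX X p ≤ gM X := by
  cases X <;> first | exact le_max_left _ _ | (simp only [gM, gX]; split_ifs <;> simp_all)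

def ddM : Art.Sh → ℕ
  | .L m => m
  | .U m => m
  | _ => 4

theorem dd_le {X : Art.Sh} {p a : ℕ} (h : Art.Ok X p a) (s : ℕ) : Art.dd X s ≤ ddM X := by
  cases X
  case L m => exact Nat.gcd_le_left _ (lt_of_lt_of_le two_pos h.1)
  case U m => exact Nat.gcd_le_left _ (lt_of_lt_of_le three_pos h.1)
  all_goals first
    | exact (Nat.gcd_le_left _ (by norm_num)).trans (show _ ≤ 4 by norm_num)
    | exact show 1 ≤ 4 by norm_num

def anyD (f : ℕ → Bool) : ℕ → Bool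
  | 0 => false
  | k + 1 => f (k + 1) || anyD f k

theorem anyD_sound {f : ℕ → Bool} {k : ℕ} (h : anyD f k = true) : ∃ i, f i = true := by
  induction k with
  | zero => exact absurd h Bool.false_ne_true
  | succ k ih =>
    rw [anyD, Bool.or_eq_true] at h
    exact h.elim (fun h => ⟨_, h⟩) ih

section

variable (l : ℕ) (tw : Bool) (X : Art.Sh) (h : ℕ → ℕ) (od : Bool) (u v : ℕ) (ex : Bool) (x : ℕ)

/-- the entries of the table -/
def ent (h0 m : ℕ) (f : ℕ → ℕ → Bool) : Bool := frc (Nat.lcm 2 (Nat.lcm h0 m)) fun n => (Cb.tpT l).all fun e =>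
  !Nat.beq (e.1 % n) 0 || (Nat.beq l 6 && Nat.beq e.2 24 && Nat.beq (h0 % 6) 0) || f e.1 e.2

/-- a prime modulo which `x` has order `j` -/
def vj (j : ℕ) (f : ℕ → ℕ → ℕ → Bool) : Bool := frc (j / Nat.gcd j u) fun i => Nat.blt 0 j && pdB X i && frc (h i) fun h0 =>
  allR (fun d => !(bif ex then Nat.beq d (Nat.gcd j v) else Nat.beq (i % d) 0 && Nat.beq (Nat.gcd d u) 1) ||
    frc (j / d) fun m => !pdT l tw m || ent l h0 m (f h0)) i 1

/-- the cases which are treated by hand -/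
def adh : Bool := (Nat.beq u 1 && Nat.beq v 1 && decide (X = sh l tw ∨ (X = .D 4 ∧ (l = 4 ∨ l = 6) ∨ X = .G2 ∧ l = 8) ∨
  X = .D 8 ∧ l = 7)) || (Nat.beq u 2 && Nat.beq v 1 && decide (X = .C 3 ∧ l = 4))

def pre : Bool := !Nat.beq (Nat.gcd u v) 1 || adh l tw X u v ||
  (Nat.ble (v * dimT l) (u * dX X) && Nat.ble (2 * ddM X) (x ^ (u * dX X - v * dimT l)))

def nU (be w k : ℕ) : Bool := Nat.ble (w + v * (3 * (k + l))) (v * dimT l) &&
  frc (x ^ v) fun q => Nat.ble (dM l * ((q ^ k * (q + 1) ^ l) ^ 3 * be)) (ordU l q)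

/-- uniform in `x` -/
def chU : Bool := (ex && pre l tw X u v x) || frc (gM X * u * (Nat.log2 (x - 1) + 1) * x ^ (u * dX X)) fun be =>
  anyD (fun k => [u * k, k].any fun j => Nat.ble 3 j && (!Nat.beq (6 % j) 0 || Nat.blt (2 ^ (6 / j)) x) &&
    vj l tw X h u v ex j fun _ _ κ => nU l v x be (u * dX X + 1) κ) (Art.DM X)

def nE (q t k α β γ : ℕ) : Bool := frc ((α * (q ^ k * (q + 1) ^ l)) ^ 3 * β) fun y =>
  bif ex then Nat.ble y (t * γ ^ 3) else Nat.ble (3 * (k + l)) (dimT l) && Nat.ble (dM l * y) (ordU l q * γ ^ 3)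

def sml : Bool := Nat.beq u 1 && Nat.beq v 1 &&
  decide (x = 2 ∧ X = .C 3 ∧ l = 6 ∨ X = .D 4 ∧ (x = 2 ∧ (l = 7 ∨ l = 8) ∨ x = 3 ∧ l = 7))

/-- exact in `x` -/
def chE (o A : ℕ) : Bool := frc (x ^ v) fun q => frc (oT l tw q) fun t =>
  (ex && (pre l tw X u v x || sml l X u v x || !Nat.beq (t % o) 0 || Nat.ble t o)) ||
  [5, 7, 11, 13, 17, 19, 43, 73].any fun r => !Nat.beq (x % r) 0 && vj l tw X h u v ex (ordm x r) fun h0 g k =>
    nE l ex q t k 1 A 1 || (!Nat.beq (o % r ^ 2) 0 && !Nat.beq (A % (r * o)) 0 && nE l ex q t k (Nat.gcd g (r - 1)) o (h0 * r))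

def allV (f : ℕ → Bool → Bool) : Bool := allU (fun v => f v false) (fun v => f v true) 20 1

def chk1 : Bool := allU (fun x => allV fun v ex => chU l tw X h u v ex x)
  (fun x => !Nat.beq (mf x ^ lg x) x || !decide (Art.Ok X (mf x) (u * lg x)) || (od && Nat.beq (x % 2) 0) ||
    frc (oX X (x ^ u)) fun y => frc (y / Art.dd X (x ^ u)) fun o => frc (gX X (mf x) * (u * lg x) * y) fun A =>
      allV fun v ex => chE l tw X h u v ex x o A) 40 2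

def chk : Bool := Nat.blt 0 (Art.DM X) && pdB X (Art.DM X) && allR (fun u => chk1 4 false X h od u && chk1 6 false X h od u && chk1 6 true X h od u &&
  chk1 7 false X h od u && chk1 8 false X h od u) 30 1

end

/-! ### soundness -/

/-- the numerical criterion -/
def Nu (l q T k α β γ : ℕ) : Prop := (α * (q ^ k * (q + 1) ^ l)) ^ 3 * β ≤ T * γ ^ 3

theorem pdT_le {l m : ℕ} {tw : Bool} (h : pdT l tw m = true) : m ≤ 30 := by
  by_contra k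
  have h1 : ∀ c, 0 < c → c ≤ 30 → Nat.beq (c % m) 0 = false := fun c a b => by
    rw [← Bool.not_eq_true, Nat.beq_eq, Nat.mod_eq_of_lt (by omega)]; omega
  have h2 : ∀ c, c ≤ 30 → Nat.beq m c = false := fun c a => by rw [← Bool.not_eq_true, Nat.beq_eq]; omega
  simp [pdT, h1, h2] at h

theorem dM_cop (l : ℕ) {r : ℕ} (hr : r.Prime) (h5 : 5 ≤ r) : (dM l).Coprime r :=
  (hr.coprime_iff_not_dvd.2 fun h => by
    have h1 := Nat.le_of_dvd (dM_pos l) h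
    unfold dM at h1
    split_ifs at h1 <;> omega).symm

theorem no11 (l : ℕ) : ∀ f ∈ Cb.tpT l, ¬ 11 ∣ f.1 := by
  unfold Cb.tpT
  split_ifs <;> decide

section sound

variable {l : ℕ} {tw : Bool} {p e T : ℕ} {N : Type} [Group N] [Finite N] {G : Prop} {c d : N → ℕ}

theorem T_le (ht : Ty l tw) (h : Art.Real (sh l tw) p e T) : T ≤ (p ^ e) ^ dimT l := by
  have h1 : dX (sh l tw) = dimT l := by
    rcases ht with rfl | ⟨rfl, rfl | rfl | rfl⟩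
    · cases tw <;> rfl
    all_goals rfl
  exact (Nat.le_mul_of_pos_left _ (Nat.pos_of_ne_zero h.dd_ne)).trans (h.eq.le.trans (h1 ▸ N2C.RD.oX_le h.q_ge h.ok))

theorem unif2 (ht : Ty l tw) (h : Art.Real (sh l tw) p e T) {x0 x v k β be w : ℕ} (h0 : 0 < x0) (hx : x0 ≤ x) (hv : 0 < v)
    (hq : x ^ v ≤ p ^ e) (hb : β * x0 ^ w ≤ be * x ^ w) (hc : nU l v x0 be w k = true) : Nu l (p ^ e) T k 1 β 1 := by
  simp only [nU, frc_eq, Bool.and_eq_true, Nat.ble_eq] at hc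
  obtain ⟨hw, hc⟩ := hc
  have h4 : x0 ^ v ≤ p ^ e := (Nat.pow_le_pow_left hx v).trans hq
  have h1 := ordU_le ht h
  have h2 := ordU_mono ht h4
  have h3 := Nat.pow_le_pow_left (succ_mono h4 k l) 3
  obtain ⟨E, hE⟩ := Nat.exists_eq_add_of_le (Nat.le_of_mul_le_mul_left ((Nat.le_add_left _ w).trans hw) hv)
  obtain ⟨z, hz⟩ : ∃ z, v * E = w + z := Nat.exists_eq_add_of_le (by rw [hE, mul_add v] at hw; omega)
  have h5 : β * (x0 ^ v) ^ E ≤ be * (p ^ e) ^ E :=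
    calc _ = β * x0 ^ w * x0 ^ z := by rw [← pow_mul, hz, pow_add, mul_assoc]
      _ ≤ be * x ^ w * x ^ z := Nat.mul_le_mul hb (Nat.pow_le_pow_left hx z)
      _ = be * (x ^ v) ^ E := by rw [← pow_mul, hz, pow_add, mul_assoc]
      _ ≤ _ := by gcongr
  have h6 : 0 < x0 ^ v := pow_pos h0 v
  unfold Nu
  generalize p ^ e = q at *
  generalize x0 ^ v = q1 at *
  refine Nat.le_of_mul_le_mul_left ?_ (Nat.mul_pos (pow_pos h6 (dimT l)) (dM_pos l))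
  calc _ = dM l * (β * q1 ^ E) * (q ^ k * (q + 1) ^ l * q1 ^ (k + l)) ^ 3 := by rw [hE]; ring
    _ ≤ dM l * (be * q ^ E) * (q1 ^ k * (q1 + 1) ^ l * q ^ (k + l)) ^ 3 := by gcongr
    _ = dM l * ((q1 ^ k * (q1 + 1) ^ l) ^ 3 * be) * q ^ dimT l := by rw [hE]; ring
    _ ≤ ordU l q1 * q ^ dimT l := Nat.mul_le_mul_right _ hc
    _ ≤ q1 ^ dimT l * (dM l * T) := h2.trans (Nat.mul_le_mul_left _ h1)
    _ = _ := by ring

/-- **one prime** -/
theorem of_ent (R : Rx l tw p e T N G c d) {r h0 : ℕ} (hr : r.Prime) (h5 : 5 ≤ r) (hp : r ≠ p) (hc : Ch N r h0)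
    {f : ℕ → ℕ → Bool} (h : ent l h0 (orderOf ((p ^ e : ℕ) : ZMod r)) f = true)
    (hf : ∀ g k, f g k = true → Nu l (p ^ e) T k 1 (Nat.card (MulAut N)) 1 ∨ ¬ r ^ 2 ∣ Nat.card N ∧
      ¬ r * Nat.card N ∣ Nat.card (MulAut N) ∧ Nu l (p ^ e) T k (Nat.gcd g (r - 1)) (Nat.card N) (h0 * r)) : G := by
  obtain ⟨g, j, hg, hj, hh⟩ := hc
  obtain ⟨t, ht, n, a1, a2, a3, a4, a5, a6, a7⟩ := R.mt g r hr h5 hp hg
  rw [ent, frc_eq] at h
  have b2 := List.all_eq_true.1 h t ht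
  simp only [Bool.or_eq_true, Bool.and_eq_true, nbeq, Nat.beq_eq] at b2
  rcases b2 with (b2 | b2) | b2
  · exact absurd (Nat.mod_eq_zero_of_dvd ((Nat.lcm_dvd a4 (Nat.lcm_dvd (hh.trans (a6 j hj)) a5)).trans a2)) b2
  · exact absurd ((Nat.dvd_of_mod_eq_zero b2.2).trans hh) (R.six g r j hr h5 hp hg b2.1.1 (by rw [a1, b2.1.1, b2.1.2]) hj)
  have b3 := R.conn g t.2 (hg ▸ (Nat.coprime_primes hr R.real.hp).2 hp) (hg ▸ dM_cop l hr h5) a1.le
  rcases hf _ _ b2 with b4 | ⟨b4, b5, b6⟩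
  · rw [Nu, one_mul, one_pow, mul_one] at b4
    exact R.good1 g (le_trans (by gcongr) b4)
  refine a7 b5 (fun y hy => ?_) ?_
  · obtain ⟨z, hz⟩ := syl_conj hr b4 hg hy
    obtain ⟨i, hi⟩ := mem_powers_iff_mem_zpowers.2 (hz ▸ mem_zpowers (z * y * z⁻¹))
    exact ⟨i, isConj_iff.2 ⟨z, hi.symm⟩⟩
  · have b7 : n ≤ Nat.gcd t.1 (r - 1) := Nat.le_of_dvd (Nat.gcd_pos_of_pos_right _ (by omega)) (Nat.dvd_gcd a2 a3)
    have b8 : h0 ≤ orderOf (j : ZMod r) :=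
      Nat.le_of_dvd (Nat.pos_of_dvd_of_pos ((a6 j hj).trans a3) (by omega)) hh
    have b9 : h0 * r ≤ Nat.card (normalizer (zpowers g : Set N)) :=
      le_trans (by rw [mul_comm]; gcongr) (card_norm_ge hg hj)
    refine le_trans ?_ (b6.trans (by gcongr))
    rw [mul_comm (c g)]
    gcongr

theorem div_oX {X Y : Art.Sh} {a n : ℕ} (h1 : Art.Real X p a n) (h2 : Art.Real Y p e T) (h : n ∣ T) :
    oX X (p ^ a) ∣ Art.dd X (p ^ a) * oX Y (p ^ e) :=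
  h1.eq.symm.dvd.trans (Nat.mul_dvd_mul_left _ (h.trans (Dvd.intro_left _ h2.eq)))

theorem not_C3 {q z : ℕ} (hq : 2 ≤ q) (h0 : 0 < z) (hz : z ≤ 2) : ¬ oX (.C 3) (q ^ 2) ∣ z * oX .F4 q := by
  rintro ⟨k, hk⟩
  have h1 : ∀ i, 1 ≤ q ^ i := fun i => Nat.one_le_pow i q (by omega)
  have h2 : ∀ i, 0 < i → (q : ℤ) ^ i - 1 ≠ 0 := fun i hi => by
    have : 1 < (q : ℤ) ^ i := one_lt_pow₀ (by omega) hi.ne'
    omega
  simp only [oX, Art.NN, Art.num, Finset.prod_range_succ, Finset.prod_range_zero, ← pow_mul] at hk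
  zify [h1] at hk
  have h3 : (q : ℤ) ^ 18 * (q ^ 8 - 1) * (q ^ 12 - 1) * (q ^ 2 - 1) ≠ 0 :=
    mul_ne_zero (mul_ne_zero (mul_ne_zero (by positivity) (h2 8 (by norm_num))) (h2 12 (by norm_num))) (h2 2 (by norm_num))
  have h4 : (z : ℤ) * (q ^ 6 * (q ^ 6 - 1)) = (q ^ 2 + 1) * k := mul_left_cancel₀ h3 (by linear_combination hk)
  have h5 : (q : ℤ) ^ 2 + 1 ∣ 2 * (z : ℤ) := ⟨(k : ℤ) - z * ((q : ℤ) ^ 4 - q ^ 2 + 1) * (q ^ 6 - 2), by linear_combination h4⟩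
  have h6 := Int.le_of_dvd (by omega) h5
  have h7 : (2 : ℤ) ^ 2 ≤ q ^ 2 := by gcongr; omega
  omega

theorem not_D8 {q z : ℕ} (hq : 2 ≤ q) (h0 : 0 < z) (hz : z ≤ 4) : ¬ oX (.D 8) q ∣ z * oX .E7 q := by
  rintro ⟨k, hk⟩
  have h1 : ∀ i, 1 ≤ q ^ i := fun i => Nat.one_le_pow i q (by omega)
  have h2 : ∀ i, 0 < i → 0 < (q : ℤ) ^ i - 1 := fun i hi => by
    have : 1 < (q : ℤ) ^ i := one_lt_pow₀ (by omega) hi.ne'
    omega
  simp only [oX, Art.NN, Art.num, Finset.prod_range_succ, Finset.prod_range_zero] at hk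
  zify [h1] at hk
  have h3 : 0 < (q : ℤ) ^ 56 * (q ^ 2 - 1) * (q ^ 6 - 1) * (q ^ 8 - 1) * (q ^ 10 - 1) * (q ^ 12 - 1) * (q ^ 14 - 1) := by
    have := h2 2 (by norm_num); have := h2 6 (by norm_num); have := h2 8 (by norm_num); have := h2 10 (by norm_num)
    have := h2 12 (by norm_num); have := h2 14 (by norm_num)
    positivity
  have h4 : (z : ℤ) * (q ^ 7 * (q ^ 18 - 1)) = (q ^ 8 - 1) * (q ^ 4 - 1) * k := mul_left_cancel₀ h3.ne' (by linear_combination hk)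
  have h5 : (q : ℤ) ^ 4 + 1 ∣ (z : ℤ) * ((q : ℤ) ^ 2 - 1) :=
    ⟨((q : ℤ) ^ 4 - 1) * (q * (q ^ 4 - 1) * k - z * (q ^ 18 - 1) - z * q ^ 2 * (q ^ 8 + 1)), by linear_combination q * h4⟩
  have h6 := Int.le_of_dvd (mul_pos (by omega) (h2 2 two_pos)) h5
  have h7 : (z : ℤ) * (q ^ 2 - 1) ≤ 4 * (q ^ 2 - 1) := mul_le_mul_of_nonneg_right (by omega) (h2 2 two_pos).le
  nlinarith [sq_nonneg ((q : ℤ) ^ 2 - 2)]

variable (l tw p e T N G c d) in
/-- the situation -/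
structure Sit (X : Art.Sh) (h : ℕ → ℕ) (od : Bool) (a : ℕ) : Prop where
  R : Rx l tw p e T N G c d
  D : Nd X p a N
  cj : ∀ r : ℕ, r.Prime → 5 ≤ r → r ≠ p → PdX X (orderOf ((p ^ a : ℕ) : ZMod r)) → Ch N r (h (orderOf ((p ^ a : ℕ) : ZMod r)))
  en : qEn X l p a e
  od : od = true → p ≠ 2

variable {X : Art.Sh} {h : ℕ → ℕ} {od : Bool} {g u v : ℕ}

namespace Sit

variable (S : Sit l tw p (g * v) T N G c d X h od (g * u)) (huv : Nat.gcd u v = 1)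
include S

theorem pos : 0 < g ∧ 0 < u ∧ 0 < v :=
  ⟨Nat.pos_of_mul_pos_right S.D.real.hf, Nat.pos_of_mul_pos_left S.D.real.hf, Nat.pos_of_mul_pos_left S.R.real.hf⟩

/-- primitive primes -/
theorem ppd {j : ℕ} (h3 : 3 ≤ j) (h6 : ¬ (p = 2 ∧ g * j = 6)) :
    ∃ r : ℕ, r.Prime ∧ 5 ≤ r ∧ r ≠ p ∧ orderOf ((p ^ g : ℕ) : ZMod r) = j := by
  have h0 := S.pos.1
  have h1 : 3 ≤ g * j := h3.trans (Nat.le_mul_of_pos_left _ h0)
  obtain ⟨r, hr, ho, -, h2⟩ := H370.Rg.exists_rk S.R.real.hp h1 h6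
  refine ⟨r, hr, N2C.RD.Au.five_le hr ho h1, fun e => h2 (e ▸ dvd_rfl), ?_⟩
  rw [N2C.RD.ord_pow ho h0.ne', Nat.gcd_mul_right_left, Nat.mul_div_cancel_left _ h0]

theorem ords {r j : ℕ} (ho : orderOf ((p ^ g : ℕ) : ZMod r) = j) :
    orderOf ((p ^ (g * u) : ℕ) : ZMod r) = j / Nat.gcd j u ∧ orderOf ((p ^ (g * v) : ℕ) : ZMod r) = j / Nat.gcd j v :=
  ⟨by rw [pow_mul, N2C.RD.ord_pow ho S.pos.2.1.ne'], by rw [pow_mul, N2C.RD.ord_pow ho S.pos.2.2.ne']⟩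

theorem pd {r : ℕ} (hr : r.Prime) (h5 : 5 ≤ r) (hp : r ≠ p) (h1 : PdX X (orderOf ((p ^ (g * u) : ℕ) : ZMod r))) :
    pdT l tw (orderOf ((p ^ (g * v) : ℕ) : ZMod r)) = true :=
  pdT_of S.R.typ S.R.real hr h5 hp ((real_dvd S.D.real hr h5 h1).trans S.R.dvd)

include huv

theorem of_vj {r j v0 : ℕ} {ex : Bool} (hr : r.Prime) (h5 : 5 ≤ r) (hp : r ≠ p) (ho : 0 < j → orderOf ((p ^ g : ℕ) : ZMod r) = j)
    (hv : ex = true → v0 = v) {f : ℕ → ℕ → ℕ → Bool} (hc : vj l tw X h u v0 ex j f = true)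
    (hf : ∀ h0 t k, f h0 t k = true → Nu l (p ^ (g * v)) T k 1 (Nat.card (MulAut N)) 1 ∨ ¬ r ^ 2 ∣ Nat.card N ∧
      ¬ r * Nat.card N ∣ Nat.card (MulAut N) ∧ Nu l (p ^ (g * v)) T k (Nat.gcd t (r - 1)) (Nat.card N) (h0 * r)) : G := by
  simp only [vj, frc_eq, Bool.and_eq_true, Nat.blt_eq] at hc
  obtain ⟨⟨h0, h1⟩, h2⟩ := hc
  obtain ⟨a1, a2⟩ := S.ords (ho h0)
  have a3 := pdB_sound h1
  have a4 : Nat.gcd (Nat.gcd j v) u = 1 := Nat.Coprime.coprime_dvd_left (Nat.gcd_dvd_right _ _) (Nat.coprime_comm.1 huv)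
  have a5 : Nat.gcd j v ∣ j / Nat.gcd j u :=
    (Nat.Coprime.coprime_dvd_right (Nat.gcd_dvd_right j u) a4).dvd_of_dvd_mul_left (by
      rw [Nat.mul_div_cancel' (Nat.gcd_dvd_left j u)]; exact Nat.gcd_dvd_left j v)
  have a6 := Nat.le_of_dvd (Nat.div_pos (Nat.gcd_le_left _ h0) (Nat.gcd_pos_of_pos_left _ h0)) a5
  have a7 := allR_sound h2 (i := Nat.gcd j v) (Nat.gcd_pos_of_pos_left _ h0) (by omega)
  rw [← a1] at a3
  rw [← a2, S.pd hr h5 hp a3, Bool.not_true, Bool.false_or, Bool.or_eq_true] at a7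
  refine of_ent S.R hr h5 hp (a1 ▸ S.cj r hr h5 hp a3) (a7.resolve_left ?_) (hf _)
  cases ex
  · simp [Nat.mod_eq_zero_of_dvd a5, a4]
  · simp [hv rfl]

theorem of_pre {x : ℕ} (hx : x ≤ p ^ g) (hc : pre l tw X u v x = true) : G := by
  simp only [pre, adh, Bool.or_eq_true, Bool.and_eq_true, nbeq, Nat.beq_eq, Nat.ble_eq, decide_eq_true_eq] at hc
  have h1 := div_oX S.D.real S.R.real S.R.dvd
  have h2 := S.D.dd_pos
  have h3 := S.R.real.q_ge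
  rcases hc with (hc | ⟨⟨rfl, rfl⟩, rfl | hc | ⟨rfl, rfl⟩⟩ | ⟨⟨rfl, rfl⟩, rfl, rfl⟩) | ⟨a1, a2⟩
  · exact absurd huv hc
  · exact absurd (Nat.eq_of_mul_eq_mul_left h2 (S.D.real.eq.trans S.R.real.eq.symm)) S.R.lt.ne
  · exact absurd ⟨rfl, hc⟩ S.en.2.1
  · exact absurd h1 (not_D8 h3 h2 (dd_le S.D.real.ok _))
  · rw [pow_mul, mul_one] at h1
    rw [pow_mul] at h2
    rw [mul_one] at h3
    exact absurd h1 (not_C3 h3 h2 (Nat.gcd_le_left _ two_pos))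
  · have h4 := S.D.card_ge
    have h5 := T_le S.R.typ S.R.real
    have h6 := dd_le S.D.real.ok (p ^ (g * u))
    obtain ⟨z, hz⟩ := Nat.exists_eq_add_of_le a1
    rw [hz, Nat.add_sub_cancel_left] at a2
    rw [pow_mul, ← pow_mul (p ^ g)] at h5
    rw [pow_mul, ← pow_mul (p ^ g), hz, pow_add, ← pow_mul p g u] at h4
    have h7 := (Nat.mul_le_mul h5 (a2.trans (Nat.pow_le_pow_left hx z))).trans h4
    have h8 := Nat.mul_le_mul_right (Nat.card N) h6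
    have h9 := Nat.mul_lt_mul_of_pos_left S.R.lt (h2.trans_le h6)
    nlinarith

theorem of_U {x v0 : ℕ} {ex : Bool} (h2 : 2 ≤ x) (hx : x ≤ p ^ g) (h0 : 1 ≤ v0) (h1 : v0 ≤ v) (hv : ex = true → v0 = v)
    (hc : chU l tw X h u v0 ex x = true) : G := by
  rw [chU, frc_eq, Bool.or_eq_true, Bool.and_eq_true] at hc
  rcases hc with hc | hc
  · exact S.of_pre huv hx (hv hc.1 ▸ hc.2)
  obtain ⟨k, hk⟩ := anyD_sound hc
  obtain ⟨j, -, hj⟩ := List.any_eq_true.1 hk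
  simp only [Bool.or_eq_true, Bool.and_eq_true, nbeq, Nat.ble_eq, Nat.blt_eq] at hj
  obtain ⟨⟨a1, a2⟩, a3⟩ := hj
  obtain ⟨r, hr, h5, hp, ho⟩ := S.ppd a1 (by
    rintro ⟨rfl, a4⟩
    rw [← a4, Nat.mul_mod_left, Nat.mul_div_cancel _ (by omega)] at a2
    omega)
  refine S.of_vj huv hr h5 hp (fun _ => ho) hv a3 fun _ _ κ a4 => Or.inl (unif2 S.R.typ S.R.real (by omega) hx h0 (by
    rw [pow_mul]; exact Nat.pow_le_pow_right (by omega) h1) ?_ a4)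
  have b1 := lg_mul (Nat.pow_le_pow_left S.R.real.hp.two_le g) hx
  have b2 := S.D.aut_le
  have b3 := gX_le X p
  rw [pow_mul, ← pow_mul (p ^ g)] at b2
  calc _ ≤ gM X * (g * u) * (p ^ g) ^ (u * dX X) * x ^ (u * dX X + 1) := Nat.mul_le_mul_right _ (b2.trans (by gcongr))
    _ = gM X * u * (g * x) * x ^ (u * dX X) * (p ^ g) ^ (u * dX X) := by ring
    _ ≤ gM X * u * ((Nat.log2 (x - 1) + 1) * p ^ g) * x ^ (u * dX X) * (p ^ g) ^ (u * dX X) := by gcongr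
    _ = _ := by ring

theorem of_E {v0 : ℕ} {ex : Bool} (h1 : v0 ≤ v) (hv : ex = true → v0 = v)
    (hc : chE l tw X h u v0 ex (p ^ g) (Nat.card N) (Nat.card (MulAut N)) = true) : G := by
  have h0 := S.pos.1
  have hp := S.R.real.hp
  have hT : ex = true → oT l tw ((p ^ g) ^ v0) = T := fun k => by rw [hv k, ← pow_mul, oT_eq S.R.real]
  have key : ∀ {k α β γ}, nE l ex ((p ^ g) ^ v0) (oT l tw ((p ^ g) ^ v0)) k α β γ = true → Nu l (p ^ (g * v)) T k α β γ := by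
    intro k α β γ a1
    rw [nE, frc_eq] at a1
    cases ex
    · simp only [cond_false, Bool.and_eq_true, Nat.ble_eq] at a1
      exact unif S.R.typ S.R.real (by have := hp.pos; positivity) (by
        rw [pow_mul]; exact Nat.pow_le_pow_right (pow_pos hp.pos g) h1) a1.1 a1.2
    · rw [cond_true, Nat.ble_eq, hT rfl, hv rfl] at a1
      rw [Nu, pow_mul]
      exact a1
  rw [chE, frc_eq, frc_eq, Bool.or_eq_true, Bool.and_eq_true] at hc
  rcases hc with ⟨a1, hc⟩ | hc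
  · obtain rfl := hv a1
    simp only [sml, hT a1, Bool.or_eq_true, Bool.and_eq_true, nbeq, Nat.beq_eq, Nat.ble_eq, decide_eq_true_eq] at hc
    rcases hc with ((hc | ⟨⟨rfl, rfl⟩, hc⟩) | hc) | hc
    · exact S.of_pre huv le_rfl hc
    · have a2 : ∀ t, t.Prime → p ^ g = t → p = t ∧ g = 1 := fun t a2 a3 => (Nat.Prime.pow_eq_iff a2).1 a3
      refine absurd ?_ S.en.2.2
      rcases hc with ⟨a3, a4⟩ | ⟨a3, ⟨a4, a5⟩ | ⟨a4, a5⟩⟩
      · obtain ⟨rfl, rfl⟩ := a2 2 Nat.prime_two a3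
        exact ⟨rfl, rfl, Or.inl ⟨rfl, a4⟩⟩
      · obtain ⟨rfl, rfl⟩ := a2 2 Nat.prime_two a4
        exact ⟨rfl, rfl, Or.inr ⟨a3, Or.inl ⟨rfl, a5⟩⟩⟩
      · obtain ⟨rfl, rfl⟩ := a2 3 Nat.prime_three a4
        exact ⟨rfl, rfl, Or.inr ⟨a3, Or.inr ⟨rfl, a5⟩⟩⟩
    · exact absurd (Nat.mod_eq_zero_of_dvd S.R.dvd) hc
    · exact absurd S.R.lt (not_lt.2 hc)
  obtain ⟨r, a1, a2⟩ := List.any_eq_true.1 hc
  have hr : r.Prime ∧ 5 ≤ r := by
    simp only [List.mem_cons, List.not_mem_nil, or_false] at a1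
    rcases a1 with rfl | rfl | rfl | rfl | rfl | rfl | rfl | rfl <;> norm_num
  have := Fact.mk hr.1
  rw [Bool.and_eq_true, nbeq] at a2
  refine S.of_vj huv hr.1 hr.2 (fun k => a2.1 (Nat.mod_eq_zero_of_dvd (k ▸ dvd_pow_self p h0.ne'))) (fun k => ordm_eq k.ne') hv a2.2
    fun h0 t k a3 => ?_
  simp only [Bool.or_eq_true, Bool.and_eq_true, nbeq] at a3
  exact a3.imp key fun a4 => ⟨fun a5 => a4.1.1 (Nat.mod_eq_zero_of_dvd a5), fun a5 => a4.1.2 (Nat.mod_eq_zero_of_dvd a5), key a4.2⟩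

theorem of_V {f : ℕ → Bool → Bool} (hc : allV f = true)
    (hf : ∀ v0 ex, 1 ≤ v0 → v0 ≤ v → (ex = true → v0 = v) → f v0 ex = true → G) : G := by
  rcases allU_sound hc S.pos.2.2 with a | ⟨j, a1, a2, a⟩
  exacts [hf v true S.pos.2.2 le_rfl (fun _ => rfl) a, hf j false a1 a2 (fun k => absurd k Bool.false_ne_true) a]

theorem of_chk1 (hc : chk1 l tw X h od u = true) : G := by
  have h0 := S.pos.1
  have hp := S.R.real.hp
  rcases allU_sound hc (i := p ^ g) (hp.two_le.trans (Nat.le_self_pow h0.ne' p)) with a | ⟨x, a1, a2, a⟩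
  · have b1 : oX X (p ^ (g * u)) / Art.dd X (p ^ (g * u)) = Nat.card N := by
      rw [← S.D.card, Nat.mul_div_cancel_left _ S.D.dd_pos]
    simp only [frc_eq, mf_eq hp h0, lg_eq hp h0, ← pow_mul, mul_comm u g, b1, ← S.D.aut, Bool.or_eq_true, Bool.and_eq_true,
      Nat.beq_eq, Bool.not_eq_true', decide_eq_false_iff_not] at a
    rcases a with ((a | a) | a) | a
    · simp at a
    · exact absurd S.D.real.ok a
    · exact absurd ((Nat.prime_dvd_prime_iff_eq Nat.prime_two hp).1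
        (Nat.prime_two.dvd_of_dvd_pow (Nat.dvd_of_mod_eq_zero a.2))).symm (S.od a.1)
    · exact S.of_V huv a fun v0 ex _ b2 b3 b4 => S.of_E huv b2 b3 b4
  · exact S.of_V huv a fun v0 ex b1 b2 b3 b4 => S.of_U huv a1 a2 b1 b2 b3 b4

theorem of_chk' (hc : chk X h od = true) : G := by
  simp only [chk, Bool.and_eq_true, Nat.blt_eq] at hc
  obtain ⟨⟨a1, a2⟩, a3⟩ := hc
  obtain ⟨h0, h1, h2⟩ := S.pos
  by_cases hu : u ≤ 30
  · have a4 := allR_sound a3 h1 (by omega)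
    simp only [Bool.and_eq_true] at a4
    rcases S.R.typ with rfl | ⟨rfl, rfl | rfl | rfl⟩
    · cases tw
      exacts [S.of_chk1 huv a4.1.1.1.2, S.of_chk1 huv a4.1.1.2]
    exacts [S.of_chk1 huv a4.1.1.1.1, S.of_chk1 huv a4.1.2, S.of_chk1 huv a4.2]
  have b1 : u ≤ u * Art.DM X := Nat.le_mul_of_pos_right _ a1
  have b2 : u * Art.DM X ≤ g * (u * Art.DM X) := Nat.le_mul_of_pos_left _ h0
  obtain ⟨r, hr, h5, hp, ho⟩ := S.ppd (j := u * Art.DM X) (by omega) (by omega)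
  obtain ⟨b3, b4⟩ := S.ords ho
  rw [Nat.gcd_mul_right_left, Nat.mul_div_cancel_left _ h1] at b3
  have b5 := pdT_le (S.pd hr h5 hp (b3 ▸ pdB_sound a2))
  rw [b4, Nat.Coprime.gcd_mul_left_cancel _ huv] at b5
  have b6 : u * Nat.gcd (Art.DM X) v ≤ u * Art.DM X := Nat.mul_le_mul_left _ (Nat.gcd_le_left _ a1)
  have b7 := (Nat.le_div_iff_mul_le (Nat.gcd_pos_of_pos_left v a1)).2 b6
  omega

end Sit

/-- **the engine** -/
theorem Sit.of_chk {a : ℕ} (S : Sit l tw p e T N G c d X h od a) (hc : chk X h od = true) : G := by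
  have h0 := Nat.gcd_pos_of_pos_left e S.D.real.hf
  have h1 := Nat.coprime_div_gcd_div_gcd h0
  have h2 := Nat.mul_div_cancel' (Nat.gcd_dvd_left a e)
  have h3 := Nat.mul_div_cancel' (Nat.gcd_dvd_right a e)
  generalize a / Nat.gcd a e = u at h1 h2
  generalize e / Nat.gcd a e = v at h1 h3
  generalize Nat.gcd a e = g at h2 h3
  subst h2 h3
  exact S.of_chk' h1 hc

/-- large rank -/
theorem Sit.big {a k : ℕ} (S : Sit l tw p e T N G c d X h od a) (hk : 11 ≤ k) (h1 : PdX X k) (h2 : 11 ∣ h k) : G := by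
  have h0 := S.D.real.hf
  have h3 : k ≤ a * k := Nat.le_mul_of_pos_left _ h0
  obtain ⟨r, hr, ho, -, h5, hp, -⟩ := S.D.ppd h1 (by omega) (by omega)
  have h4 : orderOf ((p ^ a : ℕ) : ZMod r) = k := by
    rw [N2C.RD.ord_pow ho (by omega), Nat.gcd_mul_right_left, Nat.mul_div_cancel_left _ h0]
  obtain ⟨y, j, hy, hj, h6⟩ := S.cj r hr h5 hp (h4 ▸ h1)
  obtain ⟨t, ht, n, -, a2, -, -, -, a6, -⟩ := S.R.mt y r hr h5 hp hy
  exact absurd ((h2.trans (h4 ▸ h6)).trans ((a6 j hj).trans a2)) (no11 l t ht)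

end sound

end Cfsg.Agent.N2.Ex.Sm.Df
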