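import Cfsg.Agent.N2.Ex.Sim.U3
import Cfsg.Agent.N2.Tri.Mat

/-!
# N2 (S3519), exceptional groups: generating triples of `U₃(q)` from the list of the maximal subgroups (helper6)
-/

set_option autoImplicit false
set_option linter.unusedSectionVars false

namespace Cfsg.Agent.N2.Ex.Sm.Cr

open Cfsg Subgroup Cfsg.Agent.N2.Tg.Eng

variable {N : Type} [Group N]

/-- the subgroups of order divisible by `2 r` -/
def Crit (N : Type) [Group N] (r : ℕ) : Prop := ∀ H : Subgroup N, r ∣ Nat.card H → 2 ∣ Nat.card H → H = ⊤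

theorem crit_u3 {q s : ℕ} (h : OrdDiv.Real (.psu 3 q) N) (hq : 4 ≤ q) (h5 : q ≠ 5) (h7 : s ≠ 7)
    (hs : ∀ r, r.Prime → 6 < r → r ∣ q ^ 2 - q + 1 → r = s) : Crit N s := by
  obtain ⟨F, _, _, hF, ⟨e⟩⟩ := h
  obtain ⟨p, n, r, h, -⟩ := H947.Cv.exists_PN7 hF hq h5
  obtain rfl := hs r h.pr (by have := h.ge; have := h.n0; omega) (U3.r_dvd h)
  have : Finite (PSU 3 F q) := Quotient.finite _
  intro H h1 h2
  by_contra hne
  obtain ⟨M, hM, hle⟩ := (eq_top_or_exists_le_coatom (H.map e.toMonoidHom)).resolve_left fun k => hne (by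
    rw [← comap_map_eq_self_of_injective (f := e.toMonoidHom) e.injective H, k, comap_top])
  have h3 := card_dvd_of_le hle
  rw [card_map_of_injective e.injective] at h3
  exact U3.odd_tor q (((h2.trans h3).mul_left _).trans (H947.Cv.tor_of hF hq h5 h hM (h1.trans h3) fun k => absurd k h7))

/-- the check -/
noncomputable def chkC (p B n : ℕ) (X Y w : List ℕ) (b c r : ℕ) : Bool :=
  frcL X fun X => frcL Y fun Y => pw p B n X 2 == idC B n && pw p B n Y b == idC B n && !com p B n X Y &&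
    frcL (cmp p B n X Y) (fun Z => pw p B n Z c == idC B n) &&
      frcL (ev p B n [X, Y] w) fun g => pw p B n g r == idC B n && !com p B n g X

theorem tr_of {p B n o b c r : ℕ} {X Y : List ℕ} (H : Has p B n N o [X, Y]) (hN : Crit N r) (hr : r.Prime) (w : List ℕ)
    (h : chkC p B n X Y w b c r = true) : Tr N 2 b c := by
  obtain ⟨W, _, bl, G, _, ρ, f, C, -⟩ := H
  have := finite_of C.fr C.inj
  have := Finite.of_surjective f C.sur
  have := Fact.mk hr
  simp only [chkC, frcL_eq, Bool.and_eq_true, beq_iff_eq, Bool.not_eq_true'] at h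
  obtain ⟨⟨⟨⟨h1, h2⟩, h3⟩, h4⟩, h5, h6⟩ := h
  obtain ⟨x, -, hx⟩ := C.mem X (by simp)
  obtain ⟨y, -, hy⟩ := C.mem Y (by simp)
  obtain ⟨g, hg, h7⟩ := ev_in (ρ := ρ) (K := closure {x, y}) (gs := [X, Y]) C.fr (by
    simp only [List.mem_cons, List.not_mem_nil, or_false, forall_eq_or_imp, forall_eq]
    exact ⟨⟨x, subset_closure (by simp), hx⟩, y, subset_closure (by simp), hy⟩) w
  have k1 : ∀ {P : List ℕ} {a : G} {k : ℕ}, Rep p B n bl P (ρ a) → pw p B n P k = idC B n → f a ^ k = 1 := fun {P a k} ha e => by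
    rw [← map_pow, show a ^ k = 1 from C.inj (by rw [map_pow, map_one]; exact (ha.pw C.fr k).eq C.fr (e ▸ C.fr.one)), map_one]
  have k2 : ∀ {P Q : List ℕ} {a b : G}, Rep p B n bl P (ρ a) → Rep p B n bl Q (ρ b) → com p B n P Q = false → f a ≠ 1 :=
    fun ha hb e k => by
      rw [(C.com ha hb).2 (mem_center_iff.1 ((C.ker _).1 k) _).symm] at e
      exact Bool.noConfusion e
  refine ⟨f x, f y, k1 hx h1, k1 hy h2, map_mul f x y ▸ k1 (map_mul ρ x y ▸ hx.mul C.fr hy) h4, hN _ ?_ ?_⟩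
  · rw [← orderOf_eq_prime (k1 h7 h5) (k2 h7 hx h6)]
    refine Subgroup.orderOf_dvd_natCard _ ?_
    rw [← Set.image_pair, ← MonoidHom.map_closure]
    exact mem_map_of_mem f hg
  · rw [← orderOf_eq_prime (k1 hx h1) (k2 hx hy h3)]
    exact Subgroup.orderOf_dvd_natCard _ (subset_closure (by simp))

/-- the field with 256 elements -/
abbrev Q8 : Type := QuadraticAlgebra Q4 ⟨0, ⟨0, 1⟩⟩ 1

/-- base -/
def b8 : List Q8 := b4.map (fun x => ⟨x, 0⟩) ++ b4.map fun x => ⟨0, x⟩

/-- coordinates -/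
def c8 (x : Q8) : List ℕ := c4 x.re ++ c4 x.im

theorem dom_q {R : Type} [CommRing R] {a b : R} (h : ∀ x y : R, x * y = 0 → x = 0 ∨ y = 0)
    (h' : ∀ x : QuadraticAlgebra R a b, x.norm = 0 → x = 0) (x y : QuadraticAlgebra R a b) (e : x * y = 0) : x = 0 ∨ y = 0 :=
  (h _ _ (by rw [← map_mul, e, QuadraticAlgebra.norm_zero])).imp (h' x) (h' y)

theorem rg256 : Rg Q8 2 8 b8 c8 :=
  ⟨by decide, by decide +kernel, rfl, by decide +kernel, by decide +kernel, by decide +kernel, dom_q rg16.dom (by decide +kernel)⟩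

theorem tr_u3_16 (h : OrdDiv.Real (.psu 3 16) N) : Tr N 2 3 17 :=
  tr_of (has_U (B := 32) (n := 24) (o := 4279234560) (s := 4) rg256 (il_fin 3 (by decide)) (by norm_num) h (by decide) (by decide)
    (by decide +kernel) [mat 2 b8 Fin.val [[3, 30, 182], [31, 8, 251], [189, 244, 10]],
      mat 2 b8 Fin.val [[53, 235, 53], [127, 59, 238], [134, 40, 14]]] (two_mem (by simp only [Matrix.det_fin_three]; decide +kernel)))
    (crit_u3 h (by norm_num) (by norm_num) (by norm_num) fun r hr _ k =>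
      (Nat.prime_dvd_prime_iff_eq hr (by norm_num : Nat.Prime 241)).1 k) (by norm_num) [0, 1, 0, 1, 0, 1, 1] (by decide +kernel)

end Cfsg.Agent.N2.Ex.Sm.Cr
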