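import Cfsg.Agent.N2.Ex.Sim.TrD
import Cfsg.Agent.N2.Ex.Sim.CrU

/-!
# N2 (S3519), exceptional groups, socle of Lie type in another characteristic: the row (helper6)
-/

set_option autoImplicit false
set_option maxRecDepth 100000

namespace Cfsg.Agent.N2.Ex.Sm.Cr

open Cfsg Cfsg.Agent.OrdDiv

/-- the further triples -/
def xt : List (Grp × ℕ × T3) := (.psu 3 16, 4279234560, 2, 3, 17) :: Trp.xs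

theorem xt_ok : XS xt := List.forall_mem_cons.2 ⟨fun _ _ _ h _ => tr_u3_16 h, Trp.xs85⟩

/-- data -/
def t0 : List Rw :=
  [⟨.L 2, 2, 3, false, [], [(2, 3, 7), (2, 3, 9)]⟩, ⟨.L 2, 2, 4, false, [], [(2, 3, 15), (2, 3, 17)]⟩,
   ⟨.L 2, 2, 5, false, [], [(2, 3, 11), (2, 3, 31)]⟩, ⟨.L 2, 2, 6, false, [], [(2, 3, 13), (2, 3, 21)]⟩,
   ⟨.L 2, 2, 7, false, [], [(2, 3, 43), (2, 3, 127)]⟩, ⟨.L 2, 3, 3, false, [⟨13, 2, 0⟩], [(2, 3, 7), (2, 3, 13)]⟩,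
   ⟨.L 2, 3, 4, false, [], [(2, 3, 40), (2, 3, 41)]⟩, ⟨.L 2, 3, 5, false, [], [(2, 3, 121), (2, 3, 122)]⟩,
   ⟨.L 2, 5, 2, false, [⟨5, 4, 0⟩, ⟨13, 2, 0⟩], []⟩, ⟨.L 2, 5, 3, false, [], [(2, 3, 9), (2, 3, 31)]⟩, ⟨.L 2, 7, 1, false, [⟨7, 3, 0⟩], [(2, 3, 7)]⟩]

/-- data -/
def t1 : List Rw :=
  [⟨.L 2, 7, 2, false, [⟨7, 6, 0⟩], [(2, 3, 24), (2, 3, 25)]⟩, ⟨.L 2, 7, 3, false, [⟨7, 3, 0⟩], [(2, 3, 43)]⟩,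
   ⟨.L 2, 11, 1, false, [⟨11, 5, 0⟩], []⟩, ⟨.L 2, 11, 2, false, [⟨11, 10, 0⟩], []⟩, ⟨.L 2, 13, 1, false, [⟨13, 6, 0⟩], []⟩,
   ⟨.L 2, 13, 2, false, [⟨13, 12, 0⟩], []⟩, ⟨.L 2, 17, 1, false, [⟨17, 8, 0⟩], []⟩, ⟨.L 2, 17, 2, false, [⟨17, 16, 0⟩], []⟩,
   ⟨.L 2, 19, 1, false, [⟨19, 9, 0⟩], []⟩, ⟨.L 2, 19, 2, false, [⟨19, 18, 0⟩], []⟩, ⟨.L 2, 23, 1, false, [⟨23, 11, 0⟩], []⟩,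
   ⟨.L 2, 29, 1, false, [⟨29, 14, 0⟩], []⟩, ⟨.L 2, 31, 1, false, [⟨31, 15, 0⟩], []⟩, ⟨.L 2, 37, 1, false, [⟨37, 18, 0⟩], []⟩,
   ⟨.L 2, 41, 1, false, [⟨41, 20, 0⟩], []⟩, ⟨.L 2, 43, 1, false, [⟨43, 21, 0⟩], []⟩, ⟨.L 2, 47, 1, false, [⟨47, 23, 0⟩], []⟩,
   ⟨.L 2, 53, 1, false, [⟨53, 26, 0⟩], []⟩, ⟨.L 2, 59, 1, false, [⟨59, 29, 0⟩], []⟩, ⟨.L 2, 61, 1, false, [⟨61, 30, 0⟩], []⟩,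
   ⟨.L 2, 67, 1, false, [⟨67, 33, 0⟩], []⟩, ⟨.L 2, 71, 1, false, [⟨71, 35, 0⟩], []⟩, ⟨.L 2, 73, 1, false, [⟨73, 36, 0⟩], []⟩,
   ⟨.L 2, 79, 1, false, [⟨79, 39, 0⟩], []⟩, ⟨.L 2, 83, 1, false, [⟨83, 41, 0⟩], []⟩, ⟨.L 2, 89, 1, false, [⟨89, 44, 0⟩], []⟩,
   ⟨.L 2, 97, 1, false, [⟨97, 48, 0⟩], []⟩, ⟨.L 2, 101, 1, false, [⟨101, 50, 0⟩], []⟩, ⟨.L 2, 103, 1, false, [⟨103, 51, 0⟩], []⟩,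
   ⟨.L 2, 107, 1, false, [⟨107, 53, 0⟩], []⟩, ⟨.L 2, 109, 1, false, [⟨109, 54, 0⟩], []⟩, ⟨.L 2, 113, 1, false, [⟨113, 56, 0⟩], []⟩,
   ⟨.L 2, 127, 1, false, [⟨127, 63, 0⟩], []⟩, ⟨.L 2, 131, 1, false, [⟨131, 65, 0⟩], []⟩, ⟨.L 2, 137, 1, false, [⟨137, 68, 0⟩], []⟩,
   ⟨.L 2, 139, 1, false, [⟨139, 69, 0⟩], []⟩, ⟨.L 2, 149, 1, false, [⟨149, 74, 0⟩], []⟩, ⟨.L 2, 151, 1, false, [⟨151, 75, 0⟩], []⟩,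
   ⟨.L 2, 157, 1, false, [⟨157, 78, 0⟩], []⟩, ⟨.L 2, 163, 1, false, [⟨163, 81, 0⟩], []⟩, ⟨.L 2, 167, 1, false, [⟨167, 83, 0⟩], []⟩,
   ⟨.L 2, 173, 1, false, [⟨173, 86, 0⟩], []⟩, ⟨.L 2, 179, 1, false, [⟨179, 89, 0⟩], []⟩, ⟨.L 2, 181, 1, false, [⟨181, 90, 0⟩], []⟩,
   ⟨.L 2, 191, 1, false, [⟨191, 95, 0⟩], []⟩, ⟨.L 2, 193, 1, false, [⟨193, 96, 0⟩], []⟩, ⟨.L 2, 197, 1, false, [⟨197, 98, 0⟩], []⟩,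
   ⟨.L 2, 199, 1, false, [⟨199, 99, 0⟩], []⟩, ⟨.L 2, 211, 1, false, [⟨211, 105, 0⟩], []⟩, ⟨.L 2, 223, 1, false, [⟨223, 111, 0⟩], []⟩]

/-- data -/
def t2 : List Rw :=
  [⟨.L 2, 227, 1, false, [⟨227, 113, 0⟩], []⟩, ⟨.L 2, 229, 1, false, [⟨229, 114, 0⟩], []⟩, ⟨.L 2, 233, 1, false, [⟨233, 116, 0⟩], []⟩,
   ⟨.L 2, 239, 1, false, [⟨239, 119, 0⟩], []⟩, ⟨.L 2, 241, 1, false, [⟨241, 120, 0⟩], []⟩, ⟨.L 2, 251, 1, false, [⟨251, 125, 0⟩], []⟩,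
   ⟨.L 2, 257, 1, false, [⟨257, 128, 0⟩], []⟩, ⟨.L 2, 263, 1, false, [⟨263, 131, 0⟩], []⟩, ⟨.L 2, 269, 1, false, [⟨269, 134, 0⟩], []⟩,
   ⟨.L 2, 271, 1, false, [⟨271, 135, 0⟩], []⟩, ⟨.L 2, 277, 1, false, [⟨277, 138, 0⟩], []⟩, ⟨.L 2, 281, 1, false, [⟨281, 140, 0⟩], []⟩,
   ⟨.L 2, 283, 1, false, [⟨283, 141, 0⟩], []⟩, ⟨.L 2, 293, 1, false, [⟨293, 146, 0⟩], []⟩, ⟨.L 2, 307, 1, false, [⟨307, 153, 0⟩], []⟩,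
   ⟨.L 2, 311, 1, false, [⟨311, 155, 0⟩], []⟩, ⟨.L 2, 313, 1, false, [⟨313, 156, 0⟩], []⟩, ⟨.L 2, 317, 1, false, [⟨317, 158, 0⟩], []⟩,
   ⟨.L 2, 331, 1, false, [⟨331, 165, 0⟩], []⟩, ⟨.L 2, 337, 1, false, [⟨337, 168, 0⟩], []⟩, ⟨.L 2, 347, 1, false, [⟨347, 173, 0⟩], []⟩,
   ⟨.L 2, 349, 1, false, [⟨349, 174, 0⟩], []⟩, ⟨.L 2, 353, 1, false, [⟨353, 176, 0⟩], []⟩, ⟨.L 2, 359, 1, false, [⟨359, 179, 0⟩], []⟩,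
   ⟨.L 2, 367, 1, false, [⟨367, 183, 0⟩], []⟩, ⟨.L 2, 373, 1, false, [⟨373, 186, 0⟩], []⟩, ⟨.L 2, 379, 1, false, [⟨379, 189, 0⟩], []⟩,
   ⟨.L 2, 383, 1, false, [⟨383, 191, 0⟩], []⟩, ⟨.L 2, 389, 1, false, [⟨389, 194, 0⟩], []⟩, ⟨.L 2, 397, 1, false, [⟨397, 198, 0⟩], []⟩,
   ⟨.L 2, 401, 1, false, [⟨401, 200, 0⟩], []⟩, ⟨.L 2, 409, 1, false, [⟨409, 204, 0⟩], []⟩, ⟨.L 2, 419, 1, false, [⟨419, 209, 0⟩], []⟩,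
   ⟨.L 2, 421, 1, false, [⟨421, 210, 0⟩], []⟩, ⟨.L 2, 431, 1, false, [⟨431, 215, 0⟩], []⟩, ⟨.L 2, 433, 1, false, [⟨433, 216, 0⟩], []⟩,
   ⟨.L 2, 439, 1, false, [⟨439, 219, 0⟩], []⟩, ⟨.L 2, 443, 1, false, [⟨443, 221, 0⟩], []⟩, ⟨.L 2, 449, 1, false, [⟨449, 224, 0⟩], []⟩,
   ⟨.L 2, 457, 1, false, [⟨457, 228, 0⟩], []⟩, ⟨.L 2, 461, 1, false, [⟨461, 230, 0⟩], []⟩, ⟨.L 2, 463, 1, false, [⟨463, 231, 0⟩], []⟩,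
   ⟨.L 2, 467, 1, false, [⟨467, 233, 0⟩], []⟩, ⟨.L 2, 479, 1, false, [⟨479, 239, 0⟩], []⟩, ⟨.L 2, 487, 1, false, [⟨487, 243, 0⟩], []⟩,
   ⟨.L 2, 491, 1, false, [⟨491, 245, 0⟩], []⟩, ⟨.C 2, 2, 2, false, [⟨5, 4, 0⟩, ⟨17, 4, 0⟩], []⟩, ⟨.C 2, 2, 3, false, [⟨5, 4, 0⟩, ⟨13, 4, 0⟩], []⟩,
   ⟨.C 2, 3, 1, false, [], [(2, 4, 9)]⟩, ⟨.C 2, 3, 2, false, [⟨5, 4, 0⟩, ⟨41, 4, 0⟩], []⟩, ⟨.C 2, 5, 1, false, [⟨5, 4, 0⟩], []⟩,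
   ⟨.C 2, 7, 1, false, [⟨5, 4, 0⟩], [(2, 3, 24)]⟩, ⟨.C 2, 11, 1, false, [⟨11, 10, 0⟩], []⟩, ⟨.C 2, 13, 1, false, [⟨13, 12, 0⟩], []⟩,
   ⟨.C 2, 17, 1, false, [⟨17, 16, 0⟩], []⟩, ⟨.C 2, 19, 1, false, [⟨19, 18, 0⟩], []⟩, ⟨.L 3, 2, 1, false, [⟨7, 3, 0⟩], [(2, 3, 7)]⟩,
   ⟨.L 3, 2, 2, false, [⟨7, 3, 0⟩], [(2, 4, 7), (2, 5, 5)]⟩]

/-- data -/
def t3 : List Rw :=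
  [⟨.L 3, 2, 3, false, [⟨7, 3, 0⟩, ⟨73, 3, 0⟩], [(2, 73, 73), (2, 3, 63)]⟩, ⟨.L 3, 3, 1, false, [⟨13, 3, 0⟩], [(2, 3, 13), (3, 3, 4)]⟩,
   ⟨.L 3, 3, 2, false, [⟨7, 3, 0⟩, ⟨13, 3, 0⟩], [(2, 91, 91)]⟩, ⟨.L 3, 5, 1, false, [⟨5, 4, 0⟩], []⟩,
   ⟨.L 3, 7, 1, false, [⟨7, 6, 0⟩, ⟨19, 3, 0⟩], []⟩, ⟨.L 3, 11, 1, false, [⟨11, 10, 0⟩], []⟩, ⟨.L 3, 13, 1, false, [⟨13, 12, 0⟩], []⟩,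
   ⟨.C 3, 2, 1, false, [⟨7, 6, 0⟩, ⟨5, 4, 0⟩], []⟩, ⟨.C 3, 2, 2, false, [⟨5, 4, 0⟩, ⟨17, 4, 0⟩], []⟩,
   ⟨.C 3, 3, 1, false, [⟨13, 6, 0⟩, ⟨5, 4, 0⟩], []⟩, ⟨.C 3, 3, 1, true, [⟨5, 4, 0⟩, ⟨13, 3, 0⟩], [(2, 3, 14)]⟩,
   ⟨.C 3, 5, 1, false, [⟨7, 6, 0⟩, ⟨13, 4, 0⟩], []⟩, ⟨.C 3, 5, 1, true, [⟨13, 4, 0⟩, ⟨7, 3, 0⟩], []⟩,
   ⟨.C 3, 7, 1, false, [⟨19, 6, 0⟩, ⟨5, 4, 0⟩], []⟩, ⟨.C 3, 7, 1, true, [], []⟩, ⟨.U 3, 2, 2, false, [⟨13, 3, 0⟩], [(2, 3, 13), (2, 3, 15)]⟩,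
   ⟨.U 3, 2, 3, false, [⟨19, 3, 0⟩], [(2, 19, 19), (2, 3, 21)]⟩, ⟨.U 3, 2, 4, false, [⟨241, 3, 0⟩], [(2, 3, 17)]⟩,
   ⟨.U 3, 3, 1, false, [⟨7, 3, 0⟩], [(2, 7, 7), (2, 6, 8)]⟩]

/-- data -/
def t4 : List Rw :=
  [⟨.U 3, 3, 2, false, [⟨73, 3, 0⟩], [(2, 73, 73), (2, 3, 40)]⟩, ⟨.U 3, 5, 1, false, [⟨5, 4, 0⟩], []⟩,
   ⟨.U 3, 7, 1, false, [⟨7, 6, 0⟩, ⟨43, 3, 0⟩], []⟩, ⟨.U 3, 11, 1, false, [⟨11, 10, 0⟩], []⟩, ⟨.U 3, 13, 1, false, [⟨13, 12, 0⟩], []⟩,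
   ⟨.L 4, 2, 2, false, [⟨5, 4, 0⟩, ⟨17, 4, 0⟩], []⟩, ⟨.L 4, 3, 1, false, [⟨5, 4, 0⟩, ⟨13, 3, 0⟩], [(2, 4, 13)]⟩,
   ⟨.L 4, 5, 1, false, [⟨13, 4, 0⟩, ⟨31, 3, 0⟩], []⟩, ⟨.C 4, 2, 1, false, [⟨17, 8, 0⟩, ⟨7, 6, 0⟩], []⟩,
   ⟨.C 4, 3, 1, false, [⟨41, 8, 0⟩, ⟨5, 4, 0⟩], []⟩, ⟨.C 4, 3, 1, true, [⟨5, 4, 0⟩, ⟨41, 4, 0⟩], []⟩, ⟨.U 4, 2, 1, false, [], [(2, 4, 9)]⟩,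
   ⟨.U 4, 2, 2, false, [⟨17, 4, 0⟩, ⟨13, 3, 0⟩], [(2, 3, 65)]⟩, ⟨.U 4, 3, 1, false, [⟨5, 4, 0⟩, ⟨7, 3, 0⟩], [(2, 5, 7)]⟩,
   ⟨.U 4, 5, 1, false, [⟨13, 4, 0⟩, ⟨7, 3, 0⟩], []⟩, ⟨.D 4, 2, 1, false, [⟨7, 6, 0⟩, ⟨5, 4, 0⟩], [(2, 4, 7)]⟩,
   ⟨.D 4, 3, 1, false, [⟨13, 6, 0⟩, ⟨5, 4, 0⟩], []⟩, ⟨.DD 4, 2, 1, false, [⟨5, 4, 0⟩, ⟨17, 4, 0⟩], []⟩,
   ⟨.DD 4, 3, 1, false, [⟨41, 4, 0⟩, ⟨13, 3, 0⟩], []⟩, ⟨.L 5, 2, 1, false, [⟨31, 5, 0⟩, ⟨5, 4, 0⟩], []⟩,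
   ⟨.L 5, 3, 1, false, [⟨11, 5, 0⟩, ⟨5, 4, 0⟩], []⟩, ⟨.C 5, 2, 1, false, [⟨11, 10, 0⟩, ⟨17, 8, 0⟩], []⟩,
   ⟨.C 5, 3, 1, false, [⟨11, 10, 0⟩, ⟨41, 8, 0⟩], []⟩, ⟨.C 5, 3, 1, true, [⟨11, 5, 0⟩, ⟨61, 5, 0⟩], []⟩,
   ⟨.U 5, 2, 1, false, [⟨11, 5, 0⟩, ⟨5, 4, 0⟩], []⟩, ⟨.U 5, 2, 2, false, [⟨41, 5, 0⟩, ⟨13, 3, 0⟩], []⟩,
   ⟨.U 5, 3, 1, false, [⟨61, 5, 0⟩, ⟨5, 4, 0⟩], []⟩]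

/-- data -/
def t5 : List Rw :=
  [⟨.D 5, 2, 1, false, [⟨31, 5, 0⟩, ⟨17, 4, 0⟩], []⟩, ⟨.DD 5, 2, 1, false, [⟨17, 8, 0⟩, ⟨11, 5, 0⟩], []⟩,
   ⟨.L 6, 2, 1, false, [⟨31, 5, 0⟩, ⟨5, 4, 0⟩], []⟩, ⟨.L 6, 3, 1, false, [⟨11, 5, 0⟩, ⟨5, 4, 0⟩], []⟩,
   ⟨.C 6, 2, 1, false, [⟨13, 12, 0⟩, ⟨11, 10, 0⟩], []⟩, ⟨.U 6, 2, 1, false, [⟨11, 5, 0⟩, ⟨5, 4, 0⟩], []⟩,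
   ⟨.U 6, 3, 1, false, [⟨61, 5, 0⟩, ⟨5, 4, 0⟩], []⟩, ⟨.L 7, 2, 1, false, [⟨127, 7, 0⟩, ⟨31, 5, 0⟩], []⟩,
   ⟨.C 7, 2, 1, false, [⟨43, 14, 0⟩, ⟨31, 10, 0⟩], []⟩, ⟨.U 7, 2, 1, false, [⟨43, 7, 0⟩, ⟨11, 5, 0⟩], []⟩,
   ⟨.L 8, 2, 1, false, [⟨127, 7, 0⟩, ⟨31, 5, 0⟩], []⟩, ⟨.U 8, 2, 1, false, [⟨43, 7, 0⟩, ⟨11, 5, 0⟩], []⟩,
   ⟨.U 9, 2, 1, false, [⟨19, 9, 0⟩, ⟨11, 5, 0⟩], []⟩, ⟨.G2, 2, 2, false, [⟨7, 6, 0⟩, ⟨13, 6, 0⟩], [(2, 3, 13)]⟩,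
   ⟨.G2, 3, 1, false, [⟨7, 6, 0⟩, ⟨13, 6, 0⟩], []⟩, ⟨.G2, 3, 2, false, [⟨13, 6, 0⟩, ⟨73, 6, 0⟩], []⟩,
   ⟨.G2, 5, 1, false, [⟨7, 6, 0⟩, ⟨31, 6, 0⟩], []⟩, ⟨.F4, 3, 1, false, [⟨73, 12, 0⟩, ⟨41, 8, 0⟩], []⟩,
   ⟨.TD4, 2, 1, false, [⟨7, 6, 0⟩, ⟨13, 4, 0⟩], [(2, 3, 21)]⟩, ⟨.TD4, 3, 1, false, [⟨13, 6, 0⟩, ⟨73, 4, 0⟩], []⟩,
   ⟨.Sz, 2, 3, false, [⟨5, 4, 0⟩, ⟨13, 4, 0⟩], []⟩, ⟨.Sz, 2, 5, false, [⟨5, 4, 0⟩, ⟨41, 4, 0⟩], []⟩,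
   ⟨.Ree, 3, 3, false, [⟨19, 6, 0⟩, ⟨37, 6, 0⟩], []⟩, ⟨.Ree, 3, 5, false, [⟨31, 6, 0⟩, ⟨271, 6, 0⟩], []⟩]

theorem c0 : t0.all (chk xt) = true := by decide +kernel

theorem c1 : t1.all (chk xt) = true := by decide +kernel

theorem c2 : t2.all (chk xt) = true := by decide +kernel

theorem c3 : t3.all (chk xt) = true := by decide +kernel

theorem c4 : t4.all (chk xt) = true := by decide +kernel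

theorem c5 : t5.all (chk xt) = true := by decide +kernel

theorem keys_eq : keys = (t0 ++ t1 ++ t2 ++ t3 ++ t4 ++ t5).map fun w => ((w.X, w.r, w.a), w.o) := by decide +kernel

/-- **the row of the socles of Lie type in another characteristic** -/
theorem rowCross (B : NB) : Row qCross := row_of B xt_ok keys_eq <| List.all_eq_true.1 <| by
  simp only [List.all_append, c0, c1, c2, c3, c4, c5, Bool.and_self]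

end Cfsg.Agent.N2.Ex.Sm.Cr
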