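import Cfsg.Agent.N2.Ex.Sim.Defs
import Cfsg.Agent.H501.RowOmega
import Cfsg.Agent.H104.AtomGL
import Cfsg.Agent.H182.PGOrth
import Cfsg.Agent.S0286
import Cfsg.Agent.S0287
import Cfsg.Agent.S0288

/-!
# N2 (S3519), simple socle: automizers in the orthogonal groups (helper48)
-/

set_option autoImplicit false
set_option linter.unusedSectionVars false

namespace Cfsg.Agent.N2.Ex.Sm

open Cfsg Subgroup Matrix QuadraticMap
open Cfsg.Agent.H902 Cfsg.Agent.H902.Names Cfsg.Agent.OrdDiv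
open Cfsg.Agent.N2C.RD (PdX)

namespace CjO

open Cfsg.Agent.H501.RowOmega Cfsg.Agent.H501.RealGen
open Cfsg.Agent.ClassicalGeometry.Reflection Cfsg.Agent.H175.OmegaAdjust
open Cfsg.Agent.LieClassical

/-- passage to the central quotient -/
theorem quot {G : Type} [Group G] {r h : ℕ} (hr : r.Prime) (h1 : h ≠ 1) (k : Ch G r h) : Ch (G ⧸ center G) r h := by
  obtain ⟨g, j, hg, hc, hh⟩ := k
  have : Fact r.Prime := ⟨hr⟩
  refine ⟨QuotientGroup.mk' _ g, j, ?_, by rw [← map_pow]; exact MonoidHom.map_isConj _ hc, hh⟩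
  refine orderOf_eq_prime (by rw [← map_pow, ← hg, pow_orderOf_eq_one, map_one]) fun h0 => h1 ?_
  have hz : g ∈ center G := (QuotientGroup.eq_one_iff g).1 h0
  obtain ⟨c, e⟩ := isConj_iff.1 hc
  rw [mem_center_iff.1 hz c, mul_inv_cancel_right] at e
  have e1 : g ^ j = g ^ 1 := by rw [pow_one, ← e]
  rw [pow_eq_pow_iff_modEq, hg, ← ZMod.natCast_eq_natCast_iff, Nat.cast_one] at e1
  rw [e1, orderOf_one] at hh
  exact Nat.dvd_one.1 hh

variable {F : Type} [Field F] [Fintype F] {ι : Type} [Fintype ι] [DecidableEq ι] (Q : QuadraticForm F (ι → F))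
  (hQ : (polarBilin Q).Nondegenerate) {r : ℕ} (hr : r.Prime) (h5 : 5 ≤ r) (hF : ¬ r ∣ Fintype.card F)

include hQ hr h5 hF

theorem conj_q {x : isometryGroup F ⇑Q} (hx : x ^ r = 1) : IsConj x (x ^ Fintype.card F) := by
  have : Fact r.Prime := ⟨hr⟩
  have h0 : (r : F) ≠ 0 := natCast_ne_zero hr (by rwa [Nat.card_eq_fintype_card])
  have h1 : (r : AlgebraicClosure F) ≠ 0 := by
    rw [← map_natCast (algebraMap F (AlgebraicClosure F))]
    exact (map_ne_zero _).2 h0
  have : NeZero (r : AlgebraicClosure F) := ⟨h1⟩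
  obtain ⟨ζ, hζ⟩ := HasEnoughRootsOfUnity.exists_primitiveRoot (AlgebraicClosure F) r
  have hq : ((Fintype.card F : ℕ) : ZMod r) ≠ 0 := by rwa [Ne, ZMod.natCast_eq_zero_iff]
  rw [H193.OrthConj.isConj_iff Q hQ x _ (hr.odd_of_ne_two (by omega)) h0 hx (by rw [← pow_mul, mul_comm, pow_mul, hx, one_pow])]
  exact MonoidHom.map_isConj (Units.coeHom _)
    (H104.AtomGL.isConj_pow hζ (Units.mk0 _ hq) rfl (C := x.1) (congrArg Subtype.val hx))

theorem conj_neg {x : isometryGroup F ⇑Q} (hx : x ^ r = 1) : IsConj x (x ^ (r - 1)) := by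
  have e : x ^ (r - 1) = x⁻¹ := eq_inv_of_mul_eq_one_left (by rw [← pow_succ, Nat.sub_add_cancel (by omega), hx])
  rw [e]
  exact conj_inv Q hQ hr (by omega) (by rwa [Nat.card_eq_fintype_card]) hx

theorem mem_om (hn : 4 < Fintype.card ι) {x : isometryGroup F ⇑Q} (hx : x ^ r = 1) : x ∈ Omega F ⇑Q := by
  obtain ⟨k, hk⟩ := hr.odd_of_ne_two (by omega)
  have e : x = (x ^ (k + 1)) ^ 2 := by
    rw [← pow_mul, show (k + 1) * 2 = r + 1 by omega, pow_succ, hx, one_mul]
  rw [e]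
  exact H182.Orth.sq_mem_Omega Q hQ (by omega) _

/-- the square of the conjugating element -/
theorem two (hn : 4 < Fintype.card ι) (hd : r ∣ Nat.card (isometryGroup F ⇑Q)) :
    Ch (Omega F ⇑Q) r (orderOf ((Fintype.card F : ℕ) : ZMod r) / Nat.gcd (orderOf ((Fintype.card F : ℕ) : ZMod r)) 2) := by
  have : Fact r.Prime := ⟨hr⟩
  have : Finite (isometryGroup F ⇑Q) := Subtype.finite
  obtain ⟨x, hx⟩ := exists_prime_orderOf_dvd_card' r hd
  have hx1 : x ^ r = 1 := hx ▸ pow_orderOf_eq_one x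
  obtain ⟨c, e⟩ := isConj_iff.1 (conj_q Q hQ hr h5 hF hx1)
  refine ⟨⟨x, mem_om Q hQ hr h5 hF hn hx1⟩, Fintype.card F ^ 2, by rw [orderOf_mk, hx], ?_, ?_⟩
  · refine isConj_iff.2 ⟨⟨c ^ 2, H182.Orth.sq_mem_Omega Q hQ (by omega) c⟩, Subtype.ext ?_⟩
    change c ^ 2 * x * (c ^ 2)⁻¹ = x ^ Fintype.card F ^ 2
    rw [pow_two (Fintype.card F), pow_mul, ← e, conj_pow, ← e, pow_two]
    group
  · rw [Nat.cast_pow, orderOf_pow' _ two_ne_zero]

/-- an element fixing vectors of all norms -/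
theorem one (hn : 4 < Fintype.card ι) {x : isometryGroup F ⇑Q} (hx : orderOf x = r)
    (hv : ∀ c : F, ∃ v, Q v = c ∧ mt x *ᵥ v = v) :
    Ch (Omega F ⇑Q) r (Nat.lcm 2 (orderOf ((Fintype.card F : ℕ) : ZMod r))) := by
  have : Fact r.Prime := ⟨hr⟩
  have hx1 : x ^ r = 1 := hx ▸ pow_orderOf_eq_one x
  have hK : ∀ u, mt x *ᵥ u = u → ∀ hu : Q u ≠ 0, reflIso Q u hu ∈ centralizer {x} := by
    intro u h2 hQu
    rw [mem_centralizer_singleton_iff]
    apply mt_inj
    rw [mt_mul, mt_mul]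
    apply Matrix.ext_of_mulVec_single
    intro j
    have h1 : ∀ y, mt (reflIso Q u hQu) *ᵥ y = y - ((Q u)⁻¹ * polar ⇑Q u y) • u := by
      intro y
      change ((reflIso Q u hQu : Matrix.GeneralLinearGroup ι F) : Matrix ι ι F) *ᵥ y = _
      rw [coe_reflIso, reflectionMatrix_mulVec]
    rw [← mulVec_mulVec, ← mulVec_mulVec, h1, h1, mulVec_sub, mulVec_smul, h2]
    have h3 : polar ⇑Q u (mt x *ᵥ Pi.single j 1) = polar ⇑Q u (Pi.single j 1) := by
      conv_lhs => rw [← h2]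
      rw [isom_polar]
    rw [h3]
  have hadj : ∀ g : isometryGroup F ⇑Q, ∃ s ∈ centralizer {x}, g * s ∈ Omega F ⇑Q := by
    intro g
    obtain ⟨u, hu, hu1⟩ := hv 1
    have hu0 : Q u ≠ 0 := by rw [hu]; exact one_ne_zero
    by_cases h2 : (2 : F) = 0
    · exact adjust_two Q h2 hQ (Or.inr (by omega)) _ u hu0 (hK u hu1 hu0) g
    · obtain ⟨c, hc⟩ := FiniteField.exists_nonsquare (F := F) (by
        intro h
        have : CharP F 2 := ringChar.of_eq h
        exact h2 (CharP.cast_eq_zero F 2))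
      obtain ⟨w, hw, hw1⟩ := hv c
      have hw0 : Q w ≠ 0 := by
        rw [hw]
        rintro rfl
        exact hc IsSquare.zero
      exact adjust_odd_refl Q h2 hQ (by omega) _ u w hu0 hw0 (by rw [hu, hw, one_mul]; exact hc)
        (hK u hu1 hu0) (hK w hw1 hw0) g
  have hm := mem_om Q hQ hr h5 hF hn hx1
  have key : ∀ j : ℕ, IsConj x (x ^ j) → IsConj (⟨x, hm⟩ : Omega F ⇑Q) (⟨x, hm⟩ ^ j) := by
    intro j hj
    obtain ⟨g, hg⟩ := isConj_iff.1 hj
    obtain ⟨s, hs, hgs⟩ := hadj g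
    refine isConj_iff.2 ⟨⟨g * s, hgs⟩, Subtype.ext ?_⟩
    change g * s * x * (g * s)⁻¹ = x ^ j
    rw [_root_.mul_inv_rev, mul_assoc g s, mem_centralizer_singleton_iff.1 hs, ← hg]
    group
  have k := Ch.lcm (N := Omega F ⇑Q) (g := ⟨x, hm⟩) (r := r) (by rw [← hx, orderOf_mk])
    (key _ (conj_neg Q hQ hr h5 hF hx1)) (key _ (conj_q Q hQ hr h5 hF hx1))
  have e : orderOf (((r - 1 : ℕ)) : ZMod r) = 2 := by
    have : Fact (2 < r) := ⟨by omega⟩
    rw [Nat.cast_sub (by omega), ZMod.natCast_self, Nat.cast_one, zero_sub, orderOf_neg_one, ZMod.ringChar_zmod_n,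
      if_neg (by omega)]
  rwa [e] at k

/-- an orthogonal sum with a hyperbolic plane -/
theorem step (hn : 4 < Fintype.card ι) {κ : Type} [Fintype κ] [DecidableEq κ] {q : (κ → F) → F}
    (e : ((κ → F) × F × F) ≃ₗ[F] (ι → F)) (he : ∀ w a b, Q (e (w, a, b)) = q w + a * b)
    (hd : r ∣ Nat.card (isometryGroup F q)) :
    Ch (Omega F ⇑Q) r (Nat.lcm 2 (orderOf ((Fintype.card F : ℕ) : ZMod r))) := by
  have : Fact r.Prime := ⟨hr⟩
  have : Finite (isometryGroup F q) := Subtype.finite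
  obtain ⟨u, hu⟩ := exists_prime_orderOf_dvd_card' r hd
  have hi : ∀ v, Q (((e.symm.trans (OrthCount.extend (OrthCount.glEquiv κ F u.1))).trans e) v) = Q v := by
    intro v
    obtain ⟨⟨w, a, b⟩, rfl⟩ := e.surjective v
    simp only [LinearEquiv.trans_apply, LinearEquiv.symm_apply_apply, OrthCount.extend_apply, OrthCount.glEquiv_apply]
    rw [he, he, (mem_isometryGroup_iff _ _).1 u.2]
  obtain ⟨x, hx⟩ : ∃ x : isometryGroup F ⇑Q, ∀ w z, mt x *ᵥ e (w, z) = e (mt u *ᵥ w, z) :=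
    ⟨toIso Q _ hi, fun w z => (toIso_mulVec Q _ hi _).trans (by
      simp only [LinearEquiv.trans_apply, LinearEquiv.symm_apply_apply, OrthCount.extend_apply, OrthCount.glEquiv_apply]
      rfl)⟩
  have hp : ∀ (n : ℕ) w z, mt (x ^ n) *ᵥ e (w, z) = e (mt (u ^ n) *ᵥ w, z) := by
    intro n
    induction n with
    | zero => intro w z; rw [pow_zero, pow_zero, mt_one, mt_one, one_mulVec, one_mulVec]
    | succ n ih => intro w z; rw [pow_succ, pow_succ, mt_mul, mt_mul, ← mulVec_mulVec, ← mulVec_mulVec, hx, ih]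
  refine one Q hQ hr h5 hF hn (x := x) (orderOf_eq_prime ?_ fun h0 => ?_) fun c => ⟨e (0, 1, c), ?_, ?_⟩
  · refine isometryGroup_ext _ _ _ fun v => ?_
    obtain ⟨⟨w, z⟩, rfl⟩ := e.surjective v
    refine (hp r w z).trans ?_
    rw [← hu, pow_orderOf_eq_one, mt_one, one_mulVec]
    exact (one_mulVec _).symm
  · have h1 : u = 1 := by
      refine isometryGroup_ext _ _ _ fun w => ?_
      have h2 := hx w 0
      rw [h0, mt_one, one_mulVec] at h2
      exact (congrArg Prod.fst (e.injective h2)).symm.trans (one_mulVec _).symm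
    rw [h1, orderOf_one] at hu
    omega
  · have h1 := he 0 0 0
    rw [show ((0, 0, 0) : (κ → F) × F × F) = 0 from rfl, map_zero, map_zero, mul_zero, add_zero] at h1
    rw [he, ← h1, zero_add, one_mul]
  · rw [hx, mulVec_zero]

omit hQ h5 hF

section arith

variable {q i : ℕ} (hq : 1 ≤ q) (ho : orderOf ((q : ℕ) : ZMod r) = i)

include hq ho

theorem dvd_sub {j : ℕ} : r ∣ q ^ j - 1 ↔ i ∣ j := by
  rw [← ho, orderOf_dvd_iff_pow_eq_one, ← Nat.cast_pow, ← Nat.cast_one (R := ZMod r), eq_comm, ZMod.natCast_eq_natCast_iff,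
    Nat.modEq_iff_dvd' (Nat.one_le_pow _ _ hq)]

theorem dvd_prod {m : ℕ} (h0 : 0 < i) (h : i ≤ m ∨ (i % 2 = 0 ∧ i ≤ 2 * m)) :
    r ∣ ∏ k ∈ Finset.range m, (q ^ (2 * (k + 1)) - 1) := by
  rcases h with h | h
  · exact ((dvd_sub hr hq ho).2 ⟨2, by omega⟩).trans
      (Finset.dvd_prod_of_mem _ (Finset.mem_range.2 (show i - 1 < m by omega)))
  · exact ((dvd_sub hr hq ho).2 ⟨1, by omega⟩).trans
      (Finset.dvd_prod_of_mem _ (Finset.mem_range.2 (show i / 2 - 1 < m by omega)))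

theorem dvd_add {m : ℕ} (h0 : 0 < m) (h : i = 2 * m) : r ∣ q ^ m + 1 := by
  have h1 := (dvd_sub hr hq ho (j := m * 2)).2 ⟨1, by omega⟩
  rw [pow_mul, ← one_pow 2, Nat.sq_sub_sq] at h1
  exact (hr.dvd_mul.1 h1).resolve_right fun h2 =>
    absurd (Nat.le_of_dvd h0 ((dvd_sub hr hq ho).1 h2)) (by omega)

end arith

variable {i : ℕ} (ho : orderOf ((Fintype.card F : ℕ) : ZMod r) = i)

include ho

theorem dvd_odd (hodd : Odd (Fintype.card F)) {m : ℕ} (h : PdX (.C m) i) :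
    r ∣ Nat.card (isometryGroup F (quadFormOdd m F)) := by
  rw [S0286.result rfl hodd]
  exact (dvd_prod hr Fintype.card_pos ho h.1 h.2).mul_left _

theorem dvd_plus {m : ℕ} (hm : 1 ≤ m) (h : PdX (.D m) i) : r ∣ Nat.card (isometryGroup F (quadFormPlus m F)) := by
  rw [S0287.result rfl m hm]
  obtain ⟨h0, h⟩ := h
  by_cases e : i = m
  · exact (((dvd_sub hr Fintype.card_pos ho).2 (e ▸ dvd_rfl)).mul_left _).mul_right _
  · exact (dvd_prod hr Fintype.card_pos ho h0 (by omega)).mul_left _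

theorem dvd_minus {m : ℕ} {a b : F} (hab : ∀ z₁ z₂ : F, z₁ ^ 2 + a * z₁ * z₂ + b * z₂ ^ 2 = 0 → z₁ = 0 ∧ z₂ = 0)
    (h : PdX (.DD (m + 1)) i) : r ∣ Nat.card (isometryGroup F (quadFormMinus m F a b)) := by
  have h1 := S0288.result rfl (m + 1) (by omega) a b hab
  rw [Nat.add_sub_cancel] at h1
  rw [h1]
  obtain ⟨h0, h⟩ := h
  by_cases e : i = 2 * (m + 1)
  · exact ((dvd_add hr Fintype.card_pos ho (by omega) e).mul_left _).mul_right _
  · exact (dvd_prod hr Fintype.card_pos ho h0 (by omega)).mul_left _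

include h5 hF

/-- both branches -/
theorem both {q : (ι → F) → F} (hq : ⇑Q = q) (hQ : (polarBilin Q).Nondegenerate) (hn : 4 < Fintype.card ι) {κ : Type}
    [Fintype κ] [DecidableEq κ] {q' : (κ → F) → F} (e : ((κ → F) × F × F) ≃ₗ[F] (ι → F))
    (he : ∀ w a b, q (e (w, a, b)) = q' w + a * b) {P : Prop} [Decidable P] (h1 : P → r ∣ Nat.card (isometryGroup F q'))
    (h2 : r ∣ Nat.card (isometryGroup F q)) (h3 : ¬ P → 3 ≤ i) {N : Type} [Group N] (f : N ≃* POmega F q) :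
    Ch N r (if P then Nat.lcm 2 i else i / Nat.gcd i 2) := by
  subst hq ho
  refine Ch.map f.symm.toMonoidHom f.symm.injective ?_
  split_ifs with h
  · exact quot hr (fun h0 => absurd (h0 ▸ Nat.dvd_lcm_left 2 _) (by norm_num)) (step Q hQ hr h5 hF hn e he (h1 h))
  · refine quot hr (fun h0 => ?_) (two Q hQ hr h5 hF hn h2)
    have h4 := h3 h
    have h6 := Nat.div_mul_cancel (Nat.gcd_dvd_left (orderOf ((Fintype.card F : ℕ) : ZMod r)) 2)
    have h7 := Nat.le_of_dvd two_pos (Nat.gcd_dvd_right (orderOf ((Fintype.card F : ℕ) : ZMod r)) 2)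
    rw [h0, one_mul] at h6
    omega

omit ho h5 hF hr

theorem not_dvd {s a : ℕ} (hr : r.Prime) (hs : s.Prime) (h : r ≠ s) (hc : Fintype.card F = s ^ a) : ¬ r ∣ Fintype.card F :=
  fun hd => h ((Nat.prime_dvd_prime_iff_eq hr hs).1 (hr.dvd_of_dvd_pow (hc ▸ hd)))

end CjO

open CjO Cfsg.Agent.LieClassical

/-- **[CjO]** -/
theorem boxCjO : BoxCjO := by
  intro n q
  refine ⟨?_, ?_, ?_⟩
  · intro X s a N _ _ h
    obtain ⟨hl, hR, hA⟩ := h
    cases hl with
    | oodd _ _ _ hn hodd =>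
      refine ⟨fun r b hr h5 hrs _ hb hP => ?_, fun _ h => absurd rfl h⟩
      obtain rfl : b = a := hb.resolve_right Bool.false_ne_true
      obtain ⟨F, _, _, hc, ⟨f⟩⟩ := hR
      obtain ⟨m, rfl⟩ : ∃ m, n = m + 1 := ⟨n - 1, by omega⟩
      have hF := not_dvd hr hA.hp hrs hc
      rw [← hc] at hP hodd ⊢
      have h2 : (2 : F) ≠ 0 := fun h0 => by
        have h' : ringChar F = 2 := by
          have hd : ringChar F ∣ 2 := (ringChar.spec F 2).1 (by exact_mod_cast h0)
          exact ((Nat.dvd_prime Nat.prime_two).1 hd).resolve_left CharP.ringChar_ne_one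
        have := FiniteField.even_card_of_char_two h'
        have := Nat.odd_iff.1 hodd
        omega
      exact both (OrthForms.oddForm (m + 1) F) hr h5 hF rfl (OrthForms.coe_oddForm _ F)
        (H181.FormNondeg.odd_nondegenerate _ F h2) (by simp; omega) (q' := quadFormOdd m F) (QuadForms.oddStep m F)
        (fun w a b => by rw [← QuadForms.coe_oddForm, ← QuadForms.coe_oddForm, QuadForms.oddForm_oddStep])
        (fun h => dvd_odd hr rfl hodd ⟨hP.1, by omega⟩) (dvd_odd hr rfl hodd hP) (fun h => by omega) f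
  · intro X s a N _ _ h
    obtain ⟨hl, hR, hA⟩ := h
    cases hl with
    | oplus =>
      refine ⟨fun r b hr h5 hrs _ hb hP => ?_, fun _ h => absurd rfl h⟩
      obtain rfl : b = a := hb.resolve_right Bool.false_ne_true
      obtain ⟨F, _, _, hc, ⟨f⟩⟩ := hR
      have hn : 4 ≤ n := hA.ok
      obtain ⟨m, rfl⟩ : ∃ m, n = m + 1 := ⟨n - 1, by omega⟩
      have hF := not_dvd hr hA.hp hrs hc
      rw [← hc] at hP ⊢
      exact both (OrthForms.plusForm (m + 1) F) hr h5 hF rfl (OrthForms.coe_plusForm _ F)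
        (H181.FormNondeg.plus_nondegenerate _ F) (by simp; omega) (q' := quadFormPlus m F) (QuadForms.plusStep m F)
        (fun w a b => by rw [← QuadForms.coe_plusForm, ← QuadForms.coe_plusForm, QuadForms.plusForm_plusStep])
        (fun h => dvd_plus hr rfl (by omega) ⟨hP.1, by omega⟩) (dvd_plus hr rfl (by omega) hP) (fun h => by omega) f
  · intro X s a N _ _ h
    obtain ⟨hl, hR, hA⟩ := h
    cases hl with
    | ominus =>
      refine ⟨fun r b hr h5 hrs _ hb hP => ?_, fun _ h => absurd rfl h⟩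
      obtain rfl : b = a := hb.resolve_right Bool.false_ne_true
      obtain ⟨F, _, _, c, d, hc, hab, ⟨f⟩⟩ := hR
      have hn : 4 ≤ n := hA.ok
      obtain ⟨m, rfl⟩ : ∃ m, n = m + 1 + 1 := ⟨n - 2, by omega⟩
      have hF := not_dvd hr hA.hp hrs hc
      rw [← hc] at hP ⊢
      exact both (OrthForms.minusForm (m + 1) F c d) hr h5 hF rfl (OrthForms.coe_minusForm _ F c d)
        (H181.FormNondeg.minus_nondegenerate _ F c d hab) (by simp; omega) (q' := quadFormMinus m F c d)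
        (QuadForms.minusStep m F)
        (fun w a b => by rw [← QuadForms.coe_minusForm, ← QuadForms.coe_minusForm, QuadForms.minusForm_minusStep])
        (fun h => dvd_minus hr rfl hab ⟨hP.1, by omega⟩) (dvd_minus hr rfl hab hP) (fun h => by omega) f

end Cfsg.Agent.N2.Ex.Sm
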