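import Cfsg.Agent.N2.Ex.Sim.Defs
import Cfsg.Agent.H696.GmnUntw
import Cfsg.Agent.LieClassical.SympCenter
import Cfsg.Agent.S0245
import Cfsg.Agent.S2389

/-!
# N2 (S3519), simple socle: automizers in the symplectic and in the untwisted exceptional groups (helper90)
-/

set_option autoImplicit false
set_option linter.unusedSectionVars false

namespace Cfsg.Agent.N2.Ex.Sm

open Cfsg Cfsg.Lie Subgroup Matrix
open Cfsg.Agent.H902 Cfsg.Agent.H902.Names Cfsg.Agent.OrdDiv
open Cfsg.Agent.N2C.RD (PdX)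
open Cfsg.Agent.Nodes.RGDChev Cfsg.Agent.BpExc.RowsUntw Cfsg.Agent.BpExc.FamInst Cfsg.Agent.BpExc.FamExt Cfsg.Agent.H696
  Cfsg.Agent.H696.GmnUntw Cfsg.Agent.Tits.Roots Cfsg.Agent.ChevalleyStructure.CoxeterGeom

namespace CjS

theorem dvd_sub {q r k : ℕ} (hq : 0 < q) (h : orderOf (q : ZMod r) ∣ k) : r ∣ q ^ k - 1 := by
  rw [← ZMod.natCast_eq_zero_iff, Nat.cast_sub (Nat.one_le_pow _ _ hq), Nat.cast_pow, Nat.cast_one, sub_eq_zero]
  exact orderOf_dvd_iff_pow_eq_one.1 h

theorem dvd_card {X : Art.Sh} {s a M r : ℕ} (h : Art.Real X s a M) (hr : r.Prime) (h5 : 5 ≤ r) (hd : Art.dd X (s ^ a) ∣ 6)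
    (hn : r ∣ Art.num X (s ^ a)) : r ∣ M := by
  refine (hr.dvd_mul.1 (h.eq ▸ hn.mul_left _)).resolve_left fun k => ?_
  have h1 := Nat.le_of_dvd (by norm_num) (k.trans hd)
  have h2 := k.trans hd
  interval_cases r
  · omega
  · exact absurd hr (by norm_num)

theorem ord_neg {r : ℕ} (h5 : 5 ≤ r) : orderOf ((r - 1 : ℕ) : ZMod r) = 2 := by
  have : Fact (1 < r) := ⟨by omega⟩
  rw [Nat.cast_sub (by omega), ZMod.natCast_self, zero_sub, Nat.cast_one, orderOf_neg_one, ZMod.ringChar_zmod_n,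
    if_neg (by omega)]

theorem pow_pred {G : Type*} [Group G] {g : G} {r : ℕ} (h5 : 5 ≤ r) (hg : orderOf g = r) : g ^ (r - 1) = g⁻¹ :=
  eq_inv_of_mul_eq_one_left (by rw [← pow_succ, Nat.sub_add_cancel (by omega), ← hg, pow_orderOf_eq_one])

theorem ch_real {G : Type} [Group G] {g : G} {r q : ℕ} (h5 : 5 ≤ r) (hg : orderOf g = r) (h1 : IsConj g g⁻¹)
    (h2 : IsConj g (g ^ q)) : Ch G r (Nat.lcm 2 (orderOf (q : ZMod r))) := by
  have h3 := Ch.lcm hg (i := r - 1) (by rwa [pow_pred h5 hg]) h2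
  rwa [ord_neg h5] at h3

section chev

variable {D : ChevalleyDatum} {l : ℕ} {M : CoxeterMatrix (Fin l)} (hp : IsType D l M) {d : ℕ} {B : Fin l → Fin l → ℤ}
  (hB : InvC D l d B) {s a r : ℕ} [Fact s.Prime] (hZ : center ↥(D.group (AlgebraicClosure (ZMod s))) = ⊥) {F : Type}
  [Field F] [Fintype F] (hF : Fintype.card F = s ^ a) {N : Type} [Group N] [Finite N] (e : N ≃* ↥(D.group F))
  (hr : r.Prime) (hrs : r ≠ s) (hN : r ∣ Nat.card N)
include hp hB hZ hF e hr hrs hN

theorem ch_div (hd : d ≠ 0) :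
    Ch N r (orderOf ((s ^ a : ℕ) : ZMod r) / Nat.gcd (orderOf ((s ^ a : ℕ) : ZMod r)) d) := by
  have := charP_of_card_eq_prime_pow hF
  obtain ⟨g, -, hg, -⟩ := (Ch.one hr hN).map e.toMonoidHom e.injective
  refine Ch.map e.symm.toMonoidHom e.symm.injective
    ⟨g, _, hg, isConj_pow hp hB hd hZ hr hrs (hg ▸ pow_orderOf_eq_one g), ?_⟩
  rw [hF, Nat.cast_pow _ d, orderOf_pow' _ hd]

theorem ch_lcm (hd : d = 1) (h5 : 5 ≤ r) (hneg : ∃ w : M.Group, ∀ a, IsRoot M.toCoxeterSystem hp.isCartan a →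
    rep M.toCoxeterSystem hp.isCartan w a = -a) : Ch N r (Nat.lcm 2 (orderOf ((s ^ a : ℕ) : ZMod r))) := by
  have := charP_of_card_eq_prime_pow hF
  subst hd
  obtain ⟨g, -, hg, -⟩ := (Ch.one hr hN).map e.toMonoidHom e.injective
  have h1 := isConj_pow hp hB one_ne_zero hZ hr hrs (hg ▸ pow_orderOf_eq_one g)
  rw [pow_one, hF] at h1
  exact Ch.map e.symm.toMonoidHom e.symm.injective
    (ch_real h5 hg (isConj_inv hp hB odd_one hZ hneg hr hrs (hg ▸ pow_orderOf_eq_one g)) h1)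

end chev

/-! ### symplectic groups -/

section sp

variable {F : Type} [Field F] {m : ℕ}

theorem ch_quot (hm : 1 ≤ m) {r h : ℕ} (hr : r.Prime) (h5 : 5 ≤ r) (k : Ch (symplecticGroup (Fin m) F) r h) :
    Ch (PSp m F) r h := by
  have : Fact r.Prime := ⟨hr⟩
  obtain ⟨g, j, h1, h2, h3⟩ := k
  refine ⟨(QuotientGroup.mk' _) g, j, orderOf_eq_prime (by rw [← map_pow, ← h1, pow_orderOf_eq_one, map_one]) fun e => ?_,
    by rw [← map_pow]; exact MonoidHom.map_isConj _ h2, h3⟩
  obtain ⟨c, hc⟩ := (LieClassical.SympCenter.mem_center_iff m g).1 ((QuotientGroup.eq_one_iff _).1 e)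
  have h4 : g ^ 2 = 1 := Subtype.ext (by
    show g.1 ^ 2 = 1
    rw [hc, smul_pow, one_pow, pow_two, LieClassical.SympCenter.sq_eq_one_of_smul_mem hm (hc ▸ g.2), one_smul])
  have h6 := Nat.le_of_dvd two_pos (h1 ▸ orderOf_dvd_of_pow_eq_one h4)
  omega

/-- a field embedding -/
def spMap {K : Type} [Field K] (τ : K →+* F) : symplecticGroup (Fin m) K →* symplecticGroup (Fin m) F where
  toFun g := ⟨g.1.map τ, SymplecticGroup.map_mem g.2 τ⟩
  map_one' := Subtype.ext (Matrix.map_one _ (map_zero τ) (map_one τ))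
  map_mul' _ _ := Subtype.ext Matrix.map_mul

theorem spMap_inj {K : Type} [Field K] (τ : K →+* F) : Function.Injective (spMap (m := m) τ) := fun _ _ h =>
  Subtype.ext (Matrix.map_injective τ.injective (congrArg Subtype.val h))

theorem ch_sp [Fintype F] {s r : ℕ} [Fact s.Prime] [CharP F s] (hr : r.Prime) (h5 : 5 ≤ r) (hrs : r ≠ s)
    (h : PdX (.C m) (orderOf (Fintype.card F : ZMod r))) :
    Ch (symplecticGroup (Fin m) F) r (Nat.lcm 2 (orderOf (Fintype.card F : ZMod r))) := by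
  obtain ⟨h0, h1⟩ := h
  obtain ⟨k, hk, hd⟩ : ∃ k < m, orderOf (Fintype.card F : ZMod r) ∣ 2 * (k + 1) := by
    generalize orderOf (Fintype.card F : ZMod r) = i at h0 h1
    rcases h1 with h1 | h1
    · exact ⟨i - 1, by omega, 2, by omega⟩
    · exact ⟨i / 2 - 1, by omega, 1, by omega⟩
  have h2 : r ∣ Nat.card (symplecticGroup (Fin m) F) := by
    rw [S0245.result rfl]
    exact ((dvd_sub Fintype.card_pos hd).trans 
      (Finset.dvd_prod_of_mem (fun i => Fintype.card F ^ (2 * (i + 1)) - 1) (Finset.mem_range.2 hk))).mul_left _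
  obtain ⟨g, -, hg, -⟩ := Ch.one hr h2
  have h3 : (orderOf g).Coprime s := hg ▸ (Nat.coprime_primes hr Fact.out).2 hrs
  refine ch_real h5 hg (S2389.result s m g _ h3 (by rwa [orderOf_inv]) ?_)
    (S2389.result s m g _ h3 (h3.coprime_dvd_left (orderOf_pow_dvd _)) (FiniteField.Matrix.charpoly_pow_card g.1).symm)
  rw [SymplecticGroup.coe_inv, charpoly_mul_comm, ← mul_assoc, mul_neg, J_squared, neg_neg, one_mul, charpoly_transpose]

/-- a short root element -/
def uu (c : F) : symplecticGroup (Fin 2) F := ⟨fromBlocks !![1, c; 0, 1] 0 0 !![1, 0; -c, 1], by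
  rw [SymplecticGroup.fromBlocks_mem_iff]
  refine ⟨by simp, by simp, ?_⟩
  ext i j
  fin_cases i <;> fin_cases j <;> simp [Matrix.mul_apply]⟩

/-- a diagonal matrix -/
def tt (c : F) (hc : c ≠ 0) : symplecticGroup (Fin 2) F := ⟨fromBlocks !![c, 0; 0, 1] 0 0 !![c⁻¹, 0; 0, 1], by
  rw [SymplecticGroup.fromBlocks_mem_iff]
  refine ⟨by simp, by simp, ?_⟩
  ext i j
  fin_cases i <;> fin_cases j <;> simp [Matrix.mul_apply, hc]⟩

theorem uu_pow (j : ℕ) : uu (1 : F) ^ j = uu (j : F) := by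
  induction j with
  | zero =>
    refine Subtype.ext ?_
    ext (i | i) (j | j) <;> fin_cases i <;> fin_cases j <;> simp [uu]
  | succ j ih =>
    rw [pow_succ, ih]
    refine Subtype.ext ?_
    ext (i | i) (j | j) <;> fin_cases i <;> fin_cases j <;> simp [uu, fromBlocks_multiply, add_comm]

theorem ch_uni {s : ℕ} [Fact s.Prime] [CharP F s] : Ch (symplecticGroup (Fin 2) F) s (s - 1) := by
  obtain ⟨u, hu⟩ := IsCyclic.exists_generator (α := (ZMod s)ˣ)
  have h1 := orderOf_eq_card_of_forall_mem_zpowers hu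
  rw [Nat.card_eq_fintype_card, ZMod.card_units] at h1
  have h2 : (((u : ZMod s).val : ℕ) : F) ≠ 0 := fun e =>
    u.ne_zero (by rw [← ZMod.natCast_zmod_val (u : ZMod s), ZMod.natCast_eq_zero_iff, ← CharP.cast_eq_zero_iff F s, e])
  refine ⟨uu 1, (u : ZMod s).val, orderOf_eq_prime ?_ fun e => ?_, ?_, by rw [ZMod.natCast_zmod_val, orderOf_units, h1]⟩
  · rw [uu_pow, CharP.cast_eq_zero, ← Nat.cast_zero, ← uu_pow, pow_zero]
  · simpa [uu] using congrArg (fun g : symplecticGroup (Fin 2) F => g.1 (Sum.inl 0) (Sum.inl 1)) e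
  · rw [uu_pow, isConj_iff]
    generalize (((u : ZMod s).val : ℕ) : F) = c at h2
    refine ⟨tt _ h2, mul_inv_eq_iff_eq_mul.2 (Subtype.ext ?_)⟩
    ext (i | i) (j | j) <;> fin_cases i <;> fin_cases j <;> simp [uu, tt, fromBlocks_multiply, h2]

end sp

end CjS

open CjS

/-- **[Cj]**, symplectic groups -/
theorem boxCjS : BoxCjS := by
  intro n q X s a N _ _ ⟨h1, ⟨F, _, _, hF, ⟨e⟩⟩, h3⟩
  cases h1
  have : Fact s.Prime := ⟨h3.hp⟩
  have := charP_of_card_eq_prime_pow hF
  have hn : 2 ≤ n := h3.ok.1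
  refine ⟨fun r b hr h5 hrs hb _ hP => Ch.map e.symm.toMonoidHom e.symm.injective (ch_quot (by omega) hr h5 ?_),
    fun h5 h0 => Ch.map e.symm.toMonoidHom e.symm.injective ?_⟩
  · have hb0 : b ≠ 0 := by
      rintro rfl
      have := h3.hf
      have := zero_dvd_iff.1 hb
      omega
    have := Fintype.ofFinite (GaloisField s b)
    have hK : Fintype.card (GaloisField s b) = s ^ b := by rw [← Nat.card_eq_fintype_card, GaloisField.card s b hb0]
    let _ := ZMod.algebra F s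
    obtain ⟨τ⟩ := FiniteField.nonempty_algHom_of_finrank_dvd (F := ZMod s) (K := GaloisField s b) (L := F) (by
      rwa [GaloisField.finrank s hb0, Nat.pow_right_injective h3.hp.two_le ((FiniteField.pow_finrank_eq_card s F).trans hF)])
    rw [← hK] at hP
    have h4 := (ch_sp hr h5 hrs hP).map (spMap τ.toRingHom) (spMap_inj _)
    rwa [hK] at h4
  · have h2 : n = 2 := by_contra fun k => h0 (if_neg k)
    subst h2
    exact ch_quot (by omega) h3.hp h5 ch_uni

/-- **[Cj]**, untwisted exceptional groups -/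
theorem boxCjX : BoxCjX := by
  intro q
  refine ⟨?_, ?_, ?_, ?_, ?_⟩ <;> rintro X s a N _ _ ⟨h1, ⟨F, _, _, hF, ⟨e⟩⟩, h3⟩ <;> cases h1 <;>
    refine ⟨fun r b hr h5 hrs _ hb hP => ?_, fun _ h => absurd rfl h⟩ <;>
    obtain rfl : b = a := hb.resolve_right Bool.false_ne_true <;> have : Fact s.Prime := ⟨h3.hp⟩ <;>
    have hq : 0 < s ^ b := pow_pos h3.hp.pos b
  · exact ch_lcm g2T inv_G2 (center_eq_bot_of_simple (S1055.result (exists_ne_algClosed _))) hF e hr hrs
      (dvd_card h3 hr h5 (one_dvd 6) ((dvd_sub hq hP).mul_left _)) rfl h5 (GmnNeg.negG2 g2T _)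
  · refine ch_lcm f4T inv_F4 (center_eq_bot_of_simple (S1054.result chevF4 (by simp))) hF e hr hrs
      (dvd_card h3 hr h5 (one_dvd 6) ?_) rfl h5 (GmnNeg.negF4 f4T _)
    rcases hP with h | h
    exacts [((dvd_sub hq h).mul_left _).mul_right _, (dvd_sub hq h).mul_left _]
  · refine ch_div e6T inv_E6 (center_eq_bot_of_simple (S1054.result chevE6 (by simp))) hF e hr hrs
      (dvd_card h3 hr h5 ((Nat.gcd_dvd_left 3 _).trans (by norm_num)) ?_) three_ne_zero
    rcases hP with h | h | h | h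
    exacts [(((((dvd_sub hq h).mul_left _).mul_right _).mul_right _).mul_right _).mul_right _,
      (((dvd_sub hq h).mul_left _).mul_right _).mul_right _, ((dvd_sub hq h).mul_left _).mul_right _,
      (dvd_sub hq h).mul_left _]
  · refine ch_div e7T inv_E7 (center_eq_bot_of_simple (S1054.result chevE7 (by simp))) hF e hr hrs
      (dvd_card h3 hr h5 ((Nat.gcd_dvd_left 2 _).trans (by norm_num)) ?_) two_ne_zero
    rcases hP with h | h | h | h | h
    exacts [(((((dvd_sub hq h).mul_left _).mul_right _).mul_right _).mul_right _).mul_right _,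
      ((((dvd_sub hq h).mul_left _).mul_right _).mul_right _).mul_right _,
      (((dvd_sub hq h).mul_left _).mul_right _).mul_right _, ((dvd_sub hq h).mul_left _).mul_right _,
      (dvd_sub hq h).mul_left _]
  · refine ch_lcm e8T inv_E8 (center_eq_bot_of_simple (S1054.result chevE8 (by simp))) hF e hr hrs
      (dvd_card h3 hr h5 (one_dvd 6) ?_) rfl h5 (GmnNeg.negE8 e8T _)
    rcases hP with h | h | h | h | h
    exacts [(((((dvd_sub hq h).mul_left _).mul_right _).mul_right _).mul_right _).mul_right _,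
      ((((dvd_sub hq h).mul_left _).mul_right _).mul_right _).mul_right _,
      (((dvd_sub hq h).mul_left _).mul_right _).mul_right _, ((dvd_sub hq h).mul_left _).mul_right _,
      (dvd_sub hq h).mul_left _]

end Cfsg.Agent.N2.Ex.Sm
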