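import Cfsg.Agent.N2.Ex.Sim.Defs
import Cfsg.Agent.N2.Ex.Sim.CjT1
import Cfsg.Agent.H696.GmnTwE6
import Cfsg.Agent.H564.TD.Own
import Cfsg.Agent.S1059
import Cfsg.Agent.S1082

/-!
# N2 (S3519), simple socle: the boxes `CjT`, `CjZ`, `Sy` (helper30)
-/

set_option autoImplicit false
set_option linter.unusedSectionVars false
set_option maxHeartbeats 200000

namespace Cfsg.Agent.N2.Ex.Sm

open Cfsg Cfsg.Lie Cfsg.Agent.H902 Cfsg.Agent.H902.Names Cfsg.Agent.OrdDiv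
open Cfsg.Agent.N2C.RD (PdX)

namespace CT

theorem orderOf_neg {K : Type} [Field K] (h2 : (2 : K) ≠ 0) {x : K} (h0 : orderOf x ≠ 0) :
    orderOf (-x) = oneg (orderOf x) := by
  have h1 : orderOf (-1 : K) = 2 := orderOf_eq_prime (by norm_num) fun e => h2 (by linear_combination -e)
  unfold oneg
  obtain ⟨j, h | h⟩ := Nat.even_or_odd' (orderOf x)
  · have h3 : x ^ j = -1 :=
      (sq_eq_one_iff.1 (by rw [← pow_mul, mul_comm, ← h, pow_orderOf_eq_one])).resolve_left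
        (pow_ne_one_of_lt_orderOf (by omega) (by omega))
    rw [show -x = x ^ (j + 1) by rw [pow_succ, h3, neg_one_mul], orderOf_pow' _ (Nat.succ_ne_zero j), h,
      (Nat.coprime_self_add_right.2 (Nat.coprime_one_right j)).gcd_mul_right_cancel, Nat.gcd_rec, if_neg (by omega)]
    obtain h4 | h4 := Nat.mod_two_eq_zero_or_one (j + 1)
    · rw [h4, if_pos (by omega), Nat.gcd_zero_left]
    · rw [h4, if_neg (by omega), Nat.gcd_one_left, Nat.div_one]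
  · rw [if_pos (by omega), ← neg_one_mul, (Commute.all _ _).orderOf_mul_eq_mul_orderOf_of_coprime, h1]
    rw [h1, Nat.coprime_two_left]
    exact ⟨j, h⟩

theorem two_ne {r : ℕ} (h5 : 5 ≤ r) : (2 : ZMod r) ≠ 0 := fun h =>
  absurd (Nat.le_of_dvd two_pos ((ZMod.natCast_eq_zero_iff 2 r).1 h)) (by omega)

theorem exists_nat {M : Type} [Group M] {z : M} {r : ℕ} (hr : r ≠ 0) (hz : orderOf z = r) {m : ℤ} (h : IsConj z (z ^ m)) :
    ∃ j : ℕ, (j : ZMod r) = m ∧ IsConj z (z ^ j) := by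
  have : NeZero r := ⟨hr⟩
  refine ⟨(m : ZMod r).val, ZMod.natCast_zmod_val _, ?_⟩
  rwa [← zpow_natCast, ZMod.val_intCast, ← hz, zpow_mod_orderOf]

theorem dvd_num {X : Art.Sh} {q r : ℕ} (hX : X = .TE6 ∨ X = .TD4 ∨ X = .Sz ∨ X = .Ree ∨ X = .TF4) (hr : r.Prime)
    (h0 : orderOf (q : ZMod r) ≠ 0) (hD : PdX X (orderOf (q : ZMod r))) : r ∣ Art.num X q := by
  have h1 : 1 ≤ 1 * orderOf (q : ZMod r) := by omega
  have hs : ∀ j, r ∣ q ^ j - 1 ↔ orderOf (q : ZMod r) ∣ j := fun j => by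
    simpa only [pow_one] using H370.Rg.dvd_q_pow_sub hr (one_mul _).symm h1 j
  have ha : ∀ j, orderOf (q : ZMod r) ∣ j * 2 → ¬ orderOf (q : ZMod r) ∣ j → r ∣ q ^ j + 1 := fun j k1 k2 => by
    have k3 := (hs _).2 k1
    rw [pow_mul, ← one_pow 2, Nat.sq_sub_sq] at k3
    exact (hr.dvd_mul.1 k3).resolve_right fun k4 => k2 ((hs j).1 k4)
  have h2 : orderOf (q : ZMod r) = 1 → r ∣ q - 1 := fun e => by simpa only [pow_one] using (hs 1).2 e.dvd
  rcases hX with rfl | rfl | rfl | rfl | rfl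
  · simpa only [pow_one] using N2C.RD.Au.dvd_num (X := .TE6) (f := 1) trivial hD hr (one_mul _).symm h1
  · simpa only [pow_one] using N2C.RD.Au.dvd_num (X := .TD4) (f := 1) trivial hD hr (one_mul _).symm h1
  · rcases hD with e | e
    exacts [(h2 e).mul_right _, (ha 2 e.dvd (by rw [e]; norm_num)).mul_left _]
  · rcases hD with e | e | e
    exacts [(h2 e).mul_right _, (ha 3 (by rw [e]; norm_num) (by rw [e]; norm_num)).mul_left _,
      (ha 3 e.dvd (by rw [e]; norm_num)).mul_left _]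
  · rcases hD with e | e | e
    exacts [(((hs 4).2 e).mul_left _).mul_right _, (((ha 3 e.dvd (by rw [e]; norm_num)).mul_left _).mul_right _).mul_right _,
      (ha 6 e.dvd (by rw [e]; norm_num)).mul_left _]

theorem ord_ne {s a r : ℕ} (hs : s.Prime) (hr : r.Prime) (h : r ≠ s) : orderOf ((s ^ a : ℕ) : ZMod r) ≠ 0 := by
  have : Fact r.Prime := ⟨hr⟩
  refine (IsOfFinOrder.orderOf_pos (isOfFinOrder_iff_pow_eq_one.2 ⟨r - 1, Nat.sub_pos_of_lt hr.one_lt,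
    ZMod.pow_card_sub_one_eq_one fun e => h ?_⟩)).ne'
  exact (Nat.prime_dvd_prime_iff_eq hr hs).1 (hr.dvd_of_dvd_pow ((ZMod.natCast_eq_zero_iff _ r).1 e))

theorem exists_el {X : Art.Sh} {s a r : ℕ} {N M : Type} [Group N] [Group M] [Finite N] (e : N ≃* M)
    (hX : X = .TE6 ∨ X = .TD4 ∨ X = .Sz ∨ X = .Ree ∨ X = .TF4) (h : Art.Real X s a (Nat.card N)) (hr : r.Prime) (h5 : 5 ≤ r)
    (hrs : r ≠ s) (hD : PdX X (orderOf ((s ^ a : ℕ) : ZMod r))) : ∃ z : M, orderOf z = r := by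
  have : Fact r.Prime := ⟨hr⟩
  have h1 : ¬ r ∣ Art.dd X (s ^ a) := fun k => by
    rcases hX with rfl | rfl | rfl | rfl | rfl
    · exact absurd (Nat.le_of_dvd three_pos (k.trans (Nat.gcd_dvd_left _ _))) (by omega)
    all_goals exact absurd (Nat.le_of_dvd one_pos k) (by omega)
  obtain ⟨z, hz⟩ := exists_prime_orderOf_dvd_card' r (h.dvd_of_dvd_num hr h1 (dvd_num hX hr (ord_ne h.hp hr hrs) hD))
  exact ⟨e z, (e.orderOf_eq z).trans hz⟩

theorem ch_of {N M : Type} [Group N] [Group M] (e : N ≃* M) {r h : ℕ} (k : Ch M r h) : Ch N r h :=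
  k.map e.symm.toMonoidHom e.symm.injective

theorem cjG_of {g : Grp} (h1 : sb g = false) (h2 : ∀ s a, h0 g s a = 0)
    (h : ∀ (X : Art.Sh) (s a : ℕ) (N : Type) [Group N] [Finite N], Nm N g X s a → ∀ r : ℕ, r.Prime → 5 ≤ r → r ≠ s →
      PdX X (orderOf ((s ^ a : ℕ) : ZMod r)) → Ch N r (hh g (orderOf ((s ^ a : ℕ) : ZMod r)))) : CjG g := by
  refine fun X s a N _ _ k => ⟨fun r b hr h5 hrs _ hb => ?_, fun _ k => (k (h2 s a)).elim⟩
  obtain rfl : b = a := hb.resolve_right (by rw [h1]; exact Bool.false_ne_true)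
  exact h X s b N k r hr h5 hrs

theorem not_dvd_ord {M : Type} [Group M] {z : M} {r s : ℕ} (hz : orderOf z = r) (hr : r.Prime) (hs : s.Prime) (h : r ≠ s) :
    ¬ s ∣ orderOf z := fun k => h ((Nat.prime_dvd_prime_iff_eq hs hr).1 (hz ▸ k)).symm

theorem cj_te6 (q : ℕ) : CjG (.te6 q) := by
  refine cjG_of rfl (fun _ _ => rfl) ?_
  rintro X s a N _ _ ⟨h1, ⟨F, _, _, hF, ⟨e⟩⟩, h3⟩ r hr h5 hrs hD
  cases h1
  have : Fact r.Prime := ⟨hr⟩
  have : Fact s.Prime := ⟨h3.hp⟩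
  have : CharP F s := charP_of_card_eq_prime_pow (hF.trans (pow_mul _ _ _).symm)
  obtain ⟨z, hz⟩ := exists_el e (Or.inl rfl) h3 hr h5 hrs hD
  obtain ⟨j, k1, k2⟩ := exists_nat hr.ne_zero hz
    (H696.GmnTwE6.isConj_tw hrs h3.hf rfl hF (hz ▸ pow_orderOf_eq_one z : z ^ r = 1))
  refine ch_of e ⟨z, j, hz, k2, ?_⟩
  show oneg _ / Nat.gcd (oneg _) 3 ∣ _
  obtain ⟨c, hc⟩ := Nat.gcd_dvd_left 3 (s ^ a + 1)
  rw [← orderOf_neg (two_ne h5) (ord_ne h3.hp hr hrs), ← orderOf_pow' _ three_ne_zero, k1, Int.cast_pow, Int.cast_neg,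
    Int.cast_natCast]
  conv_lhs => rw [hc, pow_mul]
  exact orderOf_pow_dvd c

theorem ch_g2 {F : Type} [Field F] [Fintype F] {s r : ℕ} [Fact s.Prime] [CharP F s] (hr : r.Prime) (h5 : 5 ≤ r) (hrs : r ≠ s)
    (hd : r ∣ Fintype.card F ^ 6 - 1) : Ch ↥(chevG2.group F) r (Nat.lcm 2 (orderOf ((Fintype.card F : ℕ) : ZMod r))) := by
  have : Fact r.Prime := ⟨hr⟩
  have hc := S1059.result (F := F) rfl
  have : Finite ↥(chevG2.group F) := inferInstance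
  obtain ⟨z, hz⟩ := exists_prime_orderOf_dvd_card' (G := ↥(chevG2.group F)) r (hc ▸ hd.mul_left _)
  have h1 : z ^ r = 1 := hz ▸ pow_orderOf_eq_one z
  have hZ := H696.GmnUntw.center_eq_bot_of_simple
    (S1055.result (BpExc.FamInst.exists_ne_algClosed (AlgebraicClosure (ZMod s))))
  have h2 := H696.GmnUntw.isConj_inv BpExc.RowsUntw.g2T BpExc.FamInst.inv_G2 odd_one hZ
    (H696.GmnNeg.negG2 BpExc.RowsUntw.g2T _) hr hrs h1
  have h3 := H696.GmnUntw.isConj_pow BpExc.RowsUntw.g2T BpExc.FamInst.inv_G2 one_ne_zero hZ hr hrs h1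
  rw [← zpow_neg_one] at h2
  obtain ⟨j, k1, k2⟩ := exists_nat hr.ne_zero hz h2
  have h4 := Ch.lcm hz k2 (pow_one (Fintype.card F) ▸ h3)
  rwa [k1, Int.cast_neg, Int.cast_one, orderOf_neg (two_ne h5) (by rw [orderOf_one]; exact one_ne_zero), orderOf_one] at h4

theorem cj_td4 (q : ℕ) : CjG (.td4 q) := by
  refine cjG_of rfl (fun _ _ => rfl) ?_
  rintro X s a N _ _ ⟨h1, ⟨F, _, _, hF, ⟨e⟩⟩, h3⟩ r hr h5 hrs hD
  cases h1
  have : Fact r.Prime := ⟨hr⟩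
  have : Fact s.Prime := ⟨h3.hp⟩
  have : CharP F s := charP_of_card_eq_prime_pow (hF.trans (pow_mul _ _ _).symm)
  refine ch_of e ?_
  show Ch _ r (if _ = 12 then 4 else Nat.lcm 2 _)
  split_ifs with h
  · obtain ⟨z, hz⟩ := exists_el e (Or.inr (Or.inl rfl)) h3 hr h5 hrs hD
    refine ⟨z, _, hz, fus_3D4 hF (not_dvd_ord hz hr h3.hp hrs), ?_⟩
    rw [Nat.cast_pow, orderOf_pow' _ three_ne_zero, h]
    norm_num
  · obtain ⟨k, f, k1, k2⟩ := H564.TD.exists_g2 (h3.hp.isPrimePow.pow (by have := h3.hf; omega)) hF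
    have : Fintype k := Fintype.ofFinite k
    rw [Nat.card_eq_fintype_card] at k1
    refine Ch.map f k2 (k1 ▸ ch_g2 (s := s) hr h5 hrs ?_)
    have h0 := ord_ne (a := a) h3.hp hr hrs
    rw [k1]
    simpa only [pow_one] using (H370.Rg.dvd_q_pow_sub (f := 1) hr (one_mul _).symm (by omega) 6).2 (hD.resolve_right h)

theorem cj_sz (q : ℕ) : CjG (.sz q) := by
  refine cjG_of rfl (fun _ _ => rfl) ?_
  rintro X s a N _ _ ⟨h1, ⟨F, _, _, m, hm, hF, hq, ⟨e⟩⟩, h3⟩ r hr h5 hrs hD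
  cases h1
  obtain ⟨z, hz⟩ := exists_el e (by simp) h3 hr h5 hrs hD
  exact ch_of e ⟨z, _, hz, fus_2B2 hm (hF.trans hq) (not_dvd_ord hz hr Nat.prime_two (by omega)), hq ▸ dvd_rfl⟩

theorem cj_ree (q : ℕ) : CjG (.ree q) := by
  refine cjG_of rfl (fun _ _ => rfl) ?_
  rintro X s a N _ _ ⟨h1, ⟨F, _, _, m, hm, hF, hq, ⟨e⟩⟩, h3⟩ r hr h5 hrs hD
  cases h1
  obtain ⟨z, hz⟩ := exists_el e (by simp) h3 hr h5 hrs hD
  refine ch_of e ⟨z, _, hz, fus_2G2 hm (hF.trans hq) (not_dvd_ord hz hr Nat.prime_three (by omega)), ?_⟩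
  show (if _ = 6 then 6 else 1) ∣ _
  rw [← hq]
  split_ifs with h
  exacts [h.symm.dvd, one_dvd _]

theorem cj_tf4 (q : ℕ) : CjG (.tf4 q) := by
  refine cjG_of rfl (fun _ _ => rfl) ?_
  rintro X s a N _ _ ⟨h1, ⟨F, _, _, m, hm, hF, hq, ⟨e⟩⟩, h3⟩ r hr h5 hrs hD
  cases h1
  obtain ⟨z, hz⟩ := exists_el e (by simp) h3 hr h5 hrs hD
  refine ch_of e ⟨z, _, hz, fus_2F4 hm (hF.trans hq) (not_dvd_ord hz hr Nat.prime_two (by omega)), ?_⟩
  show (if _ = 4 then 4 else 1) ∣ _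
  rw [← hq]
  split_ifs with h
  exacts [h.symm.dvd, one_dvd _]

end CT

theorem boxCjT : BoxCjT := fun q => ⟨CT.cj_te6 q, CT.cj_td4 q⟩

theorem boxCjZ : BoxCjZ := fun q => ⟨CT.cj_sz q, CT.cj_ree q, CT.cj_tf4 q⟩

theorem boxSy : BoxSy := by
  rintro g X s a N _ ⟨h1, h2, h3⟩ hX
  have : Fact s.Prime := ⟨h3.hp⟩
  have ha : a ≠ 0 := by have := h3.hf; omega
  rcases hX with rfl | rfl
  · cases h1
    obtain ⟨F, _, _, hF, ⟨e⟩⟩ := h2
    have : CharP F s := charP_of_card_eq_prime_pow hF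
    obtain ⟨t, ht⟩ := CT.sy_G2 ha hF h3.ok
    exact ⟨e.symm t, (e.symm.orderOf_eq t).trans ht⟩
  · cases h1
    obtain ⟨F, _, _, hF, ⟨e⟩⟩ := h2
    have : CharP F s := charP_of_card_eq_prime_pow hF
    obtain ⟨t, ht⟩ := CT.sy_D4 ha hF
    obtain ⟨i⟩ := S1082.result (F := F)
    exact ⟨(i.trans e.symm) t, ((i.trans e.symm).orderOf_eq t).trans ht⟩

end Cfsg.Agent.N2.Ex.Sm
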