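import Cfsg.Agent.N2.Ex.Sim.DfEng

/-!
# N2 (S3519), exceptional groups, simple socle in the defining characteristic: the row of the engine (helper69)
-/

set_option autoImplicit false
set_option maxRecDepth 100000

namespace Cfsg.Agent.N2.Ex.Sm.Df

open Cfsg Cfsg.Agent.H902 Cfsg.Agent.H902.Names Cfsg.Agent.OrdDiv
open Cfsg.Agent.N2C.RX (allR allR_sound)

theorem cL : allR (fun m => chk (.L m) (hh (.psl m 0)) false) 7 4 = true := by decide +kernel
theorem cU : allR (fun m => chk (.U m) (hh (.psu m 0)) false) 7 4 = true := by decide +kernel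
theorem cS : allR (fun m => chk (.C m) (hh (.psp m 0)) false) 9 2 = true := by decide +kernel
theorem cO : allR (fun m => chk (.C m) (hh (.oodd m 0)) true) 8 3 = true := by decide +kernel
theorem cP : allR (fun m => chk (.D m) (hh (.oplus m 0)) false) 7 4 = true := by decide +kernel
theorem cM : allR (fun m => chk (.DD m) (hh (.ominus m 0)) false) 7 4 = true := by decide +kernel
theorem cX : (chk .G2 (hh (.g2 0)) false && chk .F4 (hh (.f4 0)) false && chk .E6 (hh (.e6 0)) false && chk .E7 (hh (.e7 0)) false &&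
    chk .E8 (hh (.e8 0)) false && chk .TE6 (hh (.te6 0)) false && chk .TD4 (hh (.td4 0)) false && chk .Sz (hh (.sz 0)) false &&
    chk .Ree (hh (.ree 0)) false && chk .TF4 (hh (.tf4 0)) false) = true := by decide +kernel

theorem dvd_ite {P : Prop} [Decidable P] {a b c : ℕ} (h1 : a ∣ b) (h2 : a ∣ c) : a ∣ if P then b else c := by
  split_ifs
  exacts [h1, h2]

/-- **the row** -/
theorem rowEn (B : NB) : RowN qEn := by
  intro _ l tw p e T N _ _ _ G c d g X a hn k hQ R
  have S : ∀ od : Bool, (od = true → p ≠ 2) → Sit l tw p e T N G c d X (hh g) od a := fun od h =>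
    ⟨R, k.nd hn, fun r hr h5 hp => (B.cj k.lie X p a N k).1 r a hr h5 hp dvd_rfl (Or.inl rfl), hQ, h⟩
  have S0 := S false fun h => absurd h Bool.false_ne_true
  have ok := k.ord.ok
  have h1 := hQ.1
  have cx := cX
  simp only [Bool.and_eq_true] at cx
  obtain ⟨⟨⟨⟨⟨⟨⟨⟨⟨x1, x2⟩, x3⟩, x4⟩, x5⟩, x6⟩, x7⟩, x8⟩, x9⟩, x10⟩ := cx
  have hl := k.lie
  clear k hQ
  cases hl with
  | psl m =>
    have h2 := ok.1
    have h3 : m ≠ 2 := fun h => h1 (Or.inl (h ▸ rfl))
    have h4 : m ≠ 3 := fun h => h1 (Or.inr (Or.inl (h ▸ rfl)))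
    by_cases hm : m ≤ 10
    · exact S0.of_chk (allR_sound cL (i := m) (by omega) (by omega))
    · exact S0.big (k := 11) le_rfl ⟨by omega, by omega, by omega⟩ (by rw [hh, if_neg h3])
  | psp m =>
    have h2 := ok.1
    by_cases hm : m ≤ 10
    · exact S0.of_chk (allR_sound cS (i := m) (by omega) (by omega))
    · exact S0.big (k := 11) le_rfl ⟨by omega, by omega⟩ (Nat.dvd_lcm_right 2 11)
  | oodd m _ _ h2 ho =>
    by_cases hm : m ≤ 10
    · refine (S true fun _ h => ?_).of_chk (allR_sound cO (i := m) (by omega) (by omega))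
      subst h
      exact Nat.not_odd_iff_even.2 (even_two.pow_of_ne_zero (Nat.one_le_iff_ne_zero.1 S0.D.real.hf)) ho
    · exact S0.big (k := 11) le_rfl ⟨by omega, by omega⟩ (dvd_ite (by norm_num) (by norm_num))
  | psu m =>
    have h2 := ok.1
    have h4 : m ≠ 3 := fun h => h1 (Or.inr (Or.inr (h ▸ rfl)))
    by_cases hm : m ≤ 10
    · exact S0.of_chk (allR_sound cU (i := m) (by omega) (by omega))
    · exact S0.big (k := 22) (by norm_num) ⟨by omega, by omega, by omega⟩ (dvd_refl 11)
  | oplus m =>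
    have h2 : 4 ≤ m := ok
    by_cases hm : m ≤ 10
    · exact S0.of_chk (allR_sound cP (i := m) (by omega) (by omega))
    · exact S0.big (k := 11) le_rfl ⟨by omega, by omega⟩ (dvd_ite (by norm_num) (by norm_num))
  | ominus m =>
    have h2 : 4 ≤ m := ok
    by_cases hm : m ≤ 10
    · exact S0.of_chk (allR_sound cM (i := m) (by omega) (by omega))
    · exact S0.big (k := 22) (by norm_num) ⟨by omega, by omega⟩ (dvd_ite (by norm_num) (by norm_num))
  | g2 => exact S0.of_chk x1
  | f4 => exact S0.of_chk x2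
  | e6 => exact S0.of_chk x3
  | e7 => exact S0.of_chk x4
  | e8 => exact S0.of_chk x5
  | te6 => exact S0.of_chk x6
  | td4 => exact S0.of_chk x7
  | sz => exact S0.of_chk x8
  | ree => exact S0.of_chk x9
  | tf4 => exact S0.of_chk x10

end Cfsg.Agent.N2.Ex.Sm.Df
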