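import Cfsg.Agent.N2.Ex.Sim.Defs
import Cfsg.Agent.H369.PglSpec
import Cfsg.Agent.H648.DG.Psl2Inv
import Cfsg.Agent.H947.Sy.Psl2A

/-!
# N2 (S3519), exceptional groups, simple socle : `(2, 3, n)`-generation of `L₂(q)` (helper78)

* `L2.exists_tr` : a trace which gives the order `n`; `L2.exists_xy` : the pair; `L2.top` : Dickson's list;
* `boxL2`.
-/

set_option autoImplicit false
set_option linter.unusedSectionVars false

namespace Cfsg.Agent.N2.Ex.Sm

open Cfsg Subgroup Matrix Polynomial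
open Cfsg.Agent.H390.PslSpec

namespace L2

theorem six {G : Type*} [Group G] {x y : G} (h2 : x ^ 2 = 1) (h3 : y ^ 3 = 1) (h : x * y = y * x) : (x * y) ^ 6 = 1 := by
  rw [Commute.mul_pow h, show 6 = 2 * 3 from rfl, pow_mul, h2, mul_comm 2 3, pow_mul, h3, one_pow, one_pow, one_mul]

theorem six_dih {k : ℕ} {x y : DihedralGroup k} (h2 : x ^ 2 = 1) (h3 : y ^ 3 = 1) : (x * y) ^ 6 = 1 := by
  rcases y with j | j
  · rcases x with i | i
    · exact six h2 h3 (by rw [DihedralGroup.r_mul_r, DihedralGroup.r_mul_r, add_comm])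
    · rw [DihedralGroup.sr_mul_r, show 6 = 2 * 3 from rfl, pow_mul, pow_two, DihedralGroup.sr_mul_self, one_pow]
  · rw [pow_succ, pow_two, DihedralGroup.sr_mul_self, one_mul, DihedralGroup.one_def] at h3
    cases h3

variable {F : Type} [Field F] [Fintype F] (p : ℕ) [hp : Fact p.Prime] [CharP F p] {n : ℕ}

theorem cop (h : n ∣ Fintype.card F + 1 ∨ n ∣ Fintype.card F - 1) : n.Coprime p := by
  obtain ⟨k, -, hk⟩ := FiniteField.card F p
  have h1 : p ∣ Fintype.card F := hk ▸ dvd_pow_self p k.2.ne'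
  refine (hp.out.coprime_iff_not_dvd.2 fun e => hp.out.one_lt.ne' (Nat.dvd_one.1 ?_)).symm
  rcases h with h | h
  · exact (Nat.dvd_add_right h1).1 (e.trans h)
  · exact (Nat.dvd_add_right (e.trans h)).1 (by rwa [Nat.sub_add_cancel Fintype.card_pos])

include hp in
theorem exists_tr (hn : 7 ≤ n)
    (h : dd (Fintype.card F) * n ∣ Fintype.card F + 1 ∨ dd (Fintype.card F) * n ∣ Fintype.card F - 1) :
    ∃ t : F, t ≠ 0 ∧ ∀ g : SpecialLinearGroup (Fin 2) F, tr (g : Matrix (Fin 2) (Fin 2) F) = t → orderOf (pr F g) = n := by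
  have : CharP (AlgebraicClosure F) p := charP_of_injective_algebraMap (algebraMap F (AlgebraicClosure F)).injective p
  have hd : 0 < dd (Fintype.card F) := Nat.gcd_pos_of_pos_left _ two_pos
  have hne : NeZero ((dd (Fintype.card F) * n : ℕ) : AlgebraicClosure F) :=
    ⟨fun e => hp.out.coprime_iff_not_dvd.1 (cop p h).symm ((CharP.cast_eq_zero_iff _ p _).1 e)⟩
  obtain ⟨u, hu⟩ := HasEnoughRootsOfUnity.exists_primitiveRoot (AlgebraicClosure F) (dd (Fintype.card F) * n)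
  have h1 : orderOf u = dd (Fintype.card F) * n := hu.eq_orderOf.symm
  have h2 : 2 < orderOf u := h1 ▸ (by omega : 2 < n).trans_le (Nat.le_mul_of_pos_left n hd)
  have h0 := ne_zero_of_orderOf h2
  have h3 : ∀ k, u ^ k = 1 ∨ u ^ k = -1 ↔ n ∣ k := fun k => by
    rw [pow_div_iff Fintype.card_pos (fun e => by
      rw [← map_ofNat (algebraMap F (AlgebraicClosure F)) 2, two_eq_zero_of_even (p := p) e, map_zero]) (Dvd.intro _ rfl) h1,
      Nat.mul_div_cancel_left _ hd]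
  obtain ⟨t, ht⟩ : ∃ t : F, algebraMap F (AlgebraicClosure F) t = u + u⁻¹ := mem_range_of_pow_card _ (by
    obtain ⟨k, -, hk⟩ := FiniteField.card F p
    rw [show (u + u⁻¹) ^ Fintype.card F = u ^ Fintype.card F + u⁻¹ ^ Fintype.card F by
      rw [hk]; exact add_pow_char_pow u u⁻¹ p k, inv_pow]
    rcases h with h | h <;> rw [← h1, orderOf_dvd_iff_pow_eq_one] at h
    · rw [eq_inv_of_mul_eq_one_left ((pow_succ u _).symm.trans h), inv_inv, add_comm]
    · rw [← Nat.sub_add_cancel (Fintype.card_pos (α := F)), pow_succ, h, one_mul])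
  refine ⟨t, fun e => ?_, fun g hg => orderOf_eq_of_pow_iff fun k => ?_⟩
  · rw [e, map_zero] at ht
    have := Nat.le_of_dvd two_pos ((h3 2).1 (.inr (by linear_combination -u * ht - mul_inv_cancel₀ h0)))
    omega
  · rw [pr_pow_iff g u h0 (hg ▸ ht) (inv_ne_of_orderOf h2), h3]

theorem exists_ab {t : F} (ht : t ≠ 0) : ∃ a b : F, a ^ 2 + a * b + b ^ 2 - t * b + 1 = 0 := by
  by_cases h2 : (2 : F) = 0
  · exact ⟨1, 0, by linear_combination h2⟩
  by_cases h3 : (3 : F) = 0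
  · exact ⟨t⁻¹, t⁻¹, by linear_combination t⁻¹ ^ 2 * h3 - mul_inv_cancel₀ ht⟩
  obtain ⟨u, b, h⟩ := FiniteField.exists_root_sum_quadratic (f := (X ^ 2 : F[X])) (g := C 3 * X ^ 2 + C (-4 * t) * X + C 4)
    (degree_X_pow 2) (degree_quadratic h3) (Nat.odd_iff.1 ((ClassicalGeometry.PSLTorus.two_ne_zero_iff_odd F).1 h2))
  simp only [eval_add, eval_mul, eval_pow, eval_C, eval_X] at h
  refine ⟨(u - b) / 2, b, mul_left_cancel₀ (mul_ne_zero h2 h2) ?_⟩
  field_simp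
  linear_combination h

theorem exists_xy {t : F} (ht : t ≠ 0) : ∃ x y : SpecialLinearGroup (Fin 2) F, pr F x ^ 2 = 1 ∧ pr F y ^ 3 = 1 ∧
    tr ((x * y : SpecialLinearGroup (Fin 2) F) : Matrix (Fin 2) (Fin 2) F) = t := by
  obtain ⟨a, b, h⟩ := exists_ab ht
  refine ⟨⟨!![a, b; a + b - t, -a], by rw [det_fin_two_of]; linear_combination -h⟩,
    ⟨!![0, -1; 1, -1], by rw [det_fin_two_of]; ring⟩, (pr_pow_eq_one_iff _ _).2 (.inr ?_), (pr_pow_eq_one_iff _ _).2 (.inl ?_), ?_⟩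
  · ext i j
    fin_cases i <;> fin_cases j <;> simp [pow_two, Matrix.mul_apply, Fin.sum_univ_two] <;>
      first | linear_combination h | ring
  · ext i j
    fin_cases i <;> fin_cases j <;> simp [pow_succ, Matrix.mul_apply, Fin.sum_univ_two]
  · show tr (!![a, b; a + b - t, -a] * !![0, -1; 1, -1]) = t
    simp [tr]
    ring

theorem borel (P : Sylow p (ProjectiveSpecialLinearGroup (Fin 2) F))
    {x y : normalizer ((P : Subgroup (ProjectiveSpecialLinearGroup (Fin 2) F)) : Set (ProjectiveSpecialLinearGroup (Fin 2) F))}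
    (h2 : x ^ 2 = 1) (h3 : y ^ 3 = 1) : ∃ k, ((x * y) ^ 6) ^ p ^ k = 1 := by
  obtain ⟨k, hk⟩ := H947.Sy.commutator_mem P x.2 y.2
  have h1 := (IsPGroup.of_card (p := p) (G := zpowers (x * y * x⁻¹ * y⁻¹).1) (n := _) (by
    rw [Nat.card_zpowers]
    exact ((Nat.dvd_prime_pow hp.out).1 (orderOf_dvd_of_pow_eq_one hk)).choose_spec.2)).inf_normalizer_sylow P
  have h4 := (h1.le ⟨mem_zpowers _, (x * y * x⁻¹ * y⁻¹).2⟩).2
  let π := QuotientGroup.mk' ((P : Subgroup (ProjectiveSpecialLinearGroup (Fin 2) F)).subgroupOf (normalizer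
    ((P : Subgroup (ProjectiveSpecialLinearGroup (Fin 2) F)) : Set (ProjectiveSpecialLinearGroup (Fin 2) F))))
  have h5 : π (x * y * x⁻¹ * y⁻¹) = 1 := (QuotientGroup.eq_one_iff _).2 h4
  rw [map_mul, map_mul, map_mul, map_inv, map_inv, mul_inv_eq_one, mul_inv_eq_iff_eq_mul] at h5
  have h6 := six (by rw [← map_pow, h2, map_one]) (by rw [← map_pow, h3, map_one]) h5
  rw [← map_mul, ← map_pow] at h6
  obtain ⟨l, hl⟩ := P.2 ⟨_, mem_subgroupOf.1 ((QuotientGroup.eq_one_iff ((x * y) ^ 6)).1 h6)⟩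
  have h7 := congrArg Subtype.val hl
  exact ⟨l, Subtype.ext h7⟩

theorem top {a : ℕ} (hF : Fintype.card F = p ^ a) (hn : 7 ≤ n) (hc : n.Coprime p)
    (hb : ∀ b, b ∣ a → b < a → ¬ n ∣ p ^ b + 1 ∧ ¬ n ∣ p ^ b - 1) (H : Subgroup (ProjectiveSpecialLinearGroup (Fin 2) F))
    {x y : H} (h2 : x ^ 2 = 1) (h3 : y ^ 3 = 1) (h : orderOf (x * y) = n) : H = ⊤ := by
  have h6 : (x * y) ^ 6 ≠ 1 := fun e => by
    have := Nat.le_of_dvd (by omega) (h ▸ orderOf_dvd_of_pow_eq_one e)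
    omega
  have ho : ∀ {K : Type} [Group K] (e : H ≃* K), orderOf (e (x * y)) = n := fun e => by rw [MulEquiv.orderOf_eq, h]
  rcases S0799.result (F := F) rfl p H with ⟨k, -, ⟨hc, -⟩ | ⟨⟨e⟩⟩⟩ | ⟨P, K, hK, ⟨e⟩⟩ | ⟨⟨e⟩⟩ | ⟨⟨e⟩⟩ | ⟨⟨e⟩⟩ |
    ⟨K, _, _, m, hm, he⟩
  · exact absurd (six h2 h3 (hc.isMulCommutative.is_comm.comm x y)) h6
  · refine absurd (e.injective ?_) h6
    rw [map_pow, map_mul, map_one]
    exact six_dih (by rw [← map_pow, h2, map_one]) (by rw [← map_pow, h3, map_one])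
  · let f := (inclusion hK).comp e.toMonoidHom
    obtain ⟨k, hk⟩ := borel p P (x := f x) (y := f y) (by rw [← map_pow, h2, map_one]) (by rw [← map_pow, h3, map_one])
    rw [← map_mul, ← map_pow, ← map_pow, map_eq_one_iff f ((inclusion_injective hK).comp e.injective), ← pow_mul,
      ← orderOf_dvd_iff_pow_eq_one, h] at hk
    have := Nat.le_of_dvd (by omega) ((hc.pow_right k).dvd_of_dvd_mul_right hk)
    omega
  · have := ho e ▸ H648.DG.Psl2.ord_alt4 _
    omega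
  · have := ho e ▸ H648.DG.Psl2.ord_perm4 _
    omega
  · have := ho e ▸ H648.DG.Psl2.ord_alt5 _
    omega
  have h0 : m ≠ 0 := fun e => by
    rw [e, pow_zero] at hm
    exact Fintype.one_lt_card.ne hm
  obtain ⟨b, h4, h5⟩ := (Nat.dvd_prime_pow hp.out).1 (hF ▸ hm ▸ dvd_pow_self _ h0 : Fintype.card K ∣ p ^ a)
  rcases h4.eq_or_lt with rfl | h4
  · exact H948.PSLMax.eq_top_of_card_eq H (h5.trans hF.symm) he
  have h7 := hb b ⟨m, Nat.pow_right_injective hp.out.two_le (show p ^ a = p ^ (b * m) by rw [← hF, ← hm, h5, pow_mul])⟩ h4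
  have : CharP K p := charP_of_card_eq_prime_pow h5
  have h8 : ¬ n ∣ p := fun e => by
    have := Nat.eq_one_of_dvd_coprimes hc dvd_rfl e
    omega
  rw [← h5] at h7
  rcases he with ⟨⟨e⟩⟩ | ⟨⟨e⟩⟩
  · obtain ⟨g, hg⟩ := pr_surjective (e (x * y))
    have h9 := order_dvd (p := p) g
    rw [hg, ho] at h9
    rcases h9 with h9 | h9 | h9
    exacts [absurd h9 h8, absurd (h9.trans (Nat.div_dvd_of_dvd (dd_dvd_sub _))) h7.2,
      absurd (h9.trans (Nat.div_dvd_of_dvd (dd_dvd_add Fintype.card_pos))) h7.1]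
  · have h9 : orderOf (e (x * y)) ∣ p ∨ orderOf (e (x * y)) ∣ _ ∨ orderOf (e (x * y)) ∣ _ := H369.Pgl.order_pgl p (e (x * y))
    rw [ho] at h9
    rcases h9 with h9 | h9 | h9
    exacts [absurd h9 h8, absurd h9 h7.2, absurd h9 h7.1]

end L2

/-- **[L2]** -/
theorem boxL2 : BoxL2 := by
  intro s a n N _ h hn hd hb
  obtain ⟨F, _, _, hF, ⟨e⟩⟩ := h.real
  have : Fact s.Prime := ⟨h.ord.hp⟩
  have : CharP F s := charP_of_card_eq_prime_pow hF
  rw [← hF] at hd
  obtain ⟨t, ht, h1⟩ := L2.exists_tr (F := F) s hn hd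
  obtain ⟨x, y, h2, h3, h4⟩ := L2.exists_xy ht
  have h5 := h1 _ h4
  rw [map_mul] at h5
  refine Tr.congr e.symm ⟨pr F x, pr F y, h2, h3, h5 ▸ pow_orderOf_eq_one _, ?_⟩
  exact L2.top s hF hn (L2.cop (F := F) s (hd.imp (Dvd.intro_left _ rfl).trans (Dvd.intro_left _ rfl).trans)) hb _
    (x := ⟨_, subset_closure (.inl rfl)⟩) (y := ⟨_, subset_closure (.inr rfl)⟩) (Subtype.ext h2) (Subtype.ext h3)
    ((orderOf_coe _).symm.trans h5)

end Cfsg.Agent.N2.Ex.Sm
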