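import Cfsg.Agent.N2.Ex.Sim.Defs
import Cfsg.Agent.N2.Ex.Sim.L3A

/-!
# N2 (S3519), box `L3`: `(2, n, n)`-generation of `L₃(q)` with Singer cycles (helper92)
-/

set_option autoImplicit false

namespace Cfsg.Agent.N2.Ex.Sm

theorem boxL3 : BoxL3 := fun s a N _ h _ h4 => by
  obtain ⟨F, _, _, hF, ⟨e⟩⟩ := h.real
  rw [← hF] at h4 ⊢
  obtain ⟨x, y, w, h1, h2, h3, h5⟩ := LT.gen h4
  let π := QuotientGroup.mk' (Subgroup.center (Matrix.SpecialLinearGroup (Fin 3) F))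
  have h6 : π y ^ ((Fintype.card F ^ 2 + Fintype.card F + 1) / Nat.gcd 3 (Fintype.card F - 1)) = 1 := by
    rw [← map_pow]
    exact (QuotientGroup.eq_one_iff _).2 h3
  refine Tr.congr e.symm ⟨π x, π y, by rw [← map_pow, h1, map_one], h6, ?_,
    Tg.closure_pair_map π (QuotientGroup.mk'_surjective _) h5⟩
  rw [← map_mul, h2, map_mul, map_mul, map_inv, map_inv, conj_pow, inv_pow, h6, inv_one, mul_one, mul_inv_cancel]

end Cfsg.Agent.N2.Ex.Sm
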