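import Mathlib

/-!
# N2, box R2: linear algebra (helper53)

* `det_pos` : `det (x - A) > 0` for `A` of finite order, `x > 1`;
* `sum_eq` : the mean of `det (q - w g)` over a reflection group of corank two;
* `two_le` : the determinant on the quotient.
-/

set_option autoImplicit false
set_option linter.unusedSectionVars false

namespace Cfsg.Agent.N2.Ex.Sm.R2

open Matrix

variable {R : Type} [Fintype R] [DecidableEq R]

theorem det_pos_real {A : Matrix R R ℝ} {N : ℕ} (hN : 0 < N) (h : A ^ N = 1) {x : ℝ} (hx : 1 < x) :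
    0 < (x • (1 : Matrix R R ℝ) - A).det := by
  have h1 : ∀ s ∈ Set.Icc (0 : ℝ) 1, (x • (1 : Matrix R R ℝ) - s • A).det ≠ 0 := fun s hs h0 => by
    have h2 := congrArg Matrix.det (Commute.mul_geom_sum₂ (x := x • (1 : Matrix R R ℝ)) (y := s • A)
      ((Commute.one_left _).smul_left x) N)
    rw [det_mul, h0, zero_mul, smul_pow, smul_pow, one_pow, h, ← sub_smul, det_smul, det_one, mul_one] at h2
    have h3 : s ^ N < x ^ N := (pow_le_one₀ hs.1 hs.2).trans_lt (one_lt_pow₀ hx hN.ne')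
    exact pow_ne_zero _ (sub_pos.2 h3).ne' h2.symm
  by_contra h2
  have h3 : ContinuousOn (fun s : ℝ => (x • (1 : Matrix R R ℝ) - s • A).det) (Set.Icc 0 1) :=
    (Continuous.matrix_det (continuous_const.sub (continuous_id.smul continuous_const))).continuousOn
  obtain ⟨s, hs, h4⟩ := intermediate_value_Icc' zero_le_one h3 (a := 0) (b := 1) (show (0 : ℝ) ∈ _ from ⟨by
    simpa using h2, by
    simp only [zero_smul, sub_zero, det_smul, det_one, mul_one]
    positivity⟩)
  exact h1 s hs h4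

theorem det_pos {A : Matrix R R ℤ} {N : ℕ} (hN : 0 < N) (h : A ^ N = 1) {q : ℤ} (hq : 1 < q) :
    0 < (q • (1 : Matrix R R ℤ) - A).det := by
  have h1 := det_pos_real (A := (Int.castRingHom ℝ).mapMatrix A) hN (by rw [← map_pow, h, map_one]) (x := q)
    (by exact_mod_cast hq)
  have h2 : (q : ℝ) • (1 : Matrix R R ℝ) - (Int.castRingHom ℝ).mapMatrix A =
      (Int.castRingHom ℝ).mapMatrix (q • (1 : Matrix R R ℤ) - A) := by
    rw [map_sub, map_zsmul, map_one, Int.cast_smul_eq_zsmul]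
  rw [h2, ← RingHom.map_det, eq_intCast] at h1
  exact_mod_cast h1

theorem det_affine (X : Matrix R R ℤ) (b x z : R → ℤ) :
    (X - vecMulVec b x).det + (X - vecMulVec b (z - x)).det = (X - vecMulVec b 0).det + (X - vecMulVec b z).det := by
  have h : ∀ x : R → ℤ, (X - vecMulVec b x).det =
      ((fromBlocks X (replicateCol Unit b) 0 1).updateRow (Sum.inr ()) (Sum.elim x 1)).det := fun x => by
    rw [vecMulVec_eq Unit, ← det_fromBlocks_one₂₂]
    congr 1
    ext (i | i) (j | j) <;> simp [updateRow_apply]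
  rw [h, h, h, h, ← det_updateRow_add, ← det_updateRow_add]
  congr 2
  ext (i | i) <;> simp

variable {W : Type} [Group W] [Fintype W] (B : W →* Matrix R R ℤ) (M : Matrix R R ℤ)

theorem sum_step {s : W} {c a : R → ℤ} (hs : B s = 1 - vecMulVec c a) (hac : a ⬝ᵥ c = 2) (V : Matrix R R ℤ) (x : R → ℤ) :
    ∑ w, (M - B w * (V + vecMulVec c x)).det = ∑ w, (M - B w * V).det := by
  have h1 : ∀ w x, (M - B w * (V + vecMulVec c x)).det = (M - B w * V - vecMulVec (B w *ᵥ c) x).det := fun w x => by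
    rw [mul_add, mul_vecMulVec, sub_sub]
  have h2 : ∀ w x, (M - B (w * s) * (V + vecMulVec c x)).det =
      (M - B w * V - vecMulVec (B w *ᵥ c) (-(a ᵥ* V) - x)).det := fun w x => by
    rw [← h1, map_mul, mul_assoc, hs]
    congr 3
    rw [sub_mul, one_mul, mul_add, vecMulVec_mul, vecMulVec_mul_vecMulVec, hac]
    ext i j
    simp only [Matrix.add_apply, Matrix.sub_apply, vecMulVec_apply, Pi.sub_apply, Pi.neg_apply, Pi.smul_apply, smul_eq_mul]
    ring
  have h3 : ∀ x, 2 * ∑ w, (M - B w * (V + vecMulVec c x)).det = ∑ w, ((M - B w * V - vecMulVec (B w *ᵥ c) 0).det +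
      (M - B w * V - vecMulVec (B w *ᵥ c) (-(a ᵥ* V))).det) := fun x => by
    rw [two_mul]
    conv_lhs => enter [2]; rw [← Equiv.sum_comp (Equiv.mulRight s)]
    rw [← Finset.sum_add_distrib]
    exact Finset.sum_congr rfl fun w _ => by rw [Equiv.coe_mulRight, h1, h2, det_affine]
  have h4 := (h3 x).trans (h3 0).symm
  rw [vecMulVec_zero, add_zero] at h4
  exact mul_left_cancel₀ two_ne_zero h4

variable {Ψ : Set (R → ℤ)} (hs : ∀ c ∈ Ψ, ∃ s a, B s = 1 - vecMulVec c a ∧ a ⬝ᵥ c = 2)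
include hs

theorem sum_closure {c : R → ℤ} (hc : c ∈ AddSubgroup.closure Ψ) (V : Matrix R R ℤ) (x : R → ℤ) :
    ∑ w, (M - B w * (V + vecMulVec c x)).det = ∑ w, (M - B w * V).det := by
  induction hc using AddSubgroup.closure_induction generalizing V x with
  | mem c hc =>
    obtain ⟨s, a, h1, h2⟩ := hs c hc
    exact sum_step B M h1 h2 V x
  | zero => rw [zero_vecMulVec, add_zero]
  | add c d _ _ h1 h2 => rw [add_vecMulVec, ← add_assoc, h2, h1]
  | neg c _ h => rw [neg_vecMulVec, ← vecMulVec_neg, h]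

theorem sum_cols {X : Matrix R R ℤ} (hX : ∀ j, Xᵀ j ∈ AddSubgroup.closure Ψ) (V : Matrix R R ℤ) :
    ∑ w, (M - B w * (V + X)).det = ∑ w, (M - B w * V).det := by
  have h : ∀ J : Finset R, ∑ w, (M - B w * (V + ∑ j ∈ J, vecMulVec (Xᵀ j) (Pi.single j 1))).det =
      ∑ w, (M - B w * V).det := by
    intro J
    induction J using Finset.induction_on with
    | empty => simp
    | insert i J hi ih =>
      rw [Finset.sum_insert hi, add_comm (vecMulVec _ _), ← add_assoc, sum_closure B M hs (hX i), ih]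
  rw [← h Finset.univ, show X = ∑ j, vecMulVec (Xᵀ j) (Pi.single j 1) from ?_]
  · congr! 8
    ext i j
    simp [Matrix.sum_apply, vecMulVec_apply, Pi.single_apply]
  · ext i j
    simp [Matrix.sum_apply, vecMulVec_apply, Pi.single_apply]

omit hs in
theorem proj_eq {S : Type} [Fintype S] [DecidableEq S] {π : Matrix S R ℤ} {κ : Matrix R S ℤ} (h : π * κ = 1)
    {V : Matrix R R ℤ} (hV : ∀ x, π *ᵥ x = 0 → π *ᵥ (V *ᵥ x) = 0) : π * V * κ * π = π * V := by
  refine Matrix.ext_of_mulVec_single fun j => ?_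
  have h1 := hV ((1 - κ * π) *ᵥ Pi.single j 1) (by
    rw [mulVec_mulVec, Matrix.mul_sub, Matrix.mul_one, ← Matrix.mul_assoc, h, Matrix.one_mul, sub_self, zero_mulVec])
  rw [mulVec_mulVec, mulVec_mulVec, Matrix.mul_sub, Matrix.mul_one, sub_mulVec, sub_eq_zero, ← Matrix.mul_assoc] at h1
  exact h1.symm

/-- **The mean.** -/
theorem sum_eq {S : Type} [Fintype S] [DecidableEq S] {π : Matrix S R ℤ} {κ : Matrix R S ℤ} (h : π * κ = 1)
    (hE : ∀ x, π *ᵥ x = 0 → x ∈ AddSubgroup.closure Ψ) (hB : ∀ w, π * B w = π) {V : Matrix R R ℤ}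
    (hV : ∀ x, π *ᵥ x = 0 → π *ᵥ (V *ᵥ x) = 0) (hS : Fintype.card S ≤ Fintype.card R) (q : ℤ) :
    ∑ w, (q • (1 : Matrix R R ℤ) - B w * V).det =
      Fintype.card W * (q ^ (Fintype.card R - Fintype.card S) * (q • (1 : Matrix S S ℤ) - π * V * κ).det) := by
  have h1 := sum_cols B (q • 1) hs (X := (1 - κ * π) * V) (fun j => hE _ (by
    have h2 : π * ((1 - κ * π) * V) = 0 := by
      rw [← Matrix.mul_assoc, Matrix.mul_sub, Matrix.mul_one, ← Matrix.mul_assoc, h, Matrix.one_mul, sub_self,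
        Matrix.zero_mul]
    funext i
    exact congrFun (congrFun h2 i) j)) (κ * π * V)
  rw [← add_mul, add_sub_cancel, one_mul] at h1
  rw [h1, ← nsmul_eq_mul, ← Finset.card_univ, ← Finset.sum_const]
  refine Finset.sum_congr rfl fun w _ => ?_
  have h2 := congrArg (Polynomial.eval q) (charpoly_mul_comm_of_le (B w * κ) (π * V) hS)
  rw [Polynomial.eval_mul, Polynomial.eval_pow, Polynomial.eval_X, eval_charpoly, eval_charpoly, scalar_apply, scalar_apply,
    ← smul_one_eq_diagonal, ← smul_one_eq_diagonal, ← Matrix.mul_assoc (π * V), ← proj_eq h hV, Matrix.mul_assoc _ π (B w), hB,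
    proj_eq h hV] at h2
  rw [← h2]
  simp only [Matrix.mul_assoc]

omit hs in
theorem pow_proj {S : Type} [Fintype S] [DecidableEq S] {π : Matrix S R ℤ} {κ : Matrix R S ℤ} (h : π * κ = 1)
    {V : Matrix R R ℤ} (hV : ∀ x, π *ᵥ x = 0 → π *ᵥ (V *ᵥ x) = 0) {N : ℕ} (hN : V ^ N = 1) : (π * V * κ) ^ N = 1 := by
  have h1 : ∀ n : ℕ, (π * V * κ) ^ n * π = π * V ^ n := fun n => by
    induction n with
    | zero => rw [pow_zero, pow_zero, Matrix.one_mul, Matrix.mul_one]
    | succ n ih => rw [pow_succ, Matrix.mul_assoc, proj_eq h hV, ← Matrix.mul_assoc, ih, pow_succ, Matrix.mul_assoc]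
  rw [← Matrix.mul_one (_ ^ N), ← h, ← Matrix.mul_assoc, h1, hN, Matrix.mul_one]

omit hs in
/-- **The quotient.** -/
theorem two_le {A : Matrix (Fin 2) (Fin 2) ℤ} {N : ℕ} (hN : 0 < N) (h : A ^ N = 1) {r : ℕ} [Fact r.Prime] {k : ZMod r}
    (hk : orderOf k = 3) {v : Fin 2 → ZMod r} (hv : v ≠ 0) (h1 : v ᵥ* (Int.castRingHom (ZMod r)).mapMatrix A = k • v)
    {q : ℤ} (hq : 0 ≤ q) : (q • (1 : Matrix (Fin 2) (Fin 2) ℤ) - A).det ≤ q ^ 2 + q + 1 := by
  have h2 : A.det ≤ 1 := by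
    have h3 := congrArg Matrix.det h
    rw [det_pow, det_one] at h3
    rcases Int.isUnit_iff.1 (IsUnit.of_pow_eq_one h3 hN.ne') with e | e <;> omega
  have h3 := det_pos_real (A := -(Int.castRingHom ℝ).mapMatrix A) (N := 2 * N) (by omega)
    (by rw [pow_mul, neg_sq, ← pow_mul, mul_comm, pow_mul, ← map_pow, h, map_one, one_pow]) (x := 3 / 2) (by norm_num)
  have h4 : (k • (1 : Matrix (Fin 2) (Fin 2) (ZMod r)) - (Int.castRingHom (ZMod r)).mapMatrix A).det = 0 :=
    exists_vecMul_eq_zero_iff.1 ⟨v, hv, by rw [vecMul_sub, h1, vecMul_smul, vecMul_one, sub_self]⟩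
  simp only [det_fin_two, Matrix.sub_apply, Matrix.smul_apply, one_apply_eq, one_apply_ne (show (0 : Fin 2) ≠ 1 by decide),
    one_apply_ne (show (1 : Fin 2) ≠ 0 by decide), smul_eq_mul, mul_one, mul_zero, RingHom.mapMatrix_apply, map_apply,
    Matrix.neg_apply, eq_intCast] at h2 h3 h4 ⊢
  have h5 : 0 < (3 + 2 * A 0 0) * (3 + 2 * A 1 1) - 4 * (A 0 1 * A 1 0) := by
    have : (0 : ℝ) < (3 + 2 * A 0 0) * (3 + 2 * A 1 1) - 4 * (A 0 1 * A 1 0) := by linarith
    exact_mod_cast this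
  have h6 : -1 ≤ A 0 0 + A 1 1 := by
    by_contra h7
    obtain ⟨d, hd⟩ : ∃ d, d = A 0 0 * A 1 1 - A 0 1 * A 1 0 := ⟨_, rfl⟩
    have h8 : 0 < 9 + 6 * (A 0 0 + A 1 1) + 4 * d := by rw [hd]; linarith
    have h9 : A 0 0 + A 1 1 = -2 := by omega
    have h10 : d = 1 := by omega
    have h11 := congrArg (Int.cast : ℤ → ZMod r) h9
    have h12 := congrArg (Int.cast : ℤ → ZMod r) (hd.symm.trans h10)
    push_cast at h11 h12
    have h13 : (k + 1) ^ 2 = 0 := by linear_combination h4 + k * h11 - h12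
    have h14 : k ^ 2 = 1 := by rw [eq_neg_of_add_eq_zero_left (pow_eq_zero_iff two_ne_zero |>.1 h13), neg_sq, one_pow]
    have h15 := orderOf_dvd_of_pow_eq_one h14
    rw [hk] at h15
    omega
  nlinarith

end Cfsg.Agent.N2.Ex.Sm.R2
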