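import Cfsg.Agent.N2.Ex.Cb.Ref
import Cfsg.Agent.N2.Ex.Sim.R2A

/-!
# N2, box R2: the order of a finite reductive group and the mean of the orders of its tori (helper53)

* `mean` : `|W| |G^F| ≤ |G^F|_p ^ 2 ∑ |T_w^F|`;
* `card_DZ_two` : centralisers of corank two.
-/

set_option autoImplicit false
set_option linter.unusedSectionVars false

namespace Cfsg.Agent.N2.Ex.Sm.R2

open Cfsg.Agent.N2.Ex.Cb

theorem sum_fib {X Y : Type*} [Fintype X] [Fintype Y] (f : X → Y) (g : Y → ℕ) :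
    ∑ x, g (f x) = ∑ y, Nat.card {x // f x = y} * g y := by
  classical
  rw [← Finset.sum_fiberwise Finset.univ f]
  refine Finset.sum_congr rfl fun y _ => ?_
  rw [Finset.sum_congr rfl fun x hx => congrArg g (Finset.mem_filter.1 hx).2, Finset.sum_const, smul_eq_mul,
    Nat.card_eq_fintype_card, Fintype.card_subtype]

section Dat

open Cfsg.Agent.DL Cfsg.Agent.DL.Asm Cfsg.Agent.DL.Uni Cfsg.Agent.Nodes.Reps Cfsg.Agent.SB.Exc Cfsg.Agent.DL.St

variable {p : ℕ} [Fact p.Prime] {k : Type} [Field k] [CharP k p] {Y : Type} [Group Y] {N : Type} [Fintype N]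
  [DecidableEq N] {ρ : Y →* GL N k} {F : MulAut Y} {G : Subgroup Y} [IsAlgClosed k]

theorem card_fib (D : Datum p ρ F G) (w : D.W) :
    Nat.card {y : Zf D // D.pr (y.1⁻¹ * F y.1) = w} = Nat.card (GF F G) := by
  obtain ⟨x, hx, e⟩ := D.lang_G (D.NN_le_G (rp_mem D w))
  refine Eq.trans (Nat.card_congr ?_) (card_lang F.toMonoidHom hx e)
  refine ⟨fun y => ⟨y.1.1, y.1.2.1, ?_⟩, fun y => ⟨⟨y.1, y.2.1, w, y.2.2.symm⟩, ?_⟩, fun _ => rfl, fun _ => rfl⟩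
  · obtain ⟨⟨y, h1, v, h2⟩, h3⟩ := y
    dsimp only at h3 ⊢
    rw [h2, pr_rp] at h3
    rw [← h3]
    exact h2.symm
  · have h : rp D w = y.1⁻¹ * F y.1 := y.2.2
    show D.pr (y.1⁻¹ * F y.1) = w
    rw [← h, pr_rp]

/-- **The mean.** -/
theorem mean (D : Datum p ρ F G) [Fintype D.W] :
    Fintype.card D.W * Nat.card (GF F G) ≤ pc p (GF F G) ^ 2 * ∑ w, (D.Wm w * D.Mx - 1).det.natAbs := by
  have S := sys_of Mk.mackey subBox D
  obtain ⟨χ, hSt⟩ := St.stD D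
  have := finite_Zf D
  have := Fintype.ofFinite (Zf D)
  have := S.finH
  let _ : Fintype (tori D) := (finite_tori D).fintype
  have h1 := sum_fib (Zf.tor D) fun T => Nat.card ↥(T.1 ⊓ GF F G)
  have h2 := sum_fib (fun y : Zf D => D.pr (y.1⁻¹ * F y.1)) fun w => (D.Wm w * D.Mx - 1).det.natAbs
  have h3 : ∀ y : Zf D, Nat.card ↥((Zf.tor D y).1 ⊓ GF F G) = (D.Wm (D.pr (y.1⁻¹ * F y.1)) * D.Mx - 1).det.natAbs :=
    fun y => D.card_cj_TF y.2.1 (D.rp_pr (Zf.mem D y))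
  simp only [h3, h2, card_fib, card_fiber_tor, mul_assoc, ← Finset.mul_sum, ← sq, Nat.card_eq_fintype_card (α := D.W)] at h1
  have h4 := St.count D
  rw [← finsum_set_coe_eq_finsum_mem, finsum_eq_sum_of_fintype] at h4
  have h5 := sq_sum_le_card_mul_sum_sq (s := Finset.univ) (f := fun T : tori D => Nat.card ↥(T.1 ⊓ GF F G))
  have h6 : (Finset.univ : Finset (tori D)).card = pc p (GF F G) ^ 2 := by
    rw [← hSt.card_tori S, Finset.card_univ, ← Nat.card_eq_fintype_card, Nat.card_coe_set_eq, Set.ncard_eq_toFinset_card _ S.finA]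
    rfl
  rw [h4, h6] at h5
  refine Nat.le_of_mul_le_mul_left ?_ (Nat.card_pos (α := GF F G))
  rw [mul_left_comm, ← sq, mul_left_comm, h1, mul_left_comm]
  exact Nat.mul_le_mul_left _ h5

theorem mean_cen (D : Datum p ρ F G) {Z : Set Y} (hZ : Z ⊆ D.T) (hF : ∀ a ∈ D.Sz Z, D.g a ∈ D.Sz Z)
    [Fintype (D.sub hZ hF rfl).W] :
    Fintype.card (D.sub hZ hF rfl).W * Nat.card (GF F (D.cen Z)) ≤ pc p (GF F (D.cen Z)) ^ 2 *
      ∑ v : (D.sub hZ hF rfl).W, (D.Wm (D.subW Z v) * D.Mx - 1).det.natAbs := by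
  refine (mean (D.sub hZ hF rfl)).trans_eq (congrArg _ (Finset.sum_congr rfl fun v _ => ?_))
  rw [Wm_sub]

end Dat

open CoxeterSystem Cfsg Cfsg.Lie Cfsg.Lie.ChevalleyDatum
open Cfsg.Agent.ChevalleyStructure Cfsg.Agent.ChevalleyStructure.Elts Cfsg.Agent.ChevalleyStructure.CoxeterGeom
  Cfsg.Agent.ChevalleyStructure.CoxeterGeomTypes
open Cfsg.Agent.Tits.Roots Cfsg.Agent.Tits.Core Cfsg.Agent.Nodes Cfsg.Agent.Nodes.Reps Cfsg.Agent.Nodes.BNOf
  Cfsg.Agent.Nodes.RGDChev Cfsg.Agent.Nodes.Bruhat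
open Cfsg.Agent.KFacts.RgdField Cfsg.Agent.KFacts.RgdChevCoord
open Cfsg.Agent.BpExc Cfsg.Agent.BpExc.TorCent Cfsg.Agent.BpExc.TorChev Cfsg.Agent.BpExc.Tow
  Cfsg.Agent.BpExc.TowChev Cfsg.Agent.BpExc.Fr Cfsg.Agent.BpExc.LangFr
open Cfsg.Agent.H469.Exc Cfsg.Agent.H795.SetCent Cfsg.Agent.H129.TorusChar Cfsg.Agent.DS.Ex
open Cfsg.Agent.H931.KC Cfsg.Agent.DS.Nt Cfsg.Agent.H316.U6 Cfsg.Agent.SB.Exc Cfsg.Agent.Nodes.Coroot Matrix

variable {D : ChevalleyDatum} {l : ℕ} {M : CoxeterMatrix (Fin l)} {hp : IsType D l M} {p : ℕ} [Fact p.Prime]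
  {e : ℕ} {σ : MulAut (YY D p)} {g : (Fin l → ℤ) ≃+ (Fin l → ℤ)}

theorem mulVec_mat (u : (Fin l → ℤ) →+ (Fin l → ℤ)) (x : Fin l → ℤ) : (mat u)ᵀ *ᵥ x = u x := by
  rw [mulVec_transpose, vecMul_mat]

theorem exists_perm (u : (Fin l → ℤ) ≃+ (Fin l → ℤ))
    (hu : ∀ a, IsRoot M.toCoxeterSystem hp.isCartan (u a) ↔ IsRoot M.toCoxeterSystem hp.isCartan a) :
    ∃ ρ : Equiv.Perm (Fin D.nroots), ∀ s, vec D l (ρ s) = u (vec D l s) := by
  have h1 : ∀ s : Fin D.nroots, ∃ s' : Fin D.nroots, vec D l s' = u (vec D l s) := fun s => by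
    obtain ⟨s', h, h'⟩ := (isRoot_iff hp M.toCoxeterSystem _).1 ((hu _).2 (isRoot_vec hp _ s.2))
    exact ⟨⟨s', h⟩, h'⟩
  choose f hf using h1
  have hinj : Function.Injective f := fun s t h =>
    Fin.ext (vec_inj hp s.2 t.2 (u.injective (by rw [← hf, ← hf, h])))
  exact ⟨Equiv.ofBijective f (Finite.injective_iff_bijective.1 hinj), hf⟩

theorem exists_pow (u : (Fin l → ℤ) ≃+ (Fin l → ℤ))
    (hu : ∀ a, IsRoot M.toCoxeterSystem hp.isCartan (u a) ↔ IsRoot M.toCoxeterSystem hp.isCartan a) :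
    ∃ N, 0 < N ∧ (mat u)ᵀ ^ N = 1 := by
  obtain ⟨ρ, hρ⟩ := exists_perm (hp := hp) u hu
  have h1 : ∀ (n : ℕ) (s : Fin D.nroots), ((mat u)ᵀ ^ n) *ᵥ vec D l s = vec D l ((ρ ^ n) s) := fun n s => by
    induction n with
    | zero => rw [pow_zero, one_mulVec, pow_zero, Equiv.Perm.one_apply]
    | succ n ih =>
      rw [pow_succ', ← mulVec_mulVec, ih, pow_succ', Equiv.Perm.mul_apply, hρ]
      exact mulVec_mat u.toAddMonoidHom _
  refine ⟨orderOf ρ, orderOf_pos ρ, Matrix.ext_of_mulVec_single fun i => ?_⟩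
  obtain ⟨s, h, h'⟩ := (isRoot_iff hp M.toCoxeterSystem _).1 (isRoot_sr M.toCoxeterSystem hp.isCartan i)
  have h2 := h1 (orderOf ρ) ⟨s, h⟩
  rw [pow_orderOf_eq_one, Equiv.Perm.one_apply, h'] at h2
  rw [one_mulVec]
  exact h2

variable (hp) in
/-- the matrices of the Weyl group -/
noncomputable def wm : M.Group →* Matrix (Fin l) (Fin l) ℤ where
  toFun w := (mat (rep M.toCoxeterSystem hp.isCartan w))ᵀ
  map_one' := by
    rw [map_one]
    exact (congrArg transpose mat_id).trans transpose_one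
  map_mul' v w := by
    rw [← transpose_mul, map_mul]
    exact congrArg transpose (mat_mul _ (rep M.toCoxeterSystem hp.isCartan v).toAddMonoidHom).symm

theorem wm_mulVec (w : M.Group) (x : Fin l → ℤ) : wm hp w *ᵥ x = rep M.toCoxeterSystem hp.isCartan w x :=
  mulVec_mat (rep M.toCoxeterSystem hp.isCartan w).toAddMonoidHom x

theorem tord_cast (hg : ∀ a, IsRoot M.toCoxeterSystem hp.isCartan (g a) ↔ IsRoot M.toCoxeterSystem hp.isCartan a) {q : ℕ}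
    (hq : 1 < q) (w : M.Group) : (tord q (fun x => rep M.toCoxeterSystem hp.isCartan w (g x)) : ℤ) =
      ((q : ℤ) • (1 : Matrix (Fin l) (Fin l) ℤ) - wm hp w * (mat g)ᵀ).det := by
  have h1 : wm hp w * (mat g)ᵀ = (mat (g.trans (repAut M.toCoxeterSystem hp.isCartan w)))ᵀ :=
    (transpose_mul _ _).symm.trans (congrArg transpose (mat_mul g (rep M.toCoxeterSystem hp.isCartan w).toAddMonoidHom))
  obtain ⟨N, h2, h3⟩ := exists_pow (hp := hp) (g.trans (repAut M.toCoxeterSystem hp.isCartan w)) fun a => by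
    rw [AddEquiv.trans_apply, repAut_apply, ← hg a]
    exact ⟨fun h => by simpa only [rep_inv_apply] using h.act w⁻¹, fun h => h.act w⟩
  rw [h1, ← Int.natAbs_of_nonneg (det_pos h2 h3 (q := q) (by exact_mod_cast hq)).le, ← det_transpose, transpose_sub,
    transpose_smul, transpose_one, transpose_transpose]
  rfl

/-- **Centralisers of corank two.** -/
theorem card_DZ_two (he : 0 < e) (hσ : IsFrob p e σ)
    (Φ : Fr M.toCoxeterSystem hp.isCartan (TT D (KK p)) (XX D l (KK p)) σ g) {Z : Set (YY D p)}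
    (hZ : Z ⊆ TT D (KK p)) (hF : ∀ a ∈ Ps hp p Z, g a ∈ Ps hp p Z) {π : Matrix (Fin 2) (Fin l) ℤ} {κ : Matrix (Fin l) (Fin 2) ℤ}
    (h : π * κ = 1) (hE : ∀ x, π *ᵥ x = 0 ↔ x ∈ AddSubgroup.closure (Ps hp p Z)) (hl : 2 ≤ l) {b : ℕ}
    (hb : (((p ^ e : ℕ) : ℤ) • (1 : Matrix (Fin 2) (Fin 2) ℤ) - π * (mat g)ᵀ * κ).det ≤ b) :
    Nat.card ↥(DL.fix σ ⊓ DZ hp p Z) ≤ (p ^ e) ^ (Ps hp p Z).ncard * ((p ^ e) ^ (l - 2) * b) := by
  have := finW hp
  let D₀ := DL.Ex.chevFr hp (locFin p) he hσ Φ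
  have hS : D₀.Sz Z = Ps hp p Z := Sz_eq he hσ Φ hZ
  have hC : D₀.cen Z = DZ hp p Z := by
    have h0 : D₀.cen Z = D₀.T ⊔ D₀.S (Ps hp p Z) := congrArg (fun A => D₀.T ⊔ D₀.S A) hS
    exact h0.trans (sup_comm _ _)
  have hF' : ∀ a ∈ D₀.Sz Z, D₀.g a ∈ D₀.Sz Z := by
    rw [hS]
    exact hF
  have := @Fintype.ofFinite _ (D₀.sub hZ hF' rfl).fW
  have h1 := mean_cen D₀ hZ hF'
  let φ : (D₀.sub hZ hF' rfl).W →* M.Group := D₀.subW Z
  have hφ : φ.range = Subgroup.closure (D₀.rf '' D₀.Sz Z) := D₀.range_subW (Z := Z)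
  have h4 := sum_eq ((wm hp).comp φ) (Ψ := Ps hp p Z) (fun c hc => by
      have hc' : c ∈ D₀.Sz Z := hS ▸ hc
      obtain ⟨s, hs⟩ : D₀.rf c ∈ φ.range := hφ ▸ Subgroup.subset_closure ⟨c, hc', rfl⟩
      let f : (Fin l → ℤ) →+ ℤ := AddMonoidHom.mk' (fun x => cpr M.toCoxeterSystem hp.isCartan x c)
        fun x y => cpr_add _ _ x y hc.1
      have h5 : ∀ x, (fun i => f (sr i)) ⬝ᵥ x = f x := fun x => by
        rw [dotProduct_comm]
        exact (eq_psi f x).symm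
      refine ⟨s, fun i => f (sr i), Matrix.ext_of_mulVec_single fun i => ?_, (h5 c).trans (cpr_self _ _ hc.1)⟩
      rw [MonoidHom.comp_apply, wm_mulVec, sub_mulVec, one_mulVec, vecMulVec_mulVec, h5, op_smul_eq_smul, hs]
      exact D₀.act_rf hc'.1 _) h (fun x => (hE x).1) (fun v => Matrix.ext_of_mulVec_single fun i => by
      rw [← mulVec_mulVec, MonoidHom.comp_apply, wm_mulVec, ← sub_eq_zero, ← mulVec_sub, hE]
      refine sub_mem_of_WP (Subgroup.closure_mono ?_ (hφ ▸ ⟨v, rfl⟩ : φ v ∈ Subgroup.closure (D₀.rf '' D₀.Sz Z))) _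
      rintro _ ⟨a, ha, rfl⟩
      exact ⟨a, hS ▸ ha, D₀.act_rf ha.1⟩) (V := (mat g)ᵀ) (fun x hx => by
      rw [show (mat g)ᵀ *ᵥ x = g x from mulVec_mat g.toAddMonoidHom x, hE]
      exact (AddSubgroup.closure_le ((AddSubgroup.closure (Ps hp p Z)).comap g.toAddMonoidHom)).2
        (fun a ha => AddSubgroup.subset_closure (hF a ha)) ((hE x).1 hx)) (by simpa using hl) (p ^ e : ℕ)
  have h5 : ∑ v : (D₀.sub hZ hF' rfl).W, (D₀.Wm (D₀.subW Z v) * D₀.Mx - 1).det.natAbs ≤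
      Fintype.card (D₀.sub hZ hF' rfl).W * ((p ^ e) ^ (l - 2) * b) := by
    rw [← Nat.cast_le (α := ℤ), Nat.cast_sum]
    refine ((Finset.sum_congr rfl fun v _ => (congrArg _ (det_chevFr (hp := hp) he hσ Φ (φ v))).trans
      (tord_cast (hp := hp) Φ.root (Nat.one_lt_pow he.ne' (Fact.out : p.Prime).one_lt) (φ v))).trans h4).trans_le ?_
    rw [Fintype.card_fin, Fintype.card_fin, Nat.cast_mul, Nat.cast_mul, Nat.cast_pow (p ^ e)]
    gcongr
  have h2 := pc_cen_le (CI.fq he hσ) D₀ hZ hF'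
  have h3 : (D₀.Sz Z).ncard = (Ps hp p Z).ncard := congrArg Set.ncard hS
  rw [h3] at h2
  replace h1 := h1.trans (Nat.mul_le_mul h2 h5)
  rw [mul_left_comm] at h1
  replace h1 := Nat.le_of_mul_le_mul_left h1 Fintype.card_pos
  rwa [hC, DL.GF, inf_comm] at h1

end Cfsg.Agent.N2.Ex.Sm.R2
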