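import Cfsg.Agent.N2.Ex.Sim.Defs
import Cfsg.Agent.N2.Ex.Sim.R2B
import Cfsg.Agent.N2.Ex.Cb.Main

/-!
# N2, box R2: centralisers `E₆ T₂` in `E₈`, `A₂ T₂` in `F₄` (helper53)

`boxR2 : BoxR2`.
-/

set_option autoImplicit false
set_option linter.unusedSectionVars false

namespace Cfsg.Agent.N2.Ex.Sm.R2

open CoxeterSystem Cfsg Cfsg.Lie Cfsg.Lie.ChevalleyDatum
open Cfsg.Agent.ChevalleyStructure Cfsg.Agent.ChevalleyStructure.Elts Cfsg.Agent.ChevalleyStructure.CoxeterGeom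
  Cfsg.Agent.ChevalleyStructure.CoxeterGeomTypes
open Cfsg.Agent.Tits.Roots Cfsg.Agent.Nodes.RGDChev Cfsg.Agent.BpExc.TorChev Cfsg.Agent.BpExc.TowChev Cfsg.Agent.BpExc.Fr
  Cfsg.Agent.BpExc.LangFr Cfsg.Agent.H129.TorusChar Cfsg.Agent.DS.Ex Cfsg.Agent.H316.U6 Cfsg.Agent.KFacts.RgdChevCoord Cfsg.Agent.H469.Exc
open Cfsg.Agent.H931.KC Cfsg.Agent.DS.Nt Cfsg.Agent.SB.Exc Cfsg.Agent.SB.Exc.CI Cfsg.Agent.N2.Ex.Cb Matrix

variable {D : ChevalleyDatum} {l : ℕ} {M : CoxeterMatrix (Fin l)} (hp : IsType D l M) {r : ℕ} {c : Fin l → ℕ} {c0 : ℕ}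

/-- the mask -/
def mk (c : Fin l → ℕ) : Fin l → ℕ := fun i => if c i = 0 then 0 else 1

/-- the keys -/
def ks (D : ChevalleyDatum) (l : ℕ) (z : Bool) (m : List ℕ) : List ℕ := keys (tb D l z) (dg (0 : Fin l → ℤ)) (dg (hz D l z)) m

theorem mk_cases (c : Fin l → ℕ) (i : Fin l) : mk c i = 0 ∨ mk c i = 1 := by
  by_cases h : c i = 0
  · exact Or.inl (if_pos h)
  · exact Or.inr (if_neg h)

theorem mk_ne (c : Fin l → ℕ) (i : Fin l) : mk c i ≠ 0 ↔ c i ≠ 0 := by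
  by_cases h : c i = 0 <;> simp [mk, h]

/-- the keys of a Kac functional -/
theorem shape_ks [Fact r.Prime] (K : Kac D l r c c0) (hne : ¬ ∀ x, (r : ℤ) ∣ bb c x) (u : (Fin l → ℤ) ≃+ (Fin l → ℤ))
    (hu : ∀ a, IsRoot M.toCoxeterSystem hp.isCartan (u a) ↔ IsRoot M.toCoxeterSystem hp.isCartan a) {k : ZMod r}
    (hk : ∀ x, ((bb c (u x) : ℤ) : ZMod r) = k * (bb c x : ℤ)) (H : ∀ i, hr D l i ≤ 7) :
    orderOf k ∣ gg (ks D l (decide (c0 = 0)) (List.ofFn (mk c))) ∧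
      D.nroots - (ks D l (decide (c0 = 0)) (List.ofFn (mk c))).length = nK D l r c := by
  classical
  have hz0 : ∀ x : ℤ, (x : ZMod r) = 0 ↔ (r : ℤ) ∣ x := fun x => ZMod.intCast_zmod_eq_zero_iff_dvd x r
  have hk0 : k ≠ 0 := fun h => hne fun x => by
    rw [← hz0, ← u.apply_symm_apply x, hk, h, zero_mul]
  have hd : ∀ x, (r : ℤ) ∣ bb c (u x) ↔ (r : ℤ) ∣ bb c x := fun x => by
    rw [← hz0, ← hz0, hk, mul_eq_zero, or_iff_right hk0]
  set z := decide (c0 = 0) with hzd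
  have hE : ∀ x, u x ∈ EE c (hz D l z) ↔ x ∈ EE c (hz D l z) := fun x => by
    refine ⟨fun h => ?_, fun h => ?_⟩
    · have h1 := EE_le hp K (H := (EE c (hz D l z)).comap u.symm.toAddMonoidHom) (fun a ha h2 =>
        mem_of_dvd hp K ((hu _).1 (by rwa [AddEquiv.coe_toAddMonoidHom, u.apply_symm_apply]))
          ((hd _).1 (by rwa [AddEquiv.coe_toAddMonoidHom, u.apply_symm_apply]))) h
      rwa [AddSubgroup.mem_comap, AddEquiv.coe_toAddMonoidHom, u.symm_apply_apply] at h1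
    · exact EE_le hp K (H := (EE c (hz D l z)).comap u.toAddMonoidHom)
        (fun a ha h2 => mem_of_dvd hp K ((hu a).2 ha) ((hd a).2 h2)) h
  have hv : ∀ s : Fin D.nroots, IsRoot M.toCoxeterSystem hp.isCartan (vec D l s) := fun s => isRoot_vec hp _ s.2
  obtain ⟨ρ, hρ⟩ := exists_perm (hp := hp) u hu
  set m := mk c
  have hm := mk_cases c
  have hm' := mk_ne c
  have hcd : ∀ x y : Fin l → ℤ, (∀ i, -hr D l i ≤ x i ∧ x i ≤ hr D l i) → (∀ i, -hr D l i ≤ y i ∧ y i ≤ hr D l i) →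
      (cd (List.ofFn m) (dg x) = cd (List.ofFn m) (dg y) ↔ ∀ i, c i ≠ 0 → x i = y i) := fun x y hx hy => by
    rw [dg, dg, cd_eq_iff m _ _ hm (fun i => by have := hx i; have := H i; omega)
      fun i => by have := hy i; have := H i; omega]
    refine forall_congr' fun i => ?_
    rw [hm']
    refine imp_congr_right fun _ => ?_
    have := hx i; have := hy i; have := H i
    omega
  have hb : ∀ s : Fin D.nroots, ∀ i, -hr D l i ≤ nrm D l z (vec D l s) i ∧ nrm D l z (vec D l s) i ≤ hr D l i :=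
    fun s i => ⟨(nrm_bd hp (hv s) z i).1, (nrm_bd hp (hv s) z i).2.1⟩
  have hb0 : ∀ i, -hr D l i ≤ (0 : Fin l → ℤ) i ∧ (0 : Fin l → ℤ) i ≤ hr D l i := fun i => by
    have := hr_pos hp i
    rw [Pi.zero_apply]
    omega
  have hb1 : ∀ i, -hr D l i ≤ hz D l z i ∧ hz D l z i ≤ hr D l i := fun i => by
    have := hr_pos hp i
    generalize z = z'
    cases z'
    · exact hb0 i
    · simp only [hz, cond_true]
      omega
  let key : Fin D.nroots → ℕ := fun s => cd (List.ofFn m) (dg (nrm D l z (vec D l s)))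
  let q : ℕ → Bool := fun y => !(Nat.beq y (cd (List.ofFn m) (dg (0 : Fin l → ℤ))) || Nat.beq y (cd (List.ofFn m) (dg (hz D l z))))
  have hq : ∀ s, q (key s) = true ↔ ¬ (r : ℤ) ∣ bb c (vec D l s) := fun s => by
    rw [psi_iff hp K (hv s), ← hcd _ _ (hb s) hb1]
    have h2 := hcd _ _ (hb s) hb0
    simp only [Pi.zero_apply] at h2
    rw [← h2]
    simp only [q, key, Bool.not_eq_true', ← Bool.not_eq_true, Bool.or_eq_true, Nat.beq_eq]
  have hkey : ∀ s t, q (key s) = true → q (key t) = true → (key s = key t ↔ vec D l s - vec D l t ∈ EE c (hz D l z)) :=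
    fun s t hs ht => (hcd _ _ (hb s) (hb t)).trans (key_iff hp K (hv s) (hv t) ((hq s).1 hs) ((hq t).1 ht))
  have hK : ks D l z (List.ofFn m) = (List.ofFn key).filter q :=
    congrArg (List.filter q) (List.map_ofFn (f := fun s : Fin D.nroots => dg (nrm D l z (vec D l s))) (g := cd (List.ofFn m)))
  have hP : ∀ s, q (key (ρ s)) = true ↔ q (key s) = true := fun s => by rw [hq, hq, hρ, hd]
  have h2 := core_list q ρ key (fun s => ((bb c (vec D l s) : ℤ) : ZMod r)) k hP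
    (fun s hs => by rw [Ne, hz0]; exact (hq s).1 hs) (fun s => by rw [hρ, hk])
    (fun s t hs ht => by rw [hkey _ _ ((hP s).2 hs) ((hP t).2 ht), hkey _ _ hs ht, hρ, hρ, ← map_sub, hE])
    fun s t hs ht h => by
      rw [← sub_eq_zero, ← Int.cast_sub, ← map_sub, hz0]
      exact dvd_of_mem K ((hkey s t hs ht).1 h)
  have h3 : D.nroots - ((List.ofFn key).filter q).length = nK D l r c := by
    rw [length_filter_ofFn, nK]
    have h4 := Finset.card_filter_add_card_filter_not (s := Finset.univ) fun s : Fin D.nroots => (r : ℤ) ∣ bb c (vec D l s)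
    rw [Finset.card_univ, Fintype.card_fin] at h4
    simp only [hq]
    omega
  rw [hK]
  exact ⟨h2, h3⟩

/-- a complement of rank two -/
def Co (E : AddSubgroup (Fin l → ℤ)) : Prop :=
  ∃ (π : Matrix (Fin 2) (Fin l) ℤ) (κ : Matrix (Fin l) (Fin 2) ℤ), π * κ = 1 ∧ ∀ x, π *ᵥ x = 0 ↔ x ∈ E

theorem co_levi (h : (List.ofFn (mk c)).sum = 2) : Co (EE c 0) := by
  have h1 : (Finset.univ.filter fun i => c i ≠ 0).card = 2 := by
    rw [← h, List.sum_ofFn, Finset.card_filter]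
    refine Finset.sum_congr rfl fun i _ => ?_
    by_cases h8 : c i = 0 <;> simp [mk, h8]
  obtain ⟨i, j, hij, h2⟩ := Finset.card_eq_two.1 h1
  have h3 : ∀ n, c n ≠ 0 ↔ n = i ∨ n = j := fun n => by simpa using Finset.ext_iff.1 h2 n
  refine ⟨Matrix.of ![Pi.single i 1, Pi.single j 1], (Matrix.of ![Pi.single i 1, Pi.single j 1])ᵀ, ?_, fun x => ?_⟩
  · ext a b
    fin_cases a <;> fin_cases b <;> simp [mul_apply, Pi.single_apply, hij, hij.symm]
  · have h4 : Matrix.of ![Pi.single i 1, Pi.single j 1] *ᵥ x = ![x i, x j] := by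
      ext a
      fin_cases a <;> simp [mulVec]
    rw [h4]
    refine ⟨fun h5 => ⟨0, fun n hn => ?_⟩, fun ⟨n, h5⟩ => ?_⟩
    · rcases (h3 n).1 hn with rfl | rfl
      exacts [(congrFun h5 0).trans (zero_mul _).symm, (congrFun h5 1).trans (zero_mul _).symm]
    · rw [h5 i ((h3 i).2 (.inl rfl)), h5 j ((h3 j).2 (.inr rfl))]
      simp

theorem co_E8 {z : Bool} {c : Fin 8 → ℕ} (h1 : 3 ∣ gg (ks chevE8 8 z (List.ofFn (mk c))))
    (h2 : chevE8.nroots - (ks chevE8 8 z (List.ofFn (mk c))).length = 72) : Co (EE c (hz chevE8 8 z)) := by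
  have h3 : ((ks chevE8 8 z (List.ofFn (mk c))).isEmpty || memT (gg (ks chevE8 8 z (List.ofFn (mk c))))
      (chevE8.nroots - (ks chevE8 8 z (List.ofFn (mk c))).length) (bif z then 8 else (List.ofFn (mk c)).sum) t3E8) = true :=
    okE8.2 z _ (mem_masks _ (mk_cases c))
  rcases Bool.or_eq_true_iff.1 h3 with h | h
  · rw [List.isEmpty_iff.1 h, eE8.2.2.2.2.2.2] at h2
    exact absurd h2 (by decide)
  · have h4 : ∀ e ∈ t3E8, 3 ∣ e.1 → e.2.1 = 72 → e.2.2 = 2 := by decide +kernel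
    rw [h2] at h
    generalize gg _ = a at h h1
    have h5 : (bif z then 8 else (List.ofFn (mk c)).sum) = 2 := h4 _ (memT_spec h) h1 rfl
    cases z
    · exact co_levi h5
    · exact absurd (show 8 = 2 from h5) (by decide)

theorem tab_F4 : ∀ z : Bool, ∀ m ∈ masks 4, 3 ∣ gg (ks chevF4 4 z m) → chevF4.nroots - (ks chevF4 4 z m).length = 6 →
    (z = false ∧ m.sum = 2 ∨ z = true ∧ m = [1, 1, 1, 0]) := by decide +kernel

theorem co_F4 {z : Bool} {c : Fin 4 → ℕ} (h1 : 3 ∣ gg (ks chevF4 4 z (List.ofFn (mk c))))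
    (h2 : chevF4.nroots - (ks chevF4 4 z (List.ofFn (mk c))).length = 6) : Co (EE c (hz chevF4 4 z)) := by
  rcases tab_F4 z _ (mem_masks _ (mk_cases c)) h1 h2 with ⟨rfl, h⟩ | ⟨rfl, h⟩
  · exact co_levi h
  have h3 : hz chevF4 4 true = ![2, 4, 3, 2] := by decide +kernel
  have h4 : mk c = ![1, 1, 1, 0] := List.ofFn_injective h
  have h5 : ∀ i, c i ≠ 0 ↔ i ≠ 3 := fun i => by
    rw [← mk_ne, h4]
    revert i
    decide
  refine ⟨!![-2, 1, 0, 0; -1, -1, 2, 0], !![1, 1; 3, 2; 2, 2; 0, 0], by decide, fun x => ?_⟩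
  have h6 : (!![-2, 1, 0, 0; -1, -1, 2, 0] : Matrix (Fin 2) (Fin 4) ℤ) *ᵥ x = 0 ↔
      -2 * x 0 + x 1 = 0 ∧ -x 0 - x 1 + 2 * x 2 = 0 := by
    simp [funext_iff, Fin.forall_fin_two, dotProduct, Fin.sum_univ_four, sub_eq_add_neg]
  rw [h6, h3]
  refine ⟨fun h7 => ⟨x 2 - x 0, fun i hi => ?_⟩, fun ⟨n, h7⟩ => ?_⟩
  · rw [h5] at hi
    fin_cases i <;> simp at hi ⊢ <;> omega
  · have a0 : x 0 = n * 2 := h7 0 ((h5 0).2 (by decide))
    have a1 : x 1 = n * 4 := h7 1 ((h5 1).2 (by decide))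
    have a2 : x 2 = n * 3 := h7 2 ((h5 2).2 (by decide))
    omega

variable {p : ℕ} [Fact p.Prime] {e : ℕ} {σ : MulAut (YY D p)} {g : (Fin l → ℤ) ≃+ (Fin l → ℤ)}

theorem cen_two (H : CZ D l 1) (H7 : ∀ i, hr D l i ≤ 7) (hl : 2 ≤ l) {n : ℕ}
    (hC : ∀ (z : Bool) (c : Fin l → ℕ), 3 ∣ gg (ks D l z (List.ofFn (mk c))) →
      D.nroots - (ks D l z (List.ofFn (mk c))).length = n → Co (EE c (hz D l z))) (he : 0 < e) (hσ : IsFrob p e σ)
    (Φ : Fr M.toCoxeterSystem hp.isCartan (TT D (KK p)) (XX D l (KK p)) σ g) {y : YY D p} (hy : σ y = y) (hr' : r.Prime)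
    (hrp : r ≠ p) (ho : orderOf y = r) (hq : orderOf ((p ^ e : ℕ) : ZMod r) = 3) (hd : dd p y = l + n) :
    Nat.card ↥(DL.fix σ ⊓ Subgroup.centralizer {y}) ≤ (p ^ e) ^ (dd p y - 2) * ((p ^ e) ^ 2 + p ^ e + 1) := by
  have := Fact.mk hr'
  have hy1 : y ^ r = 1 := ho ▸ pow_orderOf_eq_one y
  obtain ⟨x, ζ, c, c0, a1, a2, a3, a4, a5⟩ := exists_kacform hp hr' hrp hy1 fun h => by
    rw [h, orderOf_one] at ho
    exact hr'.ne_one ho.symm
  obtain ⟨σ', w, b1, b2, b3, b4⟩ := exists_red (hp := hp) he hσ Φ hy a3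
  generalize g.trans (repAut M.toCoxeterSystem hp.isCartan w) = u at b2
  have hk : ∀ b, ((bb c (u b) : ℤ) : ZMod r) = ((p ^ e : ℕ) : ZMod r) * (bb c b : ℤ) := fun b => by
    have h5 := cX_sigma hp M.toCoxeterSystem b1 b2 a3 b
    have h0 := a1.ne_zero hr'.ne_zero
    rw [b3, a4, a4, ← zpow_natCast, ← _root_.zpow_mul] at h5
    rw [← Int.cast_natCast, ← Int.cast_mul, eq_comm, ZMod.intCast_eq_intCast_iff_dvd_sub, ← a1.zpow_eq_one_iff_dvd,
      zpow_sub₀ h0, h5, mul_comm, div_self (zpow_ne_zero _ h0)]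
  obtain ⟨h1, h2⟩ := shape_ks hp a2 a5 u b2.root hk H7
  have h3 : dd p (x * y * x⁻¹) = l + nK D l r c := dd_tor_zpow hp a3 a1 (f := bb c) a4
  have h4 := ncard_Ps (hp := hp) a3
  rw [dd_conj] at h3 h4
  obtain ⟨π, κ, h5, h6⟩ := hC _ c (hq ▸ h1) (by omega)
  have hZ := Set.singleton_subset_iff.2 a3
  have h7 : ∀ a, a ∈ Ps hp p {x * y * x⁻¹} ↔ IsRoot M.toCoxeterSystem hp.isCartan a ∧ (r : ℤ) ∣ bb c a := fun a => by
    rw [mem_Ps hZ, ← a1.zpow_eq_one_iff_dvd, ← a4]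
    simp only [Set.mem_singleton_iff, forall_eq]
  have h8 : EE c (hz D l (decide (c0 = 0))) = AddSubgroup.closure (Ps hp p {x * y * x⁻¹}) :=
    le_antisymm (EE_le hp a2 fun a ha h => AddSubgroup.subset_closure ((h7 a).2 ⟨ha, h⟩))
      ((AddSubgroup.closure_le _).2 fun a ha => mem_of_dvd hp a2 ((h7 a).1 ha).1 ((h7 a).1 ha).2)
  have hF := g_mem_Ps (hp := hp) b1 b2 hZ fun z hz => by rw [hz, b3]
  have h9 : ∀ z, ((bb c (κ *ᵥ (π *ᵥ z)) : ℤ) : ZMod r) = (bb c z : ℤ) := fun z => by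
    rw [ZMod.intCast_eq_intCast_iff_dvd_sub, ← map_sub]
    refine dvd_of_mem a2 ((h6 _).1 ?_)
    rw [mulVec_sub, mulVec_mulVec, mulVec_mulVec, h5, Matrix.one_mul, sub_self]
  have h10 : ∀ z : Fin 2 → ℤ, ((bb c (κ *ᵥ z) : ℤ) : ZMod r) = ∑ i, (z i : ZMod r) * (bb c (κ *ᵥ sr i) : ℤ) := fun z => by
    exact_mod_cast congrArg (Int.cast : ℤ → ZMod r) (eq_psi ((bb c).comp κ.mulVecLin.toAddMonoidHom) z)
  have hV : ∀ z, π *ᵥ z = 0 → π *ᵥ ((mat u)ᵀ *ᵥ z) = 0 := fun z hz => by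
    rw [show (mat u)ᵀ *ᵥ z = u z from mulVec_mat u.toAddMonoidHom z, h6, h8]
    exact (AddSubgroup.closure_le ((AddSubgroup.closure (Ps hp p {x * y * x⁻¹})).comap u.toAddMonoidHom)).2
      (fun a ha => AddSubgroup.subset_closure (hF a ha)) (h8 ▸ (h6 z).1 hz)
  obtain ⟨N, hN, h11⟩ := exists_pow (hp := hp) u b2.root
  have h12 := two_le hN (pow_proj h5 hV h11) hq (v := fun i => (bb c (κ *ᵥ sr i) : ℤ)) (fun h => a5 fun z => by
      rw [← ZMod.intCast_zmod_eq_zero_iff_dvd, ← h9, h10]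
      exact Finset.sum_eq_zero fun i _ => mul_eq_zero_of_right _ (congrFun h i)) (by
      funext j
      have h13 : (π * (mat u)ᵀ * κ) *ᵥ sr j = π *ᵥ u (κ *ᵥ sr j) := by
        rw [← mulVec_mulVec, ← mulVec_mulVec]
        exact congrArg _ (mulVec_mat u.toAddMonoidHom _)
      refine Eq.trans ?_ ((h10 ((π * (mat u)ᵀ * κ) *ᵥ sr j)).symm.trans (by rw [h13, h9, hk]; rfl))
      rw [vecMul, dotProduct]
      refine Finset.sum_congr rfl fun i _ => ?_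
      rw [mul_comm]
      exact congrArg (· * _) (congrArg (Int.cast : ℤ → ZMod r) (congrFun (mulVec_single_one (π * (mat u)ᵀ * κ) j) i).symm)) (q := (p ^ e : ℕ)) (by positivity)
  rw [b4, conn (hp := hp) H ((Nat.coprime_primes hr' Fact.out).2 hrp) (Nat.coprime_one_left r) a3
    (by rw [conj_pow, hy1, mul_one, mul_inv_cancel])]
  refine (card_DZ_two he b1 b2 hZ hF h5 (h8 ▸ h6) hl (b := (p ^ e) ^ 2 + p ^ e + 1) (by exact_mod_cast h12)).trans_eq ?_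
  rw [← mul_assoc, ← pow_add]
  congr 2
  omega

end R2

open R2 Cfsg Cfsg.Lie Cfsg.Agent.DS.Nt Cfsg.Agent.N2.Ex.Cb in
/-- **[R2]** -/
theorem boxR2 : BoxR2 := by
  intro D l M hp p _ q K _ m a r hr _ hrp ha hq h
  have hl := typ_l hp
  have ho := (orderOf_injective m.ι m.inj a).trans ha
  refine (cn_le_card m.ι m.inj m.fix m.fin a).trans ?_
  have hq' : orderOf ((p ^ m.e : ℕ) : ZMod r) = 3 := by rw [m.hq, hq]
  rcases h with ⟨rfl, h⟩ | ⟨rfl, h⟩
  · obtain rfl := hl.2.2.2 rfl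
    have h1 := cen_two hp cz_E8 okE8.1 (by decide) (fun _ _ => co_E8) m.he m.frob m.fr (m.fix a) hr hrp ho hq' h
    rwa [m.hq] at h1
  · obtain rfl := hl.1 rfl
    have h1 := cen_two hp cz_F4 okF4.1 (by decide) (fun _ _ => co_F4) m.he m.frob m.fr (m.fix a) hr hrp ho hq' h
    rwa [m.hq] at h1

end Cfsg.Agent.N2.Ex.Sm
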