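import Cfsg.Agent.N2.Ex.Sim.DfDefs
import Cfsg.Agent.N2.Ex.Sim.Sieve
import Cfsg.Agent.H56.Exc.Big

/-!
# N2 (S3519), exceptional groups, defining characteristic: `D₄(q)` in `F₄(q)`, `E₆(q)`, `²E₆(q)` and `G₂(q)` in `E₈(q)` (helper83)

**`Sc.rowBd (B : NB) : Df.RowN Df.qBd`**.
-/

set_option autoImplicit false
set_option linter.unusedSectionVars false

namespace Cfsg.Agent.N2.Ex.Sm.Sc

open Cfsg Subgroup Cfsg.Agent.H902 Cfsg.Agent.H902.Names Cfsg.Agent.OrdDiv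
open Cfsg.Agent.N2C.RD (PdX oX dX gX Nd ord_pow)
open Cfsg.Agent.SB.Exc (dM ordU)

section grp

variable {N : Type} [Group N] [Finite N] {r j : ℕ} {g : N}

theorem norm_ge (hg : orderOf g = r) (h : IsConj g (g ^ j)) :
    Nat.card (centralizer ({g} : Set N)) * orderOf (j : ZMod r) ≤ Nat.card (normalizer (zpowers g : Set N)) := by
  obtain ⟨y, hy⟩ := isConj_iff.1 h
  have h1 : y ∈ normalizer (zpowers g : Set N) := by
    refine Subgroup.mem_normalizer_fintype ?_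
    rintro _ ⟨k, rfl⟩
    simp only []
    rw [← conj_zpow, hy]
    exact zpow_mem (npow_mem_zpowers g j) k
  let φ := (zpowers g).normalizerMonoidHom
  have h0 : centralizer ({g} : Set N) ≤ centralizer (zpowers g : Set N) := by
    rintro x hx _ ⟨k, rfl⟩
    exact ((show Commute g x from hx g rfl).zpow_left k).eq
  have h2 : Nat.card (centralizer ({g} : Set N)) ≤ Nat.card φ.ker := by
    rw [← Nat.card_congr (subgroupOfEquivOfLe (h0.trans (centralizer_le_normalizer _))).toEquiv, normalizerMonoidHom_ker]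
    exact Subgroup.card_le_of_le (comap_mono h0)
  have h3 : ∀ k : ℕ, y ^ k * g * (y ^ k)⁻¹ = g ^ j ^ k := fun k => by
    induction k with
    | zero => simp
    | succ k ih =>
      calc y ^ (k + 1) * g * (y ^ (k + 1))⁻¹ = y * (y ^ k * g * (y ^ k)⁻¹) * y⁻¹ := by group
        _ = _ := by rw [ih, ← conj_pow, hy, ← pow_mul, ← pow_succ']
  have h4 : orderOf (j : ZMod r) ∣ Nat.card φ.range := by
    refine orderOf_dvd_of_pow_eq_one ?_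
    have h5 : φ (⟨y, h1⟩ ^ Nat.card φ.range) = 1 := by
      rw [map_pow]
      exact congrArg Subtype.val (pow_card_eq_one' (x := (⟨φ ⟨y, h1⟩, ⟨_, rfl⟩⟩ : φ.range)))
    have h6 : (⟨y, h1⟩ ^ Nat.card φ.range : normalizer (zpowers g : Set N)) ∈ φ.ker := h5
    rw [normalizerMonoidHom_ker] at h6
    have h7 : g * y ^ Nat.card φ.range = y ^ Nat.card φ.range * g := h6 g (mem_zpowers g)
    have h8 := h3 (Nat.card φ.range)
    rw [← h7, mul_inv_cancel_right] at h8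
    rw [← Nat.cast_pow, ← Nat.cast_one, ZMod.natCast_eq_natCast_iff, ← hg, ← pow_eq_pow_iff_modEq, ← h8, pow_one]
  rw [← φ.ker.card_mul_index, Subgroup.index_ker]
  exact Nat.mul_le_mul h2 (Nat.le_of_dvd Nat.card_pos h4)

/-- a cyclic subgroup which contains a Sylow subgroup -/
theorem sy (hr : r.Prime) {t : N} {k : ℕ} (hk : Nat.card N = orderOf t * k) (h : ¬ r ∣ k) (hg : orderOf g = r) :
    (∀ x : N, orderOf x = r → ∃ i : ℕ, IsConj x (g ^ i)) ∧ orderOf t ≤ Nat.card (centralizer ({g} : Set N)) := by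
  have := Fact.mk hr
  have h1 : (zpowers t).index = k :=
    Nat.eq_of_mul_eq_mul_left (orderOf_pos t) (by rw [← hk, ← Nat.card_zpowers, Subgroup.card_mul_index])
  have key : ∀ x : N, orderOf x = r → ∃ a : N, a⁻¹ * x * a ∈ zpowers t := fun x hx => by
    have hP : IsPGroup r (zpowers x) := IsPGroup.of_card (n := 1) (by rw [Nat.card_zpowers, hx, pow_one])
    obtain ⟨y, hy⟩ := hP.nonempty_fixed_point_of_prime_not_dvd_card (N ⧸ zpowers t) (show ¬ r ∣ (zpowers t).index from h1 ▸ h)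
    obtain ⟨a, rfl⟩ := QuotientGroup.mk_surjective y
    exact ⟨a, mul_assoc a⁻¹ x a ▸ QuotientGroup.eq.1 (hy ⟨x, mem_zpowers x⟩).symm⟩
  have ko : ∀ x a : N, orderOf (a⁻¹ * x * a) = orderOf x := fun x a => by
    simpa using (MulAut.conj a⁻¹).orderOf_eq x
  obtain ⟨b, hb⟩ := key g hg
  refine ⟨fun x hx => ?_, ?_⟩
  · obtain ⟨a, ha⟩ := key x hx
    obtain ⟨i, hi⟩ := mem_powers_iff_mem_zpowers.2 (H56.Exc.mem_zpowers_of_cyclic inferInstance hb ha (by rw [ko, ko, hx, hg]))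
    refine ⟨i, isConj_iff.2 ⟨b * a⁻¹, ?_⟩⟩
    have h2 : (b⁻¹ * g * b) ^ i = b⁻¹ * g ^ i * b := by simpa using conj_pow (a := b⁻¹) (b := g) (i := i)
    calc _ = b * (a⁻¹ * x * a) * b⁻¹ := by group
      _ = _ := by rw [← show (b⁻¹ * g * b) ^ i = _ from hi, h2]; group
  · have h2 : b * t * b⁻¹ ∈ centralizer ({g} : Set N) := by
      obtain ⟨i, hi⟩ := hb
      have h3 : g = b * t ^ i * b⁻¹ := by rw [show t ^ i = _ from hi]; group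
      rw [mem_centralizer_singleton_iff, h3]
      group
    have h3 := Subgroup.orderOf_dvd_natCard _ h2
    rw [show orderOf (b * t * b⁻¹) = orderOf t from (MulAut.conj b).orderOf_eq t] at h3
    exact Nat.le_of_dvd Nat.card_pos h3

end grp

/-! ### the inequalities -/

section num

variable {q : ℕ}

theorem kF4 (hq : 1 ≤ q) : q ^ 12 * ((q ^ 4 - 1) * (q ^ 4 - 1)) ≤ (q ^ 8 - 1) * (q ^ 12 - 1) := by
  obtain ⟨z, hz⟩ : ∃ z, q ^ 4 = z + 1 := ⟨q ^ 4 - 1, (Nat.sub_add_cancel (Nat.one_le_pow _ _ hq)).symm⟩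
  rw [show q ^ 8 = z ^ 2 + 2 * z + 1 by rw [show q ^ 8 = (q ^ 4) ^ 2 by ring, hz]; ring,
    show q ^ 12 = z ^ 3 + 3 * z ^ 2 + 3 * z + 1 by rw [show q ^ 12 = (q ^ 4) ^ 3 by ring, hz]; ring, hz]
  simp only [Nat.add_sub_cancel]
  exact Nat.le.intro (k := z ^ 2 * (2 * z ^ 2 + 6 * z + 5)) (by ring)

theorem kE6 (hq : 2 ≤ q) : 3 * q ^ 12 ≤ (q ^ 5 - 1) * (q ^ 9 - 1) := by
  have h1 := N2C.RD.Au.rsub hq 5
  have h2 := N2C.RD.Au.rsub hq 9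
  have h3 := Nat.mul_le_mul h1 h2
  have h4 : 2 ^ 2 * q ^ 12 ≤ q ^ 5 * q ^ 9 := by
    rw [← pow_add, show q ^ (5 + 9) = q ^ 2 * q ^ 12 by ring]
    gcongr
  rw [show (2 ^ 5 - 1) * q ^ 5 * ((2 ^ 9 - 1) * q ^ 9) = 15841 * (q ^ 5 * q ^ 9) by ring,
    show 2 ^ 5 * (q ^ 5 - 1) * (2 ^ 9 * (q ^ 9 - 1)) = 16384 * ((q ^ 5 - 1) * (q ^ 9 - 1)) by ring] at h3
  omega

theorem kE8 (hq : 3 ≤ q) : q ^ 120 * (q ^ 6 - 1) ≤
    (q ^ 8 - 1) * (q ^ 12 - 1) * (q ^ 14 - 1) * (q ^ 18 - 1) * (q ^ 20 - 1) * (q ^ 24 - 1) * (q ^ 30 - 1) := by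
  have h0 : 1 ≤ q := by omega
  have h1 : ∀ k, q ^ k * (q ^ 8 - 1) ≤ q ^ (k + 8) - 1 := fun k => by
    rw [Nat.mul_sub, ← pow_add, mul_one]
    exact Nat.sub_le_sub_left (Nat.one_le_pow _ _ h0) _
  obtain ⟨z, hz⟩ : ∃ z, q ^ 8 = z + 1 := ⟨q ^ 8 - 1, (Nat.sub_add_cancel (Nat.one_le_pow _ _ h0)).symm⟩
  have h2 : q ^ 50 * (q ^ 6 - 1) ≤ z ^ 7 := by
    have h3 : q ^ 56 ≤ z ^ 7 + 7 * q ^ 48 := by
      rw [show q ^ 56 = (q ^ 8) ^ 7 by ring, show q ^ 48 = (q ^ 8) ^ 6 by ring, hz]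
      exact Nat.le.intro (k := 21 * z ^ 5 + 70 * z ^ 4 + 105 * z ^ 3 + 84 * z ^ 2 + 35 * z + 6) (by ring)
    have h4 : 7 * q ^ 48 ≤ q ^ 50 := by
      rw [show q ^ 50 = q ^ 2 * q ^ 48 by ring]
      exact Nat.mul_le_mul_right _ (by nlinarith)
    rw [Nat.mul_sub, ← pow_add, mul_one, show 50 + 6 = 56 from rfl]
    omega
  have h5 : q ^ 8 - 1 = z := by omega
  calc _ = q ^ 70 * (q ^ 50 * (q ^ 6 - 1)) := by ring
    _ ≤ q ^ 70 * z ^ 7 := Nat.mul_le_mul_left _ h2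
    _ = z * (q ^ 4 * z) * (q ^ 6 * z) * (q ^ 10 * z) * (q ^ 12 * z) * (q ^ 16 * z) * (q ^ 22 * z) := by ring
    _ ≤ _ := by
      rw [← h5]
      gcongr
      exacts [h1 4, h1 6, h1 10, h1 12, h1 16, h1 22]

theorem six_eq (hq : 1 ≤ q) : q ^ 6 - 1 = (q ^ 2 + q + 1) * ((q ^ 1 - 1) * (q ^ 3 + 1)) := by
  obtain ⟨z, rfl⟩ : ∃ z, q = z + 1 := ⟨q - 1, by omega⟩
  rw [pow_one, Nat.add_sub_cancel]
  exact Nat.sub_eq_of_eq_add (by ring)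

theorem oD4 (q : ℕ) : oX (.D 4) q = q ^ 12 * ((q ^ 4 - 1) * ((q ^ 2 - 1) * (q ^ 4 - 1) * (q ^ 6 - 1))) := by
  simp only [oX, Art.NN, Art.num, Finset.prod_range_succ, Finset.prod_range_zero, one_mul]

theorem easy (hq : 2 ≤ q) {x n k l z w : ℕ} (hx : x ≤ q ^ k * (q + 1) ^ l) (hn : n ≤ 6 * 2 ^ z) (h : k + 2 * l + z ≤ w + 2) :
    x * n ≤ q ^ w * ((q ^ 2 + q + 1) * 6) :=
  calc x * n ≤ q ^ k * (q ^ 2) ^ l * (6 * q ^ z) := by
        refine Nat.mul_le_mul (hx.trans ?_) (hn.trans ?_) <;> gcongr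
        nlinarith
    _ = q ^ (k + 2 * l + z) * 6 := by ring
    _ ≤ q ^ (w + 2) * 6 := by gcongr; omega
    _ = q ^ w * (q ^ 2 * 6) := by ring
    _ ≤ _ := by gcongr; omega

end num

variable {l : ℕ} {tw : Bool} {p e T : ℕ} {N : Type} [Group N] [Finite N] {G : Prop} {c d : N → ℕ} {X : Art.Sh}

/-- a prime divisor of `q ^ 2 + q + 1` -/
theorem exists_r3 (D : Nd X p e N) (hD : PdX X 3) (hd : Art.dd X (p ^ e) ≤ 4) : ∃ r, r.Prime ∧ 5 ≤ r ∧ r ≠ p ∧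
    orderOf ((p ^ e : ℕ) : ZMod r) = 3 ∧ ¬ r * Nat.card N ∣ Nat.card (MulAut N) := by
  have h1 := D.real.hf
  by_cases h : p = 2 ∧ e * 3 = 6
  · obtain ⟨rfl, h2⟩ := h
    obtain rfl : e = 2 := by omega
    refine ⟨7, by norm_num, by norm_num, by norm_num, ?_, D.not_dvd_of (by norm_num) (by norm_num) (by norm_num) fun k => ?_⟩
    · exact orderOf_eq_prime (by decide) (by decide)
    · exact absurd (Nat.le_of_dvd D.dd_pos k) (by omega)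
  obtain ⟨r, hr, ho, -, h5, hp, -, h6⟩ := D.ppd hD (by omega) h
  refine ⟨r, hr, h5, hp, ?_, h6⟩
  rw [ord_pow ho (by omega), Nat.gcd_mul_right_left, Nat.mul_div_cancel_left _ (by omega)]

/-- the frame -/
theorem bd (R : Rx l tw p e T N G c d) {r w K δ : ℕ} (hr : r.Prime) (h5 : 5 ≤ r) (hp : r ≠ p)
    (ho : orderOf ((p ^ e : ℕ) : ZMod r) = 3) (ha : ¬ r * Nat.card N ∣ Nat.card (MulAut N)) (hc : Ch N r 6) {t : N}
    (ht : orderOf t = (p ^ e) ^ 2 + p ^ e + 1) (hK : δ * Nat.card N = ((p ^ e) ^ 2 + p ^ e + 1) * K) (h1 : ¬ r ∣ K)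
    (hw : l = 4 ∧ w = 8 ∨ l = 6 ∧ w = 16 ∨ l = 8 ∧ w = 78) (h : (p ^ e) ^ (3 * w) * Nat.card N ≤ T) : G := by
  obtain ⟨g, j, hg, hj, h6⟩ := hc
  obtain ⟨k, hk⟩ := orderOf_dvd_natCard t
  have h2 : ¬ r ∣ k := fun a => h1 (a.trans ⟨δ, Nat.eq_of_mul_eq_mul_left (orderOf_pos t) (by rw [← mul_assoc, ← hk, mul_comm _ δ, hK, ht])⟩)
  obtain ⟨s1, s2⟩ := sy hr hk h2 hg
  obtain ⟨f, hf, n, m1, m2, m3, -, -, m4, m5⟩ := R.mt g r hr h5 hp hg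
  have h3 : orderOf (j : ZMod r) ≠ 0 := fun a => by
    have b := (m4 j hj).trans m3
    rw [a, zero_dvd_iff] at b
    omega
  have h4 : ((p ^ e) ^ 2 + p ^ e + 1) * 6 ≤ Nat.card (normalizer (zpowers g : Set N)) :=
    (Nat.mul_le_mul (ht ▸ s2) (Nat.le_of_dvd (Nat.pos_of_ne_zero h3) h6)).trans (norm_ge hg hj)
  have hq := R.real.q_ge
  have h7 : 6 ∣ f.1 := (h6.trans (m4 j hj)).trans m2
  have h8 : c g ≤ (p ^ e) ^ f.2 * (p ^ e + 1) ^ l :=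
    R.conn g f.2 (hg ▸ (Nat.coprime_primes hr R.hp).2 hp) (hg ▸ cop_dM hr h5 l) m1.le
  have h9 : c g * n ≤ (p ^ e) ^ w * (((p ^ e) ^ 2 + p ^ e + 1) * 6) := by
    have a : ∀ {x : ℕ}, c g ≤ (p ^ e) ^ w * x → f.1 = 6 → c g * n ≤ (p ^ e) ^ w * (x * 6) := fun a b => by
      rw [← mul_assoc]
      exact Nat.mul_le_mul a (Nat.le_of_dvd (by norm_num) (b ▸ m2))
    rcases hw with ⟨rfl, rfl⟩ | ⟨rfl, rfl⟩ | ⟨rfl, rfl⟩
    · rcases (by decide : ∀ f ∈ Cb.tpT 4, 6 ∣ f.1 → f = (6, 6) ∨ f = (12, 0)) f hf h7 with rfl | rfl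
      · have b := R.r2 g r hr h5 hp hg ho (Or.inr ⟨rfl, m1⟩)
        rw [m1] at b
        exact a b rfl
      · exact easy hq (z := 1) h8 (Nat.le_of_dvd (by norm_num) m2) (by norm_num)
    · rcases (by decide : ∀ f ∈ Cb.tpT 6, 6 ∣ f.1 → f = (6, 12) ∨ f = (6, 24) ∨ f = (6, 6) ∨ 0 < f.1 ∧ f.1 ≤ 24 ∧ f.2 = 0) f hf h7
        with rfl | rfl | rfl | b
      · exact a (R.r26 g r hr h5 hp hg ho rfl m1) rfl
      · exact absurd h6 (R.six g r j hr h5 hp hg rfl m1 hj)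
      · exact easy hq (z := 0) h8 (Nat.le_of_dvd (by norm_num) m2) (by norm_num)
      · exact easy hq (z := 2) h8 ((Nat.le_of_dvd b.1 m2).trans b.2.1) (by omega)
    · rcases (by decide : ∀ f ∈ Cb.tpT 8, 6 ∣ f.1 → f = (6, 72) ∨ 0 < f.1 ∧ f.1 ≤ 48 ∧ f.2 ≤ 30) f hf h7 with rfl | b
      · have b := R.r2 g r hr h5 hp hg ho (Or.inl ⟨rfl, m1⟩)
        rw [m1] at b
        exact a b rfl
      · exact easy hq (z := 3) h8 ((Nat.le_of_dvd b.1 m2).trans b.2.1) (by omega)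
  refine m5 ha s1 ?_
  calc _ ≤ ((p ^ e) ^ w * (((p ^ e) ^ 2 + p ^ e + 1) * 6)) ^ 3 * Nat.card N := by gcongr
    _ = (p ^ e) ^ (3 * w) * Nat.card N * (((p ^ e) ^ 2 + p ^ e + 1) * 6) ^ 3 := by ring
    _ ≤ _ := by gcongr

/-- **the borderline rows** -/
theorem rowBd (B : NB) : Df.RowN Df.qBd := by
  rintro - l tw p e T N _ _ _ G c d g X a hn k ⟨rfl, hQ⟩ R
  have D := k.nd hn
  have hq := R.real.q_ge
  obtain ⟨t, ht⟩ := B.sy g X p a N k (by rcases hQ with h | h; exacts [Or.inr h.1, Or.inl h.1])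
  have hD : PdX X 3 := by
    rcases hQ with ⟨rfl, -⟩ | ⟨rfl, -⟩
    exacts [⟨three_pos, Or.inl (by norm_num)⟩, (by norm_num : 3 ∣ 6)]
  obtain ⟨r, hr, h5, hp, ho, ha⟩ := exists_r3 D hD (by
    rcases hQ with ⟨rfl, -⟩ | ⟨rfl, -⟩
    exacts [Nat.gcd_le_left _ four_pos, (by norm_num : 1 ≤ 4)])
  have hc := ((B.cj k.lie) X p a N k).1 r a hr h5 hp dvd_rfl (Or.inl rfl) (ho.symm ▸ hD)
  rw [ho] at hc
  have n0 : ∀ k, ¬ r ∣ (p ^ a) ^ k := fun k h =>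
    hp ((Nat.prime_dvd_prime_iff_eq hr R.hp).1 (hr.dvd_of_dvd_pow (hr.dvd_of_dvd_pow h)))
  have n1 : ∀ k, ¬ 3 ∣ k → ¬ r ∣ (p ^ a) ^ k - 1 := fun k h => mt (dvd_sub_iff (by omega) ho k).1 h
  have n2 : ¬ r ∣ ((p ^ a) ^ 1 - 1) * ((p ^ a) ^ 3 + 1) := fun h => (hr.dvd_mul.1 h).elim (n1 1 (by norm_num)) fun h =>
    ((dvd_add_iff hr h5 (by omega) ho 3).1 h).2 dvd_rfl
  have hC := D.card
  have hU := ordU_le R.typ R.real
  rcases hQ with ⟨rfl, hl⟩ | ⟨rfl, rfl⟩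
  · have hc' : Ch N r 6 := by
      have := k.lie
      cases this
      exact hc
    have hN : Nat.card N ≤ oX (.D 4) (p ^ a) := hC ▸ Nat.le_mul_of_pos_left _ D.dd_pos
    rw [oD4] at hC hN
    have hK : ¬ r ∣ (p ^ a) ^ 12 * (((p ^ a) ^ 4 - 1) * (((p ^ a) ^ 2 - 1) * ((p ^ a) ^ 4 - 1) *
        (((p ^ a) ^ 1 - 1) * ((p ^ a) ^ 3 + 1)))) := by
      simp only [hr.dvd_mul (n := _ * _ * _), hr.dvd_mul (m := (p ^ a) ^ 12), hr.dvd_mul (m := _ * (_ - 1)),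
        hr.dvd_mul (m := (p ^ a) ^ 2 - 1), n0, n1 4 (by norm_num), n1 2 (by norm_num), n2, or_self, not_false_eq_true]
    have hk := kF4 (q := p ^ a) (by omega)
    rcases hl with rfl | rfl
    · refine bd R hr h5 hp ho ha hc' ht (by rw [hC, six_eq (by omega)]; ring) hK (Or.inl ⟨rfl, rfl⟩) ?_
      change (p ^ a) ^ 24 * [(p ^ a) ^ 2 - 1, (p ^ a) ^ 6 - 1, (p ^ a) ^ 8 - 1, (p ^ a) ^ 12 - 1].prod ≤ 1 * T at hU
      simp only [List.prod_cons, List.prod_nil, mul_one, one_mul] at hU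
      generalize p ^ a = q at *
      calc _ ≤ q ^ (3 * 8) * _ := Nat.mul_le_mul_left _ hN
        _ = q ^ 24 * ((q ^ 2 - 1) * ((q ^ 6 - 1) * (q ^ 12 * ((q ^ 4 - 1) * (q ^ 4 - 1))))) := by ring
        _ ≤ _ := le_trans (by gcongr) hU
    · refine bd R hr h5 hp ho ha hc' ht (by rw [hC, six_eq (by omega)]; ring) hK (Or.inr (Or.inl ⟨rfl, rfl⟩)) ?_
      change (p ^ a) ^ 36 * [(p ^ a) ^ 2 - 1, (p ^ a) ^ 5 - 1, (p ^ a) ^ 6 - 1, (p ^ a) ^ 8 - 1, (p ^ a) ^ 9 - 1,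
        (p ^ a) ^ 12 - 1].prod ≤ 3 * T at hU
      simp only [List.prod_cons, List.prod_nil, mul_one] at hU
      have hk2 := kE6 hq
      generalize p ^ a = q at *
      refine Nat.le_of_mul_le_mul_left (le_trans ?_ hU) three_pos
      calc _ ≤ 3 * (q ^ (3 * 16) * _) := Nat.mul_le_mul_left _ (Nat.mul_le_mul_left _ hN)
        _ = q ^ 36 * ((q ^ 2 - 1) * (q ^ 6 - 1)) * (3 * q ^ 12 * (q ^ 12 * ((q ^ 4 - 1) * (q ^ 4 - 1)))) := by ring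
        _ ≤ q ^ 36 * ((q ^ 2 - 1) * (q ^ 6 - 1)) * ((q ^ 5 - 1) * (q ^ 9 - 1) * ((q ^ 8 - 1) * (q ^ 12 - 1))) := by gcongr
        _ = _ := by ring
  · have hc' : Ch N r 6 := by
      have := k.lie
      cases this
      exact hc
    change 1 * _ = (p ^ a) ^ 6 * (((p ^ a) ^ 2 - 1) * ((p ^ a) ^ 6 - 1)) at hC
    have hK : ¬ r ∣ (p ^ a) ^ 6 * (((p ^ a) ^ 2 - 1) * (((p ^ a) ^ 1 - 1) * ((p ^ a) ^ 3 + 1))) := fun h =>
      (hr.dvd_mul.1 h).elim (n0 6) fun h => (hr.dvd_mul.1 h).elim (n1 2 (by norm_num)) n2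
    refine bd R hr h5 hp ho ha hc' ht (by rw [hC, six_eq (by omega)]; ring) hK (Or.inr (Or.inr ⟨rfl, rfl⟩)) ?_
    change (p ^ a) ^ 120 * [(p ^ a) ^ 2 - 1, (p ^ a) ^ 8 - 1, (p ^ a) ^ 12 - 1, (p ^ a) ^ 14 - 1, (p ^ a) ^ 18 - 1,
      (p ^ a) ^ 20 - 1, (p ^ a) ^ 24 - 1, (p ^ a) ^ 30 - 1].prod ≤ 1 * T at hU
    simp only [List.prod_cons, List.prod_nil, mul_one, one_mul] at hU hC
    have hk := kE8 (q := p ^ a) D.real.ok
    rw [hC]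
    generalize p ^ a = q at *
    calc _ = q ^ 120 * ((q ^ 2 - 1) * (q ^ 120 * (q ^ 6 - 1))) := by ring
      _ ≤ q ^ 120 * ((q ^ 2 - 1) * _) := Nat.mul_le_mul_left _ (Nat.mul_le_mul_left _ hk)
      _ ≤ _ := le_trans (le_of_eq (by ring)) hU

end Cfsg.Agent.N2.Ex.Sm.Sc
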