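import Cfsg.Agent.N2.Ex.Sim.Num
import Cfsg.Agent.H364.LieNam
import Cfsg.Agent.OrdDiv.Table

/-!
# N2 (S3519), exceptional groups, simple socle in the defining characteristic: interface (helper69)
-/

set_option autoImplicit false

namespace Cfsg.Agent.N2.Ex.Sm.Df

open Cfsg Cfsg.Agent.H902 Cfsg.Agent.OrdDiv

/-- a row for the named groups; `Q X l p a e` : shape `X` over the field of `p ^ a` elements inside the exceptional group of rank `l`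
over the field of `p ^ e` elements -/
def RowN (Q : Art.Sh → ℕ → ℕ → ℕ → ℕ → Prop) : Prop := Cf → ∀ (l : ℕ) (tw : Bool) (p e T : ℕ) (N : Type) [Group N] [Finite N]
  [IsSimpleGroup N] (G : Prop) (c d : N → ℕ) (g : Grp) (X : Art.Sh) (a : ℕ), ¬ IsMulCommutative N → Nm N g X p a → Q X l p a e →
  Rx l tw p e T N G c d → G

/-- the rows which need Scott's lemma -/
def qSc : Art.Sh → ℕ → ℕ → ℕ → ℕ → Prop := fun X _ _ _ _ => X = .L 2 ∨ X = .L 3 ∨ X = .U 3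
/-- `D₄(q)` in `F₄(q)`, `E₆(q)`, `²E₆(q)` and `G₂(q)` in `E₈(q)` -/
def qBd : Art.Sh → ℕ → ℕ → ℕ → ℕ → Prop := fun X l _ a e => a = e ∧ (X = .D 4 ∧ (l = 4 ∨ l = 6) ∨ X = .G2 ∧ l = 8)
/-- four small pairs -/
def qSm : Art.Sh → ℕ → ℕ → ℕ → ℕ → Prop := fun X l p a e => a = 1 ∧ e = 1 ∧
  (p = 2 ∧ X = .C 3 ∧ l = 6 ∨ X = .D 4 ∧ (p = 2 ∧ (l = 7 ∨ l = 8) ∨ p = 3 ∧ l = 7))
/-- the rest -/
def qEn : Art.Sh → ℕ → ℕ → ℕ → ℕ → Prop := fun X l p a e => ¬ qSc X l p a e ∧ ¬ qBd X l p a e ∧ ¬ qSm X l p a e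

theorem RowN.or {Q Q₁ Q₂ : Art.Sh → ℕ → ℕ → ℕ → ℕ → Prop} (h₁ : RowN Q₁) (h₂ : RowN Q₂)
    (h : ∀ X l p a e, Q X l p a e → Q₁ X l p a e ∨ Q₂ X l p a e) : RowN Q :=
  fun cf l tw p e T N _ _ _ G c d g X a hn k hQ R =>
    (h X l p a e hQ).elim (fun h1 => h₁ cf l tw p e T N G c d g X a hn k h1 R) fun h1 => h₂ cf l tw p e T N G c d g X a hn k h1 R

/-- **assembly** -/
theorem row_of (h1 : RowN qSc) (h2 : RowN qBd) (h3 : RowN qSm) (h4 : RowN qEn) : Row qDef := by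
  intro cf l tw p e T N _ _ _ G c d hn hQ R
  obtain ⟨g, X, a, k1, k2, k3⟩ := H364.LieNam.lie_nam OrdDiv.table R.real.hp hQ
  have k : Nm N g X p a := ⟨k1, k2, k3⟩
  by_cases a1 : qSc X l p a e
  · exact h1 cf l tw p e T N G c d g X a hn k a1 R
  by_cases a2 : qBd X l p a e
  · exact h2 cf l tw p e T N G c d g X a hn k a2 R
  by_cases a3 : qSm X l p a e
  · exact h3 cf l tw p e T N G c d g X a hn k a3 R
  exact h4 cf l tw p e T N G c d g X a hn k ⟨a1, a2, a3⟩ R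

end Cfsg.Agent.N2.Ex.Sm.Df
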