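import Cfsg.Agent.N2.Ex.Sim.Sieve
import Cfsg.Agent.N2.Ex.Sim.DfDefs
import Cfsg.Agent.N2.Tri.L2
import Cfsg.Agent.N2.Tri.L3
import Cfsg.Agent.N2.Tri.U3
import Cfsg.Agent.N2.Cl.RAlt.Tri
import Cfsg.Agent.S0252
import Cfsg.Agent.S0253
import Cfsg.Agent.S0254

/-!
# N2 (S3519), exceptional groups, small simple socles in the defining characteristic (helper93)
-/

set_option autoImplicit false
set_option maxRecDepth 100000

namespace Cfsg.Agent.N2.Ex.Sm.Sl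

open Cfsg Cfsg.Agent.H902 Cfsg.Agent.H902.Names Cfsg.Agent.OrdDiv Cfsg.Agent.N2.Ex.Sm.Df
open Cfsg.Agent.N2C.RD (PdX oX gX)
open Cfsg.Agent.N2C.RX (ordm ordm_eq)

variable {l : ℕ} {tw : Bool} {p e T a : ℕ} {N : Type} [Group N] [Finite N] {G : Prop} {c d : N → ℕ} {g : Grp} {X : Art.Sh}

theorem own [IsSimpleGroup N] (hn : ¬ IsMulCommutative N) (k : Nm N g X p a) (R : Rx l tw p e T N G c d) (o A : ℕ) (els : List El)
    (tris : List (ℕ × ℕ × ℕ)) (h1 : Art.dd X (p ^ a) * o = oX X (p ^ a) ∧ gX X p * a * oX X (p ^ a) = A ∧ A % o = 0 ∧ A ≠ 0 ∧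
      WW els tris ≠ 0) (hE : ∀ x ∈ els, x.Ok N) (hT : Nat.card N = o → ∀ x ∈ tris, Tr N x.1 x.2.1 x.2.2)
    (h : allT 0 (fun l tw => chkP l tw p o A els tris) = true) : G := by
  have D := k.nd hn
  have ho : Nat.card N = o := Nat.eq_of_mul_eq_mul_left D.dd_pos (D.card.trans h1.1.symm)
  exact R.chkP ho (D.aut.trans h1.2.1).dvd (Nat.dvd_of_mod_eq_zero h1.2.2.1) h1.2.2.2.1 hE (hT ho) h1.2.2.2.2
    (allT_sound h R.typ (Nat.zero_le _))

theorem el_of (B : NB) (k : Nm N g X p a) (r i : ℕ) {h : ℕ} (hr : r.Prime) (h1 : 5 ≤ r ∧ r ≠ p ∧ ordm (p ^ a) r = i ∧ i ≠ 0)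
    (hX : PdX X i) (h2 : hh g i = h) : El.Ok ⟨r, h, 0⟩ N := by
  obtain ⟨h5, hp, rfl, h0⟩ := h1
  have : Fact r.Prime := ⟨hr⟩
  refine ⟨hr, h5, ?_, fun h => absurd rfl h⟩
  have := (B.cj k.lie X p a N k).1 r a hr h5 hp dvd_rfl (.inl rfl)
  rw [ordm_eq h0] at this
  exact h2 ▸ this hX

omit [Finite N] in
theorem el_cj {r j h : ℕ} (k : Tg.Cj N r j) (hr : r.Prime) (h1 : 5 ≤ r ∧ ordm j r = h ∧ h ≠ 0) : El.Ok ⟨r, h, 0⟩ N := by
  obtain ⟨h5, rfl, h0⟩ := h1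
  have : Fact r.Prime := ⟨hr⟩
  exact ⟨hr, h5, Ch.of_cj k (ordm_eq h0).symm.dvd, fun h => absurd rfl h⟩

theorem pp_eq {r b : ℕ} (hp : p.Prime) (hr : r.Prime) (hb : b ≠ 0) (h : p ^ a = r ^ b) : p = r ∧ a = b := by
  obtain rfl : r = p := (Nat.prime_dvd_prime_iff_eq hr hp).1 (hr.dvd_of_dvd_pow (h ▸ dvd_pow_self r hb))
  exact ⟨rfl, Nat.pow_right_injective hr.two_le h⟩

theorem one_mem {α : Type} {P : α → Prop} {x : α} (h : P x) : ∀ y ∈ [x], P y := fun _ hy => List.mem_singleton.1 hy ▸ h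

theorem two_mem {α : Type} {P : α → Prop} {x y : α} (h : P x) (k : P y) : ∀ z ∈ [x, y], P z :=
  List.forall_mem_cons.2 ⟨h, one_mem k⟩

theorem no_mem {α : Type} {P : α → Prop} : ∀ z ∈ ([] : List α), P z := fun _ h => absurd h List.not_mem_nil

/-- **the four small pairs** -/
theorem rowSm (B : NB) : RowN qSm := by
  intro _ l tw p e T N _ _ _ G c d g X a hn k hQ R
  obtain ⟨rfl, -, ⟨rfl, rfl, -⟩ | ⟨rfl, ⟨rfl, -⟩ | ⟨rfl, -⟩⟩⟩ := hQ
  · have h := k.lie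
    cases h with
    | oodd _ _ _ _ h => exact absurd h (by decide)
    | psp =>
      exact own hn k R 1451520 1451520 [⟨7, 6, 0⟩, ⟨5, 4, 0⟩] [] (by decide +kernel)
        (two_mem (el_of B k 7 3 (by norm_num) (by decide +kernel) ⟨by norm_num, .inl le_rfl⟩ rfl)
          (el_of B k 5 4 (by norm_num) (by decide +kernel) ⟨by norm_num, .inr ⟨rfl, by norm_num⟩⟩ rfl))
        (fun _ => no_mem) (by decide +kernel)
  · have h := k.lie
    cases h
    exact own hn k R 174182400 1045094400 [⟨7, 6, 0⟩, ⟨5, 4, 0⟩] [] (by decide +kernel)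
      (two_mem (el_of B k 7 3 (by norm_num) (by decide +kernel) ⟨by norm_num, .inl (by norm_num)⟩ rfl)
        (el_of B k 5 4 (by norm_num) (by decide +kernel) ⟨by norm_num, .inl le_rfl⟩ rfl))
      (fun _ => no_mem) (by decide +kernel)
  · have h := k.lie
    cases h
    exact own hn k R 4952179814400 118852315545600 [⟨13, 6, 0⟩, ⟨5, 4, 0⟩] [] (by decide +kernel)
      (two_mem (el_of B k 13 3 (by norm_num) (by decide +kernel) ⟨by norm_num, .inl (by norm_num)⟩ rfl)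
        (el_of B k 5 4 (by norm_num) (by decide +kernel) ⟨by norm_num, .inl le_rfl⟩ rfl))
      (fun _ => no_mem) (by decide +kernel)

/-- the nine small groups -/
def qS9 : Art.Sh → ℕ → ℕ → ℕ → ℕ → Prop := fun X _ p a _ =>
  X = .L 2 ∧ (p ^ a = 4 ∨ p ^ a = 5 ∨ p ^ a = 7 ∨ p ^ a = 9 ∨ p ^ a = 11) ∨ X = .L 3 ∧ (p ^ a = 2 ∨ p ^ a = 4) ∨
    X = .U 3 ∧ (p ^ a = 3 ∨ p ^ a = 5)

/-- three triples -/
structure T3 : Prop where
  l7 : ∀ (N : Type) [Group N], Real (.psl 2 7) N → Tr N 3 3 4 ∨ Tr N 3 4 4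
  l11 : ∀ (N : Type) [Group N], Real (.psl 2 11) N → Tr N 2 5 5
  u3 : ∀ (N : Type) [Group N], Real (.psu 3 3) N → Tr N 2 7 7 ∨ Tr N 2 8 8

theorem rowS9_of (t : T3) : RowN qS9 := by
  intro _ l tw p e T N _ _ _ G c d g X a hn k hQ R
  have hp := R.hp
  have h := k.lie
  rcases hQ with ⟨rfl, h1 | h1 | h1 | h1 | h1⟩ | ⟨rfl, h1 | h1⟩ | ⟨rfl, h1 | h1⟩ <;> cases h
  · obtain ⟨rfl, rfl⟩ := pp_eq (r := 2) (b := 2) hp (by norm_num) (by norm_num) h1
    obtain ⟨F, _, _, hF, ⟨f⟩⟩ := k.real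
    obtain ⟨f'⟩ := S0252.result hF
    exact own hn k R 60 120 [] [(2, 3, 5)] (by decide +kernel) no_mem
      (fun _ => one_mem ((Tr.of_tri N2C.RAlt.tri_5_2_3_5).congr (f.trans f').symm)) (by decide +kernel)
  · obtain ⟨rfl, rfl⟩ := pp_eq (r := 5) (b := 1) hp (by norm_num) (by norm_num) h1
    obtain ⟨F, _, _, hF, ⟨f⟩⟩ := k.real
    obtain ⟨f'⟩ := S0253.result hF
    exact own hn k R 60 120 [] [(2, 3, 5)] (by decide +kernel) no_mem
      (fun _ => one_mem ((Tr.of_tri N2C.RAlt.tri_5_2_3_5).congr (f.trans f').symm)) (by decide +kernel)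
  · obtain ⟨rfl, rfl⟩ := pp_eq (r := 7) (b := 1) hp (by norm_num) (by norm_num) h1
    rcases t.l7 N k.real with h | h
    exacts [own hn k R 168 336 [] [(3, 3, 4)] (by decide +kernel) no_mem (fun _ => one_mem h) (by decide +kernel),
      own hn k R 168 336 [] [(3, 4, 4)] (by decide +kernel) no_mem (fun _ => one_mem h) (by decide +kernel)]
  · obtain ⟨rfl, rfl⟩ := pp_eq (r := 3) (b := 2) hp (by norm_num) (by norm_num) h1
    obtain ⟨F, _, _, hF, ⟨f⟩⟩ := k.real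
    obtain ⟨f'⟩ := S0254.result hF
    exact own hn k R 360 1440 [] [(2, 4, 5)] (by decide +kernel) no_mem
      (fun _ => one_mem ((Tr.of_tri N2C.RAlt.tri_6_2_4_5).congr (f.trans f').symm)) (by decide +kernel)
  · obtain ⟨rfl, rfl⟩ := pp_eq (r := 11) (b := 1) hp (by norm_num) (by norm_num) h1
    exact own hn k R 660 1320 [] [(2, 5, 5)] (by decide +kernel) no_mem (fun _ => one_mem (t.l11 N k.real)) (by decide +kernel)
  · obtain ⟨rfl, rfl⟩ := pp_eq (r := 2) (b := 1) hp (by norm_num) (by norm_num) h1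
    have h := Tg.L2.dat_l3_2 k.real
    exact own hn k R 168 336 [⟨7, 3, 0⟩] [(2, 3, 7)] (by decide +kernel) (one_mem (el_cj h.2 (by norm_num) (by decide +kernel)))
      (fun _ => one_mem (Tr.of_tri h.1)) (by decide +kernel)
  · obtain ⟨rfl, rfl⟩ := pp_eq (r := 2) (b := 2) hp (by norm_num) (by norm_num) h1
    have D := k.nd hn
    have h := Tg.L3.dat_l3_4 k.real (Nat.eq_of_mul_eq_mul_left D.dd_pos (D.card.trans (by decide +kernel)))
    exact own hn k R 20160 241920 [⟨7, 3, 0⟩] [(2, 4, 7)] (by decide +kernel)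
      (one_mem (el_cj h.2.1 (by norm_num) (by decide +kernel))) (fun _ => one_mem (Tr.of_tri h.1)) (by decide +kernel)
  · obtain ⟨rfl, rfl⟩ := pp_eq (r := 3) (b := 1) hp (by norm_num) (by norm_num) h1
    have D := k.nd hn
    have h := Tg.U3.dat_u3_3 k.real (Nat.eq_of_mul_eq_mul_left D.dd_pos (D.card.trans (by decide +kernel)))
    have h2 : El.Ok ⟨7, 3, 0⟩ N := el_cj h.2.1 (by norm_num) (by decide +kernel)
    rcases t.u3 N k.real with h | h
    exacts [own hn k R 6048 12096 [⟨7, 3, 0⟩] [(2, 7, 7)] (by decide +kernel) (one_mem h2) (fun _ => one_mem h) (by decide +kernel),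
      own hn k R 6048 12096 [⟨7, 3, 0⟩] [(2, 8, 8)] (by decide +kernel) (one_mem h2) (fun _ => one_mem h) (by decide +kernel)]
  · obtain ⟨rfl, rfl⟩ := pp_eq (r := 5) (b := 1) hp (by norm_num) (by norm_num) h1
    have h := Tg.U3.dat_u3_5 k.real
    exact own hn k R 126000 756000 [⟨7, 3, 0⟩] [(2, 5, 7)] (by decide +kernel)
      (one_mem (el_cj h.2 (by norm_num) (by decide +kernel))) (fun _ => one_mem (Tr.of_tri h.1)) (by decide +kernel)

end Cfsg.Agent.N2.Ex.Sm.Sl
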