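import Cfsg.Agent.N2.Ex.Sim.Defs

/-!
# N2, exceptional groups: the dimensions of the centralisers of semisimple elements of small order (helper71)
-/

set_option autoImplicit false
set_option linter.unusedSectionVars false

namespace Cfsg.Agent.N2.Ex.Sm

open CoxeterSystem Cfsg Cfsg.Lie Cfsg.Lie.ChevalleyDatum Cfsg.Agent.ChevalleyStructure Cfsg.Agent.ChevalleyStructure.CoxeterGeom
open Cfsg.Agent.Tits.Roots Cfsg.Agent.Nodes.RGDChev Cfsg.Agent.H316.U6 Cfsg.Agent.DS.Ex Cfsg.Agent.DS.Nt Cfsg.Agent.H931.KC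
open Cfsg.Agent.SB.Exc.CI Cfsg.Agent.N2.Ex.Cb Cfsg.Agent.H469.Exc

namespace Val

/-- the scalar product -/
def dt : List ℕ → List ℕ → ℕ
  | m :: ms, x :: xs => m * x + dt ms xs
  | [], _ => 0
  | _ :: _, [] => 0

theorem dt_realised : True := by have := @dt.eq_def; trivial

/-- all vectors `v` with `m · v ≤ n` -/
def al : List ℕ → ℕ → (List ℕ → Bool) → Bool
  | [], _, f => f []
  | m :: ms, n, f => (List.range (n + 1)).all fun c => !(Nat.ble (m * c) n) || al ms (n - m * c) fun v => f (c :: v)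

theorem al_realised : True := by have := @al.eq_def; trivial

/-- the number of roots killed by `v` modulo `a` -/
def ct (T : List (List ℕ)) (a : ℕ) (v : List ℕ) : ℕ :=
  ((T.map (dt v)).filter fun y => Nat.beq (y % a) (8 * v.sum % a)).length

/-- the check -/
def ck (T : List (List ℕ)) (m : List ℕ) (l : ℕ) : Bool := [2, 3, 4, 5].all fun a => al m a fun v => (kv l a).elem (l + ct T a v)

theorem dt_ofFn {l : ℕ} (c x : Fin l → ℕ) : dt (List.ofFn c) (List.ofFn x) = ∑ i, c i * x i := by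
  induction l with
  | zero => rfl
  | succ l ih => rw [List.ofFn_succ, List.ofFn_succ, dt, ih, Fin.sum_univ_succ]

theorem al_spec {l : ℕ} (m c : Fin l → ℕ) (hm : ∀ i, 0 < m i) {n : ℕ} (h : ∑ i, m i * c i ≤ n) {f : List ℕ → Bool}
    (hf : al (List.ofFn m) n f = true) : f (List.ofFn c) = true := by
  induction l generalizing n f with
  | zero => exact hf
  | succ l ih =>
    rw [List.ofFn_succ, al, List.all_eq_true] at hf
    rw [Fin.sum_univ_succ] at h
    have h1 := Nat.le_mul_of_pos_left (c 0) (hm 0)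
    have h2 := hf (c 0) (List.mem_range.2 (by omega))
    rw [Nat.ble_eq_true_of_le (show m 0 * c 0 ≤ n by omega), Bool.not_true, Bool.false_or] at h2
    rw [List.ofFn_succ]
    exact ih (fun i => m i.succ) (fun i => c i.succ) (fun i => hm _) (by omega) h2

theorem ckF4 : ck t0F4 [2, 4, 3, 2] 4 = true := by decide +kernel
theorem ckE6 : ck t0E6 [1, 2, 2, 3, 2, 1] 6 = true := by decide +kernel
theorem ckE7 : ck t0E7 [2, 2, 3, 4, 3, 2, 1] 7 = true := by decide +kernel
theorem ckE8 : ck t0E8 [2, 3, 4, 6, 5, 4, 3, 2] 8 = true := by decide +kernel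

theorem mF4 : (List.ofFn fun i => (hr chevF4 4 i).toNat) = [2, 4, 3, 2] := by decide +kernel
theorem mE6 : (List.ofFn fun i => (hr chevE6 6 i).toNat) = [1, 2, 2, 3, 2, 1] := by decide +kernel
theorem mE7 : (List.ofFn fun i => (hr chevE7 7 i).toNat) = [2, 2, 3, 4, 3, 2, 1] := by decide +kernel
theorem mE8 : (List.ofFn fun i => (hr chevE8 8 i).toNat) = [2, 3, 4, 6, 5, 4, 3, 2] := by decide +kernel

/-- the number of roots for a zero pattern -/
def pat (z : Bool) (m : Fin 4 → Bool) : ℕ := (Finset.univ.filter fun s : Fin chevF4.nroots =>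
  (∀ i, m i = true → nrm chevF4 4 z (vec chevF4 4 s) i = 0) ∨ ∀ i, m i = true → nrm chevF4 4 z (vec chevF4 4 s) i = hz chevF4 4 z i).card

theorem f4 : ∀ z a b c d : Bool, pat z ![a, b, c, d] ≤ 8 ∨ pat z ![a, b, c, d] = 18 ∨ pat z ![a, b, c, d] = 48 ∨ z = true ∧
    ((∀ i, ![a, b, c, d] i = true → 2 ∣ hr chevF4 4 i) ∨ ∀ i, ![a, b, c, d] i = true → 3 ∣ hr chevF4 4 i) := by decide +kernel

variable {D : ChevalleyDatum} {l : ℕ} {M : CoxeterMatrix (Fin l)} (hp : IsType D l M) {a : ℕ} {c : Fin l → ℕ} {c0 : ℕ}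
include hp

theorem nK_eq (h7 : ∀ i, hr D l i ≤ 7) : nK D l a c = ct (tb D l false) a (List.ofFn c) := by
  rw [ct, tb, List.map_ofFn, length_filter_ofFn, nK]
  refine congrArg _ (Finset.filter_congr fun s _ => ?_)
  have h1 : nrm D l false (vec D l s) = vec D l s := by
    unfold nrm
    split_ifs
    exacts [rfl, add_zero _]
  have h2 := fun i => (nrm_bd hp (isRoot_vec hp M.toCoxeterSystem s.2) false i).1
  rw [Nat.beq_eq, Function.comp_apply, dg, dt_ofFn, List.sum_ofFn, ← Nat.ModEq, Nat.ModEq.comm, Nat.modEq_iff_dvd, bb_eq]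
  refine iff_of_eq (congrArg _ ?_)
  push_cast
  rw [Finset.mul_sum, ← Finset.sum_sub_distrib]
  refine Finset.sum_congr rfl fun i _ => ?_
  rw [Int.toNat_of_nonneg (by have := h2 i; have := h7 i; omega), h1]
  ring

theorem mem_kv (K : Kac D l a c c0) {T : List (List ℕ)} {m : List ℕ} (h7 : ∀ i, hr D l i ≤ 7) (hT : tb D l false = T)
    (hm : (List.ofFn fun i => (hr D l i).toNat) = m) (h : ck T m l = true) (h2 : 2 ≤ a) (h5 : a ≤ 5) : l + nK D l a c ∈ kv l a := by
  rw [nK_eq hp h7, hT]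
  refine List.mem_of_elem_eq_true (al_spec _ c (fun i => by have := hr_pos hp i; omega) ?_
    (hm ▸ List.all_eq_true.1 h a (by simp only [List.mem_cons]; omega)))
  have h3 := K.sum
  rw [Finset.sum_congr rfl fun i _ => congrArg (· * (c i : ℤ)) (Int.toNat_of_nonneg (hr_pos hp i).le).symm] at h3
  have h4 : c0 + ∑ i, (hr D l i).toNat * c i = a := by exact_mod_cast h3
  omega

theorem even_nK : nK D l a c % 2 = 0 := by
  have hv : ∀ s : Fin D.nroots, IsRoot M.toCoxeterSystem hp.isCartan (vec D l s) := fun s => isRoot_vec hp _ s.2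
  have h1 : ∀ s : Fin D.nroots, ∃ s' : Fin D.nroots, vec D l s' = -vec D l s := fun s => by
    obtain ⟨s', h, h'⟩ := (isRoot_iff hp M.toCoxeterSystem _).1 (hv s).neg
    exact ⟨⟨s', h⟩, h'⟩
  choose f hf using h1
  rw [← Nat.even_iff, ← ZMod.natCast_eq_zero_iff_even, nK, Finset.card_eq_sum_ones, Nat.cast_sum]
  refine Finset.sum_involution (fun s _ => f s) (fun _ _ => rfl) (fun s _ _ h => (hv s).ne_zero (funext fun i => ?_))
    (fun s hs => ?_) fun s _ => Fin.ext (vec_inj hp (f _).2 s.2 (by rw [hf, hf, neg_neg]))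
  · have h2 := congrFun (hf s) i
    rw [h, Pi.neg_apply] at h2
    rw [Pi.zero_apply]
    omega
  · rw [Finset.mem_filter] at hs ⊢
    exact ⟨Finset.mem_univ _, by rw [hf, map_neg, dvd_neg]; exact hs.2⟩

omit hp in
theorem nK_F4 {M : CoxeterMatrix (Fin 4)} (hp : IsType chevF4 4 M) {c : Fin 4 → ℕ} (K : Kac chevF4 4 a c c0) (h6 : a.Coprime 6) :
    nK chevF4 4 a c ≤ 8 ∨ nK chevF4 4 a c = 18 ∨ nK chevF4 4 a c = 48 := by
  let m : Fin 4 → Bool := fun i => decide (c i ≠ 0)
  have h1 : nK chevF4 4 a c = pat (decide (c0 = 0)) m := congrArg _ (Finset.filter_congr fun s _ => by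
    simp only [psi_iff hp K (isRoot_vec hp M.toCoxeterSystem s.2), m, decide_eq_true_eq])
  have h2 := f4 (decide (c0 = 0)) (m 0) (m 1) (m 2) (m 3)
  rw [show ![m 0, m 1, m 2, m 3] = m from funext fun i => by fin_cases i <;> rfl, ← h1] at h2
  have h3 : ∀ r : ℕ, r ∣ 6 → c0 = 0 → (∀ i, m i = true → (r : ℤ) ∣ hr chevF4 4 i) → r = 1 := fun r hr h0 h => by
    refine Nat.eq_one_of_dvd_coprimes h6 (Int.natCast_dvd_natCast.1 ?_) hr
    rw [← K.sum, h0, Nat.cast_zero, zero_add]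
    refine Finset.dvd_sum fun i _ => ?_
    by_cases e : c i = 0
    · rw [e, Nat.cast_zero, mul_zero]
      exact dvd_zero _
    · exact (h i (decide_eq_true e)).mul_right _
  rcases h2 with h | h | h | ⟨h, h' | h'⟩
  exacts [Or.inl h, Or.inr (Or.inl h), Or.inr (Or.inr h), absurd (h3 2 (by norm_num) (of_decide_eq_true h) h') (by norm_num),
    absurd (h3 3 (by norm_num) (of_decide_eq_true h) h') (by norm_num)]

end Val

/-- **[Val]** -/
theorem boxVal : BoxVal := by
  intro D l M hp hD p _ y a ha hy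
  have : NeZero (a : KK p) := ⟨cast_ne ha⟩
  obtain ⟨ζ, hζ⟩ := HasEnoughRootsOfUnity.exists_primitiveRoot (KK p) a
  obtain ⟨x, hx⟩ := exists_tor hp ha hy
  obtain ⟨w, c, c0, K, h1, -⟩ := exists_kac' hp (Nat.pos_of_ne_zero (ne_zero_of_coprime ha)) hζ hx (by rw [conj_pow, hy, mul_one, mul_inv_cancel])
  have h2 : dd p y = l + nK D l a c := (dd_conj x y).symm.trans (dd_of_kac hx hζ h1)
  have h3 := Val.even_nK hp (a := a) (c := c)
  have hl := hp.rank_eq
  have h0 := rank_eq_of_inList hp.inList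
  rw [h2]
  refine ⟨by omega, ?_⟩
  rcases hD with rfl | rfl | rfl | rfl
  · obtain rfl : 4 = l := (h0.2.2.2.1 rfl).symm.trans hl
    exact ⟨Val.mem_kv hp K eF4.1 eF4.2.1 Val.mF4 Val.ckF4, fun _ h => by have := Val.nK_F4 hp K h; omega⟩
  · obtain rfl : 6 = l := (h0.2.2.2.2.1 rfl).symm.trans hl
    exact ⟨Val.mem_kv hp K eE6.1 eE6.2.1 Val.mE6 Val.ckE6, fun h => absurd h (by norm_num)⟩
  · obtain rfl : 7 = l := (h0.2.2.2.2.2.1 rfl).symm.trans hl
    exact ⟨Val.mem_kv hp K eE7.1 eE7.2.1 Val.mE7 Val.ckE7, fun h => absurd h (by norm_num)⟩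
  · obtain rfl : 8 = l := (h0.2.2.2.2.2.2 rfl).symm.trans hl
    exact ⟨Val.mem_kv hp K eE8.1 eE8.2.1 Val.mE8 Val.ckE8, fun h => absurd h (by norm_num)⟩

end Cfsg.Agent.N2.Ex.Sm
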