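import Cfsg.Agent.N2.Ex.Defs
import Cfsg.Agent.N2.Cl.RD.Aut
import Cfsg.Agent.N2.Cl.RX.El
import Cfsg.Agent.H290.ElReg

/-!
# N2 (S3519), `F₄, E₆, ²E₆, E₇, E₈`, simple socle: interface (helper93)

Paper: `notes/N2/exc.md`.  `Rx` collects everything that the rows use of the frame.
-/

set_option autoImplicit false
set_option linter.unusedSectionVars false

namespace Cfsg.Agent.N2.Ex.Sm

open Cfsg Cfsg.Lie Cfsg.Lie.ChevalleyDatum Subgroup
open Cfsg.Agent.Nodes.RGDChev Cfsg.Agent.H316.U6 Cfsg.Agent.DS.Ex Cfsg.Agent.DS.Nt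
open Cfsg.Agent.H902 Cfsg.Agent.H902.Names Cfsg.Agent.OrdDiv
open Cfsg.Agent.SB.Exc (XF dM)
open Cfsg.Agent.H290.ElReg (Fth)
open Cfsg.Agent.N2C.RD (PdX)
open Cfsg.Agent.N2.Tg (Tri)

/-! ### the data of the simple subgroup -/

section N

variable (N : Type) [Group N]

/-- an element of order `r`, conjugate to its `j`-th power, `h` divides the order of `j` -/
def Ch (r h : ℕ) : Prop := ∃ (g : N) (j : ℕ), orderOf g = r ∧ IsConj g (g ^ j) ∧ h ∣ orderOf (j : ZMod r)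

/-- a generating triple -/
def Tr (a b c : ℕ) : Prop := ∃ x y : N, x ^ a = 1 ∧ y ^ b = 1 ∧ (x * y) ^ c = 1 ∧ closure ({x, y} : Set N) = ⊤

/-- `N` is the group of Lie type with the name `g`, the shape `X`, over the field of `r ^ a` elements -/
structure Nm (g : Grp) (X : Art.Sh) (r a : ℕ) : Prop where
  lie : IsLie g X r a
  real : OrdDiv.Real g N
  ord : Art.Real X r a (Nat.card N)

variable {N}

theorem Tr.of_tri {a b c : ℕ} (h : Tri N a b c) : Tr N a b c := by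
  obtain ⟨x, y, h1, h2, h3, h4⟩ := h
  exact ⟨x, y, h1, h2, h3 ▸ pow_orderOf_eq_one _, h4⟩

theorem Ch.of_cj {r j h : ℕ} (k : Tg.Cj N r j) (hh : h ∣ orderOf (j : ZMod r)) : Ch N r h := by
  obtain ⟨g, h1, h2⟩ := k
  exact ⟨g, j, h1, h2, hh⟩

theorem Ch.mono {r h h' : ℕ} (k : Ch N r h) (hh : h' ∣ h) : Ch N r h' := by
  obtain ⟨g, j, h1, h2, h3⟩ := k
  exact ⟨g, j, h1, h2, hh.trans h3⟩

theorem Ch.map {M : Type} [Group M] {r h : ℕ} (f : N →* M) (hf : Function.Injective f) (k : Ch N r h) : Ch M r h := by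
  obtain ⟨g, j, h1, h2, h3⟩ := k
  refine ⟨f g, j, by rw [orderOf_injective f hf, h1], ?_, h3⟩
  rw [← map_pow]
  exact f.map_isConj h2

theorem Ch.one [Finite N] {r : ℕ} (hr : r.Prime) (h : r ∣ Nat.card N) : Ch N r 1 := by
  have : Fact r.Prime := ⟨hr⟩
  obtain ⟨g, hg⟩ := exists_prime_orderOf_dvd_card' r h
  exact ⟨g, 1, hg, by rw [pow_one], one_dvd _⟩

theorem conj_pow_mul {g : N} {i j : ℕ} (h1 : IsConj g (g ^ i)) (h2 : IsConj g (g ^ j)) : IsConj g (g ^ (i * j)) :=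
  h2.trans (by rw [mul_comm, pow_mul, ← pow_mul, mul_comm, pow_mul]; exact h1.pow j)

/-- two conjugations of the same element -/
theorem Ch.lcm {g : N} {r i j : ℕ} (hg : orderOf g = r) (h1 : IsConj g (g ^ i)) (h2 : IsConj g (g ^ j)) :
    Ch N r (Nat.lcm (orderOf (i : ZMod r)) (orderOf (j : ZMod r))) := by
  obtain ⟨z, hz, h3⟩ := (Commute.all (i : ZMod r) j).exists_orderOf_eq_lcm
  obtain ⟨k, rfl, hk⟩ : ∃ k : ℕ, (k : ZMod r) = z ∧ IsConj g (g ^ k) := by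
    clear h3
    induction hz using Submonoid.closure_induction with
    | mem x hx =>
      rcases hx with rfl | rfl
      exacts [⟨i, rfl, h1⟩, ⟨j, rfl, h2⟩]
    | one => exact ⟨1, Nat.cast_one, by rw [pow_one]⟩
    | mul x y _ _ hx hy =>
      obtain ⟨a, rfl, ha⟩ := hx
      obtain ⟨b, rfl, hb⟩ := hy
      exact ⟨a * b, Nat.cast_mul a b, conj_pow_mul ha hb⟩
  exact ⟨g, k, hg, hk, h3.symm ▸ dvd_rfl⟩

theorem Nm.nd [Finite N] [IsSimpleGroup N] {g : Grp} {X : Art.Sh} {r a : ℕ} (h : Nm N g X r a) (hna : ¬ IsMulCommutative N) :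
    N2C.RD.Nd X r a N := N2C.RD.Nd.of ‹_› hna h.lie h.real h.ord

theorem Tr.congr {M : Type} [Group M] {a b c : ℕ} (e : N ≃* M) (h : Tr N a b c) : Tr M a b c := by
  obtain ⟨x, y, h1, h2, h3, h4⟩ := h
  exact ⟨e x, e y, by rw [← map_pow, h1, map_one], by rw [← map_pow, h2, map_one], by rw [← map_mul, ← map_pow, h3, map_one],
    Tg.closure_pair_map e.toMonoidHom e.surjective h4⟩

end N

/-- the order of `-q` if `i` is the order of `q` -/
def oneg (i : ℕ) : ℕ := if i % 2 = 1 then 2 * i else if i % 4 = 2 then i / 2 else i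

/-- the automizer of an element of prime order `r`; `i` is the order of the order of the field modulo `r` -/
def hh : Grp → ℕ → ℕ
  | .psl n _, i => if n = 2 then 2 else i
  | .psu _ _, i => oneg i
  | .psp _ _, i => Nat.lcm 2 i
  | .oodd m _, i => if i < m ∨ (i % 2 = 0 ∧ i + 2 ≤ 2 * m) then Nat.lcm 2 i else i / Nat.gcd i 2
  | .oplus m _, i => if i < m ∨ (i % 2 = 0 ∧ i + 4 ≤ 2 * m) then Nat.lcm 2 i else i / Nat.gcd i 2
  | .ominus m _, i => if i + 1 < m ∨ (i % 2 = 0 ∧ i + 2 ≤ 2 * m) then Nat.lcm 2 i else i / Nat.gcd i 2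
  | .g2 _, i => Nat.lcm 2 i
  | .f4 _, i => Nat.lcm 2 i
  | .e6 _, i => i / Nat.gcd i 3
  | .e7 _, i => i / Nat.gcd i 2
  | .e8 _, i => Nat.lcm 2 i
  | .te6 _, i => oneg i / Nat.gcd (oneg i) 3
  | .td4 _, i => if i = 12 then 4 else Nat.lcm 2 i
  | .sz _, i => i
  | .ree _, i => if i = 6 then 6 else 1
  | .tf4 _, i => if i = 4 then 4 else 1
  | _, _ => 1

theorem hh_realised : True := by have := @hh.eq_def; have := @hh.eq_1; have := @hh.eq_17; trivial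

/-- subfields are allowed -/
def sb : Grp → Bool
  | .psl _ _ => true
  | .psp _ _ => true
  | _ => false

theorem sb_realised : True := by have := @sb.eq_def; have := @sb.eq_1; have := @sb.eq_3; trivial

/-- the automizer of an element of order the characteristic `r`; `0` : nothing is claimed -/
def h0 : Grp → ℕ → ℕ → ℕ
  | .psl n _, r, a => if n = 2 then (if a % 2 = 1 then (r - 1) / 2 else r - 1) else if n = 3 then r - 1 else 0
  | .psu n _, r, _ => if n = 3 then r - 1 else 0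
  | .psp n _, r, _ => if n = 2 then r - 1 else 0
  | _, _, _ => 0

theorem h0_realised : True := by have := @h0.eq_def; have := @h0.eq_1; have := @h0.eq_4; trivial

/-- **[Cj]** for the name `g` -/
def CjG (g : Grp) : Prop := ∀ (X : Art.Sh) (s a : ℕ) (N : Type) [Group N] [Finite N], Nm N g X s a →
  (∀ r b : ℕ, r.Prime → 5 ≤ r → r ≠ s → b ∣ a → (b = a ∨ sb g = true) → PdX X (orderOf ((s ^ b : ℕ) : ZMod r)) →
    Ch N r (hh g (orderOf ((s ^ b : ℕ) : ZMod r)))) ∧ (5 ≤ s → h0 g s a ≠ 0 → Ch N s (h0 g s a))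

def BoxCjL : Prop := ∀ n q, CjG (.psl n q)
def BoxCjU : Prop := ∀ n q, CjG (.psu n q)
def BoxCjS : Prop := ∀ n q, CjG (.psp n q)
def BoxCjO : Prop := ∀ n q, CjG (.oodd n q) ∧ CjG (.oplus n q) ∧ CjG (.ominus n q)
def BoxCjX : Prop := ∀ q, CjG (.g2 q) ∧ CjG (.f4 q) ∧ CjG (.e6 q) ∧ CjG (.e7 q) ∧ CjG (.e8 q)
def BoxCjT : Prop := ∀ q, CjG (.te6 q) ∧ CjG (.td4 q)
def BoxCjZ : Prop := ∀ q, CjG (.sz q) ∧ CjG (.ree q) ∧ CjG (.tf4 q)

/-- **[L2]** -/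
def BoxL2 : Prop := ∀ (s a n : ℕ) (N : Type) [Group N], Nm N (.psl 2 (s ^ a)) (.L 2) s a → 7 ≤ n →
  (Nat.gcd 2 (s ^ a - 1) * n ∣ s ^ a + 1 ∨ Nat.gcd 2 (s ^ a - 1) * n ∣ s ^ a - 1) →
  (∀ b, b ∣ a → b < a → ¬ n ∣ s ^ b + 1 ∧ ¬ n ∣ s ^ b - 1) → Tr N 2 3 n

/-- **[L3]** -/
def BoxL3 : Prop := ∀ (s a : ℕ) (N : Type) [Group N], Nm N (.psl 3 (s ^ a)) (.L 3) s a → s ^ a ≠ 2 → s ^ a ≠ 4 →
  Tr N 2 (((s ^ a) ^ 2 + s ^ a + 1) / Nat.gcd 3 (s ^ a - 1)) (((s ^ a) ^ 2 + s ^ a + 1) / Nat.gcd 3 (s ^ a - 1))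

/-- **[U3]** -/
def BoxU3 : Prop := ∀ (s a : ℕ) (N : Type) [Group N], Nm N (.psu 3 (s ^ a)) (.U 3) s a → s ^ a ≠ 3 → s ^ a ≠ 5 →
  Tr N 2 (((s ^ a) ^ 2 - s ^ a + 1) / Nat.gcd 3 (s ^ a + 1)) (((s ^ a) ^ 2 - s ^ a + 1) / Nat.gcd 3 (s ^ a + 1))

/-- **[Sy]** -/
def BoxSy : Prop := ∀ (g : Grp) (X : Art.Sh) (s a : ℕ) (N : Type) [Group N], Nm N g X s a → X = .G2 ∨ X = .D 4 →
  ∃ t : N, orderOf t = (s ^ a) ^ 2 + s ^ a + 1

/-- the boxes on the side of the subgroup -/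
structure NB : Prop where
  cjL : BoxCjL
  cjU : BoxCjU
  cjS : BoxCjS
  cjO : BoxCjO
  cjX : BoxCjX
  cjT : BoxCjT
  cjZ : BoxCjZ
  l2 : BoxL2
  l3 : BoxL3
  u3 : BoxU3
  sy : BoxSy

theorem NB.cj (B : NB) {g : Grp} {X : Art.Sh} {s a : ℕ} (h : IsLie g X s a) : CjG g := by
  cases h
  exacts [B.cjL _ _, B.cjS _ _, (B.cjO _ _).1, B.cjU _ _, (B.cjO _ _).2.1, (B.cjO _ _).2.2, (B.cjX _).1, (B.cjX _).2.1,
    (B.cjX _).2.2.1, (B.cjX _).2.2.2.1, (B.cjX _).2.2.2.2, (B.cjT _).1, (B.cjT _).2, (B.cjZ _).1, (B.cjZ _).2.1, (B.cjZ _).2.2]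

/-! ### the data of the exceptional group -/

/-- the shape -/
def sh (l : ℕ) (tw : Bool) : Art.Sh :=
  if l = 4 then .F4 else if l = 6 then (if tw then .TE6 else .E6) else if l = 7 then .E7 else .E8

/-- the dimension -/
def dimT (l : ℕ) : ℕ := if l = 4 then 52 else if l = 6 then 78 else if l = 7 then 133 else 248

/-- the dimensions of the centralisers of the semisimple elements `y` with `y ^ a = 1`, `a = 2, 3, 4, 5` -/
def kv (l a : ℕ) : List ℕ :=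
  if l = 4 then
    if a = 2 then [24, 36, 52] else if a = 3 then [16, 22, 52] else if a = 4 then [12, 14, 18, 22, 24, 36, 52] else [12, 22, 52]
  else if l = 6 then
    if a = 2 then [38, 46, 78] else if a = 3 then [24, 28, 30, 36, 46, 78]
    else if a = 4 then [20, 22, 26, 28, 30, 36, 38, 46, 78] else [16, 18, 20, 26, 28, 30, 36, 46, 78]
  else if l = 7 then
    if a = 2 then [63, 69, 79, 133] else if a = 3 then [43, 49, 67, 79, 133]
    else if a = 4 then [33, 35, 37, 39, 47, 49, 63, 67, 69, 79, 133] else [27, 29, 33, 37, 39, 47, 49, 67, 79, 133]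
  else
    if a = 2 then [120, 136, 248] else if a = 3 then [80, 86, 92, 134, 248]
    else if a = 4 then [60, 64, 66, 70, 82, 92, 120, 134, 136, 248] else [48, 52, 54, 64, 68, 82, 92, 134, 248]

/-- **[Val]** -/
def BoxVal : Prop := ∀ (D : ChevalleyDatum) (l : ℕ) (M : CoxeterMatrix (Fin l)), IsType D l M → Typ D →
  ∀ (p : ℕ) [Fact p.Prime] (y : YY D p) (a : ℕ), a.Coprime p → y ^ a = 1 →
    (l ≤ dd p y ∧ dd p y % 2 = l % 2) ∧ (2 ≤ a → a ≤ 5 → dd p y ∈ kv l a) ∧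
      (l = 4 → a.Coprime 6 → dd p y ≤ 12 ∨ dd p y = 22 ∨ dd p y = 52)

/-- **[Six]** the automizer of an element with centraliser `D₄ T₂` in `E₆` has no element of order six -/
def BoxSix : Prop := ∀ (M : CoxeterMatrix (Fin 6)), IsType chevE6 6 M → ∀ (p : ℕ) [Fact p.Prime] (y : YY chevE6 p) (r j : ℕ),
  r.Prime → 5 ≤ r → r ≠ p → orderOf y = r → dd p y = 30 → IsConj y (y ^ j) → ¬ 6 ∣ orderOf (j : ZMod r)

/-- **[R2]** centralisers `E₆ T₂` in `E₈`, `A₂ T₂` in `F₄` -/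
def BoxR2 : Prop := ∀ (D : ChevalleyDatum) (l : ℕ) (M : CoxeterMatrix (Fin l)) (hp : IsType D l M) (p : ℕ) [Fact p.Prime]
  (q : ℕ) (K : Type) [Group K] (m : MData hp p q K) (a : K) (r : ℕ), r.Prime → 5 ≤ r → r ≠ p → orderOf a = r →
  orderOf (q : ZMod r) = 3 → (D = chevE8 ∧ dd p (m.ι a) = 80 ∨ D = chevF4 ∧ dd p (m.ι a) = 10) →
  cn a ≤ q ^ (dd p (m.ι a) - 2) * (q ^ 2 + q + 1)

/-- the pairs (number of roots, largest rank of the centre) of the centralisers with a centre of positive rank -/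
def zL (l : ℕ) : List (ℕ × ℕ) :=
  if l = 4 then [(0, 4), (2, 3), (4, 2), (6, 2), (8, 2), (10, 1), (12, 1), (18, 1)]
  else if l = 6 then [(0, 6), (2, 5), (4, 4), (6, 4), (8, 3), (10, 2), (12, 3), (14, 2), (16, 1), (20, 2), (22, 1), (24, 2), (30, 1), (40, 1)]
  else if l = 7 then [(0, 7), (2, 6), (4, 5), (6, 5), (8, 4), (10, 3), (12, 4), (14, 3), (16, 2), (18, 2), (20, 3), (22, 2), (24, 3),
    (26, 2), (28, 1), (30, 2), (32, 1), (40, 2), (42, 1), (60, 1), (72, 1)]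
  else [(0, 8), (2, 7), (4, 6), (6, 6), (8, 5), (10, 4), (12, 5), (14, 4), (16, 3), (18, 3), (20, 4), (22, 3), (24, 4),
    (26, 3), (28, 2), (30, 3), (32, 2), (34, 1), (36, 1), (40, 3), (42, 2), (44, 1), (46, 1), (56, 1), (60, 2),
    (62, 1), (72, 2), (74, 1), (84, 1), (126, 1)]

/-- the largest rank of the centre of a centraliser with `k` roots -/
def zT (l k : ℕ) : ℕ := ((zL l).lookup k).getD 0

/-- **[R3]** the order of the centraliser of a semisimple element; the case `A₂ A₂ T₂` of `E₆` -/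
def BoxR3 : Prop := ∀ (D : ChevalleyDatum) (l : ℕ) (M : CoxeterMatrix (Fin l)) (hp : IsType D l M), Typ D →
  ∀ (p : ℕ) [Fact p.Prime] (q : ℕ) (K : Type) [Group K] (m : MData hp p q K) (a : K), (orderOf a).Coprime p →
  (∀ k, dd p (m.ι a) = l + k →
    cn a ≤ (if (dM l).Coprime (orderOf a) then 1 else dM l) * (q ^ (l + k - zT l k) * (q + 1) ^ zT l k)) ∧
  ((orderOf a).Prime → 5 ≤ orderOf a → orderOf (q : ZMod (orderOf a)) = 3 → l = 6 → dd p (m.ι a) = 18 →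
    cn a ≤ q ^ 16 * (q ^ 2 + q + 1))

/-- `T` is the order of the exceptional group over the field of `p ^ e` elements, `G` is the goal, `c g` is the order of the
centraliser of `g`, `d g` is the dimension of the fixed space of `g` on the Lie algebra -/
structure Rx (l : ℕ) (tw : Bool) (p e T : ℕ) (N : Type) [Group N] (G : Prop) (c d : N → ℕ) : Prop where
  typ : l = 6 ∨ tw = false ∧ (l = 4 ∨ l = 7 ∨ l = 8)
  real : Art.Real (sh l tw) p e T
  dvd : Nat.card N ∣ T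
  lt : Nat.card N < T
  fth : ∃ (F : Type) (_ : Field F) (_ : CharP F p), Fth (dimT l) F N
  good1 : ∀ g, c g ^ 3 * Nat.card (MulAut N) ≤ T → G
  cen : ∀ g k, (orderOf g).Coprime p → d g ≤ l + k → c g ≤ dM l * ((p ^ e) ^ k * (p ^ e + 1) ^ l)
  conn : ∀ g k, (orderOf g).Coprime p → (dM l).Coprime (orderOf g) → d g ≤ l + k → c g ≤ (p ^ e) ^ k * (p ^ e + 1) ^ l
  scott : ∀ x y : N, closure ({x, y} : Set N) = ⊤ → d x + d y + d (x * y) ≤ dimT l + 2 * zc l p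
  lowp : ∀ (x : N) (k : ℕ), x ^ p ^ k = 1 → dimT l ≤ p ^ k * d x
  val : ∀ (x : N) (a : ℕ), a.Coprime p → x ^ a = 1 → (l ≤ d x ∧ d x % 2 = l % 2) ∧ (2 ≤ a → a ≤ 5 → d x ∈ kv l a) ∧
    (l = 4 → a.Coprime 6 → d x ≤ 12 ∨ d x = 22 ∨ d x = 52)
  mt : ∀ (g : N) (r : ℕ), r.Prime → 5 ≤ r → r ≠ p → orderOf g = r → ∃ f ∈ Cb.tpT l, ∃ n, d g = l + f.2 ∧ n ∣ f.1 ∧ n ∣ r - 1 ∧
    2 ∣ n ∧ orderOf ((p ^ e : ℕ) : ZMod r) ∣ n ∧ (∀ j : ℕ, IsConj g (g ^ j) → orderOf (j : ZMod r) ∣ n) ∧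
    (¬ r * Nat.card N ∣ Nat.card (MulAut N) → (∀ x : N, orderOf x = r → ∃ j : ℕ, IsConj x (g ^ j)) →
      (c g * n) ^ 3 * Nat.card N ≤ T * Nat.card (normalizer (zpowers g : Set N)) ^ 3 → G)
  six : ∀ (g : N) (r j : ℕ), r.Prime → 5 ≤ r → r ≠ p → orderOf g = r → l = 6 → d g = 30 → IsConj g (g ^ j) →
    ¬ 6 ∣ orderOf (j : ZMod r)
  r2 : ∀ (g : N) (r : ℕ), r.Prime → 5 ≤ r → r ≠ p → orderOf g = r → orderOf ((p ^ e : ℕ) : ZMod r) = 3 →
    (l = 8 ∧ d g = 80 ∨ l = 4 ∧ d g = 10) → c g ≤ (p ^ e) ^ (d g - 2) * ((p ^ e) ^ 2 + p ^ e + 1)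
  r3 : ∀ (g : N) (k : ℕ), (orderOf g).Coprime p → d g = l + k →
    c g ≤ (if (dM l).Coprime (orderOf g) then 1 else dM l) * ((p ^ e) ^ (l + k - zT l k) * (p ^ e + 1) ^ zT l k)
  r26 : ∀ (g : N) (r : ℕ), r.Prime → 5 ≤ r → r ≠ p → orderOf g = r → orderOf ((p ^ e : ℕ) : ZMod r) = 3 →
    l = 6 → d g = 18 → c g ≤ (p ^ e) ^ 16 * ((p ^ e) ^ 2 + p ^ e + 1)

/-- **[Rx]** -/
def BoxRx : Prop := BoxK → ∀ (D : ChevalleyDatum) (l : ℕ) (M : CoxeterMatrix (Fin l)) (hp : IsType D l M) (p : ℕ)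
  [Fact p.Prime] (tw : Bool) (f : ℕ) (G : Type) [Group G] [Finite G] (T H : Subgroup G) (F : XF hp p (p ^ f) T),
  NC tw f F H → ∀ N, Sim T H N → ∃ c d : N → ℕ, Rx l tw p f (Nat.card T) N (Gd T H) c d

/-- a row -/
def Row (Q : ℕ → Fam) : Prop := Cf → ∀ (l : ℕ) (tw : Bool) (p e T : ℕ) (N : Type) [Group N] [Finite N] [IsSimpleGroup N]
  (G : Prop) (c d : N → ℕ), ¬ IsMulCommutative N → Q p N → Rx l tw p e T N G c d → G

theorem sim_of (b : BoxRx) {Q : ℕ → Fam} (h : Row Q) : BoxSim Q := by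
  intro hK D l M hp p _ tw f G _ _ T H F C N hN hQ
  obtain ⟨c, d, R⟩ := b hK D l M hp p tw f G T H F C N hN
  have := hN.simple
  exact h C.cf l tw p f _ N _ c d hN.nonab hQ R

end Cfsg.Agent.N2.Ex.Sm
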