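import Cfsg.Agent.N2.Ex.Sim.R2B
import Cfsg.Agent.DL.PP.Det

/-!
# N2, box R3: the mean of `det (q - w g)` in any corank (helper53)

`sum_le` : `∑ det (q - w g) ≤ |W| q ^ (l - z) (q + 1) ^ z` if the roots and `z` further vectors span the space.
-/

set_option autoImplicit false
set_option linter.unusedSectionVars false

namespace Cfsg.Agent.N2.Ex.Sm.R3A

open Matrix

variable {R : Type} [Fintype R] [DecidableEq R]

theorem norm_det_le {A : Matrix R R ℂ} {N : ℕ} (hN : 0 < N) (h : A ^ N = 1) (q : ℕ) :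
    ‖((q : ℂ) • (1 : Matrix R R ℂ) - A).det‖ ≤ ((q : ℝ) + 1) ^ Fintype.card R := by
  have hs : A.charpoly.Splits := IsAlgClosed.splits _
  have h4 : A.charpoly.roots.card = Fintype.card R := by
    rw [← hs.natDegree_eq_card_roots, Matrix.charpoly_natDegree_eq_dim]
  have key : ∀ s : Multiset ℂ, (∀ μ ∈ s, ‖μ‖ = (1 : ℕ)) → ‖(s.map fun μ => (q : ℂ) - μ).prod‖ ≤ ((q : ℝ) + 1) ^ s.card := by
    intro s
    induction s using Multiset.induction_on with
    | empty => intro _; simp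
    | cons a s ih =>
      intro h
      rw [Multiset.map_cons, Multiset.prod_cons, Multiset.card_cons, norm_mul, pow_succ']
      refine mul_le_mul ((norm_sub_le _ _).trans ?_) (ih fun μ hμ => h μ (Multiset.mem_cons_of_mem hμ)) (norm_nonneg _)
        (by positivity)
      rw [h a (Multiset.mem_cons_self a s), Complex.norm_natCast, Nat.cast_one]
  have h5 := key A.charpoly.roots fun μ hμ => SB.Exc.Card.norm_root (q := 1) hN.ne'
    (by rw [h, Nat.cast_one, one_pow, one_smul]) (Polynomial.isRoot_of_mem_roots hμ)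
  rwa [h4, ← hs.eval_eq_prod_roots_of_monic (Matrix.charpoly_monic A), eval_charpoly, scalar_apply,
    ← smul_one_eq_diagonal] at h5

section

variable {S : Type} [Fintype S] [DecidableEq S] {π : Matrix S R ℂ} {κ : Matrix R S ℂ} (h : π * κ = 1)
  {V : Matrix R R ℂ} (hV : ∀ x, π *ᵥ x = 0 → π *ᵥ (V *ᵥ x) = 0)
include h hV

theorem proj_eq : π * V * κ * π = π * V := by
  refine Matrix.ext_of_mulVec_single fun j => ?_
  have h1 := hV ((1 - κ * π) *ᵥ Pi.single j 1) (by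
    rw [mulVec_mulVec, Matrix.mul_sub, Matrix.mul_one, ← Matrix.mul_assoc, h, Matrix.one_mul, sub_self, zero_mulVec])
  rw [mulVec_mulVec, mulVec_mulVec, Matrix.mul_sub, Matrix.mul_one, sub_mulVec, sub_eq_zero, ← Matrix.mul_assoc] at h1
  exact h1.symm

theorem pow_proj {N : ℕ} (hN : V ^ N = 1) : (π * V * κ) ^ N = 1 := by
  have h1 : ∀ n : ℕ, (π * V * κ) ^ n * π = π * V ^ n := fun n => by
    induction n with
    | zero => rw [pow_zero, pow_zero, Matrix.one_mul, Matrix.mul_one]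
    | succ n ih => rw [pow_succ, Matrix.mul_assoc, proj_eq h hV, ← Matrix.mul_assoc, ih, pow_succ, Matrix.mul_assoc]
  rw [← Matrix.mul_one (_ ^ N), ← h, ← Matrix.mul_assoc, h1, hN, Matrix.mul_one]

end

variable {W : Type} [Group W] [Fintype W]

section

variable (B : W →* Matrix R R ℂ) (M : Matrix R R ℂ) {Ψ : Set (R → ℂ)}
  (hs : ∀ c ∈ Ψ, ∃ s a, B s = 1 - vecMulVec c a ∧ a ⬝ᵥ c = 2)
include hs

theorem sum_span {c : R → ℂ} (hc : c ∈ Submodule.span ℂ Ψ) (V : Matrix R R ℂ) (x : R → ℂ) :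
    ∑ w, (M - B w * (V + vecMulVec c x)).det = ∑ w, (M - B w * V).det := by
  induction hc using Submodule.span_induction generalizing V x with
  | mem c hc =>
    obtain ⟨s, a, h1, h2⟩ := hs c hc
    exact DL.PP.sum_det_step B h1 h2 M V x
  | zero => rw [zero_vecMulVec, add_zero]
  | add c d _ _ h1 h2 => rw [add_vecMulVec, ← add_assoc, h2, h1]
  | smul a c _ h => rw [smul_vecMulVec, ← vecMulVec_smul, h]

theorem sum_cols {X : Matrix R R ℂ} (hX : ∀ j, Xᵀ j ∈ Submodule.span ℂ Ψ) (V : Matrix R R ℂ) :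
    ∑ w, (M - B w * (V + X)).det = ∑ w, (M - B w * V).det := by
  have h : ∀ J : Finset R, ∑ w, (M - B w * (V + ∑ j ∈ J, vecMulVec (Xᵀ j) (Pi.single j 1))).det =
      ∑ w, (M - B w * V).det := by
    intro J
    induction J using Finset.induction_on with
    | empty => simp
    | insert i J hi ih =>
      rw [Finset.sum_insert hi, add_comm (vecMulVec _ _), ← add_assoc, sum_span B M hs (hX i), ih]
  have h1 : ∑ j, vecMulVec (Xᵀ j) (Pi.single j 1) = X := by
    ext i j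
    simp [Matrix.sum_apply, vecMulVec_apply, Pi.single_apply]
  rw [← h Finset.univ, h1]

theorem sum_eq {S : Type} [Fintype S] [DecidableEq S] {π : Matrix S R ℂ} {κ : Matrix R S ℂ} (h : π * κ = 1)
    (hE : ∀ x, π *ᵥ x = 0 → x ∈ Submodule.span ℂ Ψ) (hB : ∀ w, π * B w = π) {V : Matrix R R ℂ}
    (hV : ∀ x, π *ᵥ x = 0 → π *ᵥ (V *ᵥ x) = 0) (hS : Fintype.card S ≤ Fintype.card R) (q : ℂ) :
    ∑ w, (q • (1 : Matrix R R ℂ) - B w * V).det =
      Fintype.card W * (q ^ (Fintype.card R - Fintype.card S) * (q • (1 : Matrix S S ℂ) - π * V * κ).det) := by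
  have h1 := sum_cols B (q • 1) hs (X := (1 - κ * π) * V) (fun j => hE _ (by
    have h2 : π * ((1 - κ * π) * V) = 0 := by
      rw [← Matrix.mul_assoc, Matrix.mul_sub, Matrix.mul_one, ← Matrix.mul_assoc, h, Matrix.one_mul, sub_self,
        Matrix.zero_mul]
    funext i
    exact congrFun (congrFun h2 i) j)) (κ * π * V)
  rw [← add_mul, add_sub_cancel, one_mul] at h1
  rw [h1, ← nsmul_eq_mul, ← Finset.card_univ, ← Finset.sum_const]
  refine Finset.sum_congr rfl fun w _ => ?_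
  have h2 := congrArg (Polynomial.eval q) (charpoly_mul_comm_of_le (B w * κ) (π * V) hS)
  rw [Polynomial.eval_mul, Polynomial.eval_pow, Polynomial.eval_X, eval_charpoly, eval_charpoly, scalar_apply, scalar_apply,
    ← smul_one_eq_diagonal, ← smul_one_eq_diagonal, ← Matrix.mul_assoc (π * V), ← proj_eq h hV, Matrix.mul_assoc _ π (B w), hB,
    proj_eq h hV] at h2
  rw [← h2]
  simp only [Matrix.mul_assoc]

end

/-- a projection with a given kernel -/
theorem exists_proj (E : Submodule ℂ (R → ℂ)) {ι : Type} [Fintype ι] (v : ι → R → ℂ)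
    (hv : E ⊔ Submodule.span ℂ (Set.range v) = ⊤) : ∃ (m : ℕ) (π : Matrix (Fin m) R ℂ) (κ : Matrix R (Fin m) ℂ),
    m ≤ Fintype.card ι ∧ π * κ = 1 ∧ ∀ x, π *ᵥ x = 0 ↔ x ∈ E := by
  let φ := (Module.finBasis ℂ ((R → ℂ) ⧸ E)).equivFun.toLinearMap ∘ₗ E.mkQ
  obtain ⟨ψ, hψ⟩ := φ.exists_rightInverse_of_surjective (LinearMap.range_eq_top.2
    ((Module.finBasis ℂ ((R → ℂ) ⧸ E)).equivFun.surjective.comp E.mkQ_surjective))
  refine ⟨_, LinearMap.toMatrix' φ, LinearMap.toMatrix' ψ, finrank_le_of_span_eq_top (v := E.mkQ ∘ v) ?_, ?_, fun x => ?_⟩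
  · rw [Set.range_comp, ← Submodule.map_span, Submodule.map_mkQ_eq_top, hv]
  · rw [← LinearMap.toMatrix'_comp, hψ, LinearMap.toMatrix'_id]
  · rw [LinearMap.toMatrix'_mulVec]
    exact (Module.finBasis ℂ ((R → ℂ) ⧸ E)).equivFun.map_eq_zero_iff.trans (Submodule.Quotient.mk_eq_zero E)

/-- the complexification -/
def cv : (R → ℤ) →+ (R → ℂ) := (Int.castAddHom ℂ).compLeft R

theorem cv_mulVec (X : Matrix R R ℤ) (x : R → ℤ) : (Int.castRingHom ℂ).mapMatrix X *ᵥ cv x = cv (X *ᵥ x) :=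
  funext fun i => ((Int.castRingHom ℂ).map_mulVec X x i).symm

theorem cv_single (i : R) : cv (Pi.single i 1) = Pi.single i 1 := by
  funext j
  show ((Pi.single i (1 : ℤ) : R → ℤ) j : ℂ) = _
  rw [Pi.single_apply, Pi.single_apply]
  split_ifs <;> simp

theorem cv_mem {Ψ : Set (R → ℤ)} {E : Submodule ℂ (R → ℂ)} (h : ∀ a ∈ Ψ, cv a ∈ E) {x : R → ℤ}
    (hx : x ∈ AddSubgroup.closure Ψ) : cv x ∈ E :=
  (AddSubgroup.closure_le (E.toAddSubgroup.comap cv)).2 h hx

/-- **The mean, any corank.** -/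
theorem sum_le (B : W →* Matrix R R ℤ) {Ψ : Set (R → ℤ)} (hs : ∀ c ∈ Ψ, ∃ s a, B s = 1 - vecMulVec c a ∧ a ⬝ᵥ c = 2)
    (hB : ∀ w x, B w *ᵥ x - x ∈ AddSubgroup.closure Ψ) {V : Matrix R R ℤ} (hV : ∀ a ∈ Ψ, V *ᵥ a ∈ Ψ) {N : ℕ} (hN : 0 < N)
    (hVN : V ^ N = 1) (T : Finset R)
    (hT : ∀ i, ∃ m : ℤ, m ≠ 0 ∧ m • Pi.single i 1 ∈ AddSubgroup.closure (Ψ ∪ (fun j => Pi.single j 1) '' T))
    {z : ℕ} (h1 : T.card ≤ z) (h2 : z ≤ Fintype.card R) (q : ℕ) :
    ∑ w, ((q : ℤ) • (1 : Matrix R R ℤ) - B w * V).det ≤ (Fintype.card W * (q ^ (Fintype.card R - z) * (q + 1) ^ z) : ℕ) := by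
  let f := (Int.castRingHom ℂ).mapMatrix (m := R)
  obtain ⟨m, π, κ, h3, h4, h5⟩ := exists_proj (Submodule.span ℂ (cv '' Ψ)) (fun j : T => Pi.single j.1 1) (by
    rw [eq_top_iff, ← (Pi.basisFun ℂ R).span_eq, Submodule.span_le]
    rintro _ ⟨i, rfl⟩
    obtain ⟨m, h3, h4⟩ := hT i
    have h5 := cv_mem (E := Submodule.span ℂ (cv '' Ψ) ⊔ Submodule.span ℂ (Set.range fun j : T => Pi.single j.1 1)) (by
      rintro a (ha | ⟨j, hj, rfl⟩)
      · exact Submodule.mem_sup_left (Submodule.subset_span ⟨a, ha, rfl⟩)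
      · exact Submodule.mem_sup_right (Submodule.subset_span ⟨⟨j, hj⟩, (cv_single j).symm⟩)) h4
    rw [map_zsmul, cv_single, ← Int.cast_smul_eq_zsmul ℂ, Submodule.smul_mem_iff _ (Int.cast_ne_zero.2 h3)] at h5
    rwa [Pi.basisFun_apply])
  rw [Fintype.card_coe] at h3
  have hV' : ∀ x, π *ᵥ x = 0 → π *ᵥ (f V *ᵥ x) = 0 := fun x hx => (h5 _).2
    ((Submodule.span_le (p := (Submodule.span ℂ (cv '' Ψ)).comap (f V).mulVecLin)).2 (by
      rintro _ ⟨a, ha, rfl⟩
      exact Submodule.subset_span ⟨_, hV a ha, (cv_mulVec V a).symm⟩) ((h5 x).1 hx))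
  have h6 := sum_eq (f.toMonoidHom.comp B) (Ψ := cv '' Ψ) (by
      rintro _ ⟨c, hc, rfl⟩
      obtain ⟨s, a, h6, h7⟩ := hs c hc
      refine ⟨s, cv a, ?_, ?_⟩
      · show f (B s) = _
        rw [h6, map_sub, map_one]
        congr 1
        ext i j
        exact Int.cast_mul _ _
      · exact ((Int.castRingHom ℂ).map_dotProduct a c).symm.trans (by rw [h7]; simp)) h4 (fun x => (h5 x).1)
    (fun w => Matrix.ext_of_mulVec_single fun i => by
      rw [← mulVec_mulVec, ← sub_eq_zero, ← mulVec_sub, h5, ← cv_single]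
      refine (congrArg (· - _) (cv_mulVec (B w) _)).symm ▸ ?_
      rw [← map_sub]
      exact cv_mem (fun a ha => Submodule.subset_span (Set.mem_image_of_mem _ ha)) (hB w _)) hV'
    (by rw [Fintype.card_fin]; omega) q
  have h7 : ((∑ w, ((q : ℤ) • (1 : Matrix R R ℤ) - B w * V).det : ℤ) : ℂ) =
      ∑ w, ((q : ℂ) • (1 : Matrix R R ℂ) - (f.toMonoidHom.comp B) w * f V).det := by
    rw [Int.cast_sum]
    refine Finset.sum_congr rfl fun w _ => ((Int.castRingHom ℂ).map_det _).trans (congrArg det ?_)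
    rw [map_sub, map_zsmul, map_one, map_mul, ← Int.cast_smul_eq_zsmul ℂ, Int.cast_natCast]
    rfl
  have h8 := norm_det_le hN (pow_proj h4 hV' (by rw [← map_pow, hVN, map_one])) q
  have h9 := congrArg norm (h7.trans h6)
  rw [Complex.norm_intCast, norm_mul, norm_mul, norm_pow, Complex.norm_natCast, Complex.norm_natCast, Fintype.card_fin] at h9
  rw [Fintype.card_fin] at h8
  rw [← Int.cast_le (R := ℝ)]
  refine (le_abs_self _).trans (h9.trans_le ?_)
  obtain ⟨a, ha⟩ := Nat.exists_eq_add_of_le (h3.trans h1)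
  push_cast
  rw [show Fintype.card R - m = Fintype.card R - z + a by omega, pow_add, ha, pow_add, mul_assoc, mul_comm (_ ^ m)]
  gcongr
  exact le_add_of_nonneg_right zero_le_one

end Cfsg.Agent.N2.Ex.Sm.R3A
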