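import Cfsg.Agent.N2.Ex.Sim.R2
import Cfsg.Agent.N2.Ex.Sim.R3L

/-!
# N2, box R3: the order of the connected centraliser (helper53)

* `card_DZ_gen`, `card_DZ_kac` : `|C°(t)^σ| ≤ q ^ #Ψ q ^ (l - z) (q + 1) ^ z`;
* `clause2` : the case `A₂ A₂ T₂` of `E₆`.
-/

set_option autoImplicit false
set_option linter.unusedSectionVars false

namespace Cfsg.Agent.N2.Ex.Sm.R3A

open CoxeterSystem Cfsg Cfsg.Lie Cfsg.Lie.ChevalleyDatum
open Cfsg.Agent.ChevalleyStructure Cfsg.Agent.ChevalleyStructure.Elts Cfsg.Agent.ChevalleyStructure.CoxeterGeom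
  Cfsg.Agent.ChevalleyStructure.CoxeterGeomTypes
open Cfsg.Agent.Tits.Roots Cfsg.Agent.Tits.Core Cfsg.Agent.Nodes Cfsg.Agent.Nodes.Reps Cfsg.Agent.Nodes.BNOf
  Cfsg.Agent.Nodes.RGDChev Cfsg.Agent.Nodes.Bruhat
open Cfsg.Agent.KFacts.RgdField Cfsg.Agent.KFacts.RgdChevCoord
open Cfsg.Agent.BpExc Cfsg.Agent.BpExc.TorCent Cfsg.Agent.BpExc.TorChev Cfsg.Agent.BpExc.Tow
  Cfsg.Agent.BpExc.TowChev Cfsg.Agent.BpExc.Fr Cfsg.Agent.BpExc.LangFr
open Cfsg.Agent.H469.Exc Cfsg.Agent.H795.SetCent Cfsg.Agent.H129.TorusChar Cfsg.Agent.DS.Ex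
open Cfsg.Agent.H931.KC Cfsg.Agent.DS.Nt Cfsg.Agent.H316.U6 Cfsg.Agent.SB.Exc Cfsg.Agent.Nodes.Coroot Matrix
open Cfsg.Agent.SB.Exc.CI Cfsg.Agent.N2.Ex.Cb Cfsg.Agent.N2.Ex.Sm.R2

variable {D : ChevalleyDatum} {l : ℕ} {M : CoxeterMatrix (Fin l)} {hp : IsType D l M} {p : ℕ} [Fact p.Prime]
  {e : ℕ} {σ : MulAut (YY D p)} {g : (Fin l → ℤ) ≃+ (Fin l → ℤ)}

/-- **The connected centraliser.** -/
theorem card_DZ_gen (he : 0 < e) (hσ : IsFrob p e σ)
    (Φ : Fr M.toCoxeterSystem hp.isCartan (TT D (KK p)) (XX D l (KK p)) σ g) {Z : Set (YY D p)}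
    (hZ : Z ⊆ TT D (KK p)) (hF : ∀ a ∈ Ps hp p Z, g a ∈ Ps hp p Z) (T : Finset (Fin l))
    (hT : ∀ i, ∃ m : ℤ, m ≠ 0 ∧ m • sr i ∈ AddSubgroup.closure (Ps hp p Z ∪ sr '' T)) {z : ℕ} (h6 : T.card ≤ z) (h7 : z ≤ l) :
    Nat.card ↥(DL.fix σ ⊓ DZ hp p Z) ≤ (p ^ e) ^ (Ps hp p Z).ncard * ((p ^ e) ^ (l - z) * (p ^ e + 1) ^ z) := by
  have := finW hp
  let D₀ := DL.Ex.chevFr hp (locFin p) he hσ Φ
  have hS : D₀.Sz Z = Ps hp p Z := Sz_eq he hσ Φ hZ
  have hC : D₀.cen Z = DZ hp p Z := by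
    have h0 : D₀.cen Z = D₀.T ⊔ D₀.S (Ps hp p Z) := congrArg (fun A => D₀.T ⊔ D₀.S A) hS
    exact h0.trans (sup_comm _ _)
  have hF' : ∀ a ∈ D₀.Sz Z, D₀.g a ∈ D₀.Sz Z := by
    rw [hS]
    exact hF
  have := @Fintype.ofFinite _ (D₀.sub hZ hF' rfl).fW
  have h1 := mean_cen D₀ hZ hF'
  let φ : (D₀.sub hZ hF' rfl).W →* M.Group := D₀.subW Z
  have hφ : φ.range = Subgroup.closure (D₀.rf '' D₀.Sz Z) := D₀.range_subW (Z := Z)
  obtain ⟨N, hN, hgN⟩ := exists_pow (hp := hp) g Φ.root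
  have h4 := sum_le ((wm hp).comp φ) (Ψ := Ps hp p Z) (fun c hc => by
      have hc' : c ∈ D₀.Sz Z := hS ▸ hc
      obtain ⟨s, hs⟩ : D₀.rf c ∈ φ.range := hφ ▸ Subgroup.subset_closure ⟨c, hc', rfl⟩
      let f : (Fin l → ℤ) →+ ℤ := AddMonoidHom.mk' (fun x => cpr M.toCoxeterSystem hp.isCartan x c)
        fun x y => cpr_add _ _ x y hc.1
      have h5 : ∀ x, (fun i => f (sr i)) ⬝ᵥ x = f x := fun x => by
        rw [dotProduct_comm]
        exact (eq_psi f x).symm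
      refine ⟨s, fun i => f (sr i), Matrix.ext_of_mulVec_single fun i => ?_, (h5 c).trans (cpr_self _ _ hc.1)⟩
      rw [MonoidHom.comp_apply, wm_mulVec, sub_mulVec, one_mulVec, vecMulVec_mulVec, h5, op_smul_eq_smul, hs]
      exact D₀.act_rf hc'.1 _) (fun v x => by
      rw [MonoidHom.comp_apply, wm_mulVec]
      refine sub_mem_of_WP (Subgroup.closure_mono ?_ (hφ ▸ ⟨v, rfl⟩ : φ v ∈ Subgroup.closure (D₀.rf '' D₀.Sz Z))) _
      rintro _ ⟨a, ha, rfl⟩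
      exact ⟨a, hS ▸ ha, D₀.act_rf ha.1⟩) (V := (mat g)ᵀ) (fun a ha => by
      rw [show (mat g)ᵀ *ᵥ a = g a from mulVec_mat g.toAddMonoidHom a]
      exact hF a ha) hN hgN T hT h6 (by simpa using h7) (p ^ e)
  have h5 : ∑ v : (D₀.sub hZ hF' rfl).W, (D₀.Wm (D₀.subW Z v) * D₀.Mx - 1).det.natAbs ≤
      Fintype.card (D₀.sub hZ hF' rfl).W * ((p ^ e) ^ (l - z) * (p ^ e + 1) ^ z) := by
    rw [← Nat.cast_le (α := ℤ), Nat.cast_sum]
    rw [Fintype.card_fin] at h4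
    exact (Finset.sum_congr rfl fun v _ => (congrArg _ (det_chevFr (hp := hp) he hσ Φ (φ v))).trans
      (tord_cast (hp := hp) Φ.root (Nat.one_lt_pow he.ne' (Fact.out : p.Prime).one_lt) (φ v))).trans_le h4
  have h2 := pc_cen_le (CI.fq he hσ) D₀ hZ hF'
  have h3 : (D₀.Sz Z).ncard = (Ps hp p Z).ncard := congrArg Set.ncard hS
  rw [h3] at h2
  replace h1 := h1.trans (Nat.mul_le_mul h2 h5)
  rw [mul_left_comm] at h1
  replace h1 := Nat.le_of_mul_le_mul_left h1 Fintype.card_pos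
  rwa [hC, DL.GF, inf_comm] at h1

/-- **The connected centraliser of an element in Kac form.** -/
theorem card_DZ_kac (he : 0 < e) (hσ : IsFrob p e σ)
    (Φ : Fr M.toCoxeterSystem hp.isCartan (TT D (KK p)) (XX D l (KK p)) σ g) {t : YY D p} (ht : t ∈ TT D (KK p))
    (hσt : σ t = t) {n : ℕ} {ζ : KK p} {c : Fin l → ℕ} {c0 : ℕ} (hζ : IsPrimitiveRoot ζ n) (K : Kac D l n c c0)
    (hc : ∀ a, cX hp t a = ζ ^ bb c a) {z : ℕ} (hzl : z ≤ l)
    (hz : (Finset.univ.filter fun i => c i ≠ 0).card ≤ z + if c0 = 0 then 1 else 0) :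
    Nat.card ↥(DL.fix σ ⊓ DZ hp p {t}) ≤ (p ^ e) ^ (Ps hp p {t}).ncard * ((p ^ e) ^ (l - z) * (p ^ e + 1) ^ z) := by
  have hZ := Set.singleton_subset_iff.2 ht
  have hF := g_mem_Ps (hp := hp) hσ Φ hZ fun z hz => by rw [hz, hσt]
  have h7 : ∀ a, IsRoot M.toCoxeterSystem hp.isCartan a → (n : ℤ) ∣ bb c a → a ∈ Ps hp p {t} := fun a ha h => by
    rw [mem_Ps hZ]
    exact ⟨ha, fun s hs => by rw [hs, hc, hζ.zpow_eq_one_iff_dvd]; exact h⟩
  have h8 : ∀ (T : Finset (Fin l)) (i : Fin l), (c i ≠ 0 → i ∈ T) → sr i ∈ AddSubgroup.closure (Ps hp p {t} ∪ sr '' T) :=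
    fun T i h => AddSubgroup.subset_closure (by
      by_cases h1 : c i = 0
      · exact .inl (h7 _ (isRoot_sr _ _ i) (by rw [bb_sr, h1]; exact dvd_zero _))
      · exact .inr ⟨i, h h1, rfl⟩)
  by_cases h0 : c0 = 0
  swap
  · rw [if_neg h0] at hz
    exact card_DZ_gen he hσ Φ hZ hF _ (fun i => ⟨1, one_ne_zero, by
      rw [one_smul]
      exact h8 _ i fun h => by simpa using h⟩) hz hzl
  rw [if_pos h0] at hz
  obtain ⟨j, hj⟩ : ∃ j, c j ≠ 0 := by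
    by_contra! h
    have h1 := K.sum
    have h2 := K.pos
    simp only [h, h0, Nat.cast_zero, mul_zero, Finset.sum_const_zero, add_zero] at h1
    omega
  have h1 : ∀ i, i ≠ j → sr i ∈ AddSubgroup.closure (Ps hp p {t} ∪ sr '' ((Finset.univ.filter fun i => c i ≠ 0).erase j)) :=
    fun i hi => h8 _ i fun h => by simpa using ⟨hi, h⟩
  refine card_DZ_gen he hσ Φ hZ hF ((Finset.univ.filter fun i => c i ≠ 0).erase j) (fun i => ?_) (by
    rw [Finset.card_erase_of_mem (by simpa using hj)]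
    omega) hzl
  by_cases hi : i = j
  swap
  · exact ⟨1, one_ne_zero, by rw [one_smul]; exact h1 i hi⟩
  refine ⟨hr D l j, (hr_pos hp j).ne', ?_⟩
  have h2 : hr D l j • sr i = hr D l - ∑ k ∈ Finset.univ.erase j, hr D l k • sr k := by
    rw [hi, eq_sub_iff_add_eq, Finset.add_sum_erase _ (fun k => hr D l k • sr k) (Finset.mem_univ j)]
    exact (IsMC.eq_sum_sr _).symm
  rw [h2]
  exact sub_mem (AddSubgroup.subset_closure (.inl (h7 _ (root_hr hp) (by rw [bb_hr K, h0]; simp))))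
    (sum_mem fun k hk => zsmul_mem (h1 k (Finset.ne_of_mem_erase hk)) _)

theorem co_one {c : Fin l → ℕ} {h : Fin l → ℤ} {i j k : Fin l} (hij : i ≠ j) (hik : i ≠ k) (hjk : j ≠ k) (hi : h i = 1)
    (hc : ∀ n, c n ≠ 0 ↔ n = i ∨ n = j ∨ n = k) : Co (EE c h) := by
  refine ⟨Matrix.of ![Pi.single j 1 - Pi.single i (h j), Pi.single k 1 - Pi.single i (h k)],
    (Matrix.of ![Pi.single j 1, Pi.single k 1])ᵀ, ?_, fun x => ?_⟩
  · ext a b
    fin_cases a <;> fin_cases b <;> simp [mul_apply, Pi.single_apply, hij.symm, hik.symm, hjk, hjk.symm]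
  · have h4 : Matrix.of ![Pi.single j 1 - Pi.single i (h j), Pi.single k 1 - Pi.single i (h k)] *ᵥ x =
        ![x j - h j * x i, x k - h k * x i] := by
      ext a
      fin_cases a <;> exact (sub_dotProduct _ _ x).trans (by rw [single_dotProduct, single_dotProduct, one_mul]; rfl)
    rw [h4]
    refine ⟨fun h5 => ⟨x i, fun n hn => ?_⟩, fun ⟨n, h5⟩ => ?_⟩
    · rcases (hc n).1 hn with rfl | rfl | rfl
      · rw [hi, mul_one]
      · exact (sub_eq_zero.1 (congrFun h5 0)).trans (mul_comm _ _)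
      · exact (sub_eq_zero.1 (congrFun h5 1)).trans (mul_comm _ _)
    · rw [h5 i ((hc i).2 (.inl rfl)), h5 j ((hc j).2 (.inr (.inl rfl))), h5 k ((hc k).2 (.inr (.inr rfl))), hi]
      simp [mul_comm]

theorem tab_E6 : ∀ z : Bool, ∀ m ∈ masks 6, 72 - (keys (bif z then t1E6 else t0E6) [8, 8, 8, 8, 8, 8]
      (bif z then [9, 10, 10, 11, 10, 9] else [8, 8, 8, 8, 8, 8]) m).length = 12 →
    3 ∣ gg (keys (bif z then t1E6 else t0E6) [8, 8, 8, 8, 8, 8] (bif z then [9, 10, 10, 11, 10, 9] else [8, 8, 8, 8, 8, 8]) m) →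
    (z = false ∧ m.sum = 2 ∨ z = true ∧ (m = [0, 0, 0, 1, 1, 1] ∨ m = [1, 0, 1, 1, 0, 0])) := by decide +kernel

theorem co_E6 {z : Bool} {c : Fin 6 → ℕ} (h1 : 3 ∣ gg (ks chevE6 6 z (List.ofFn (mk c))))
    (h2 : chevE6.nroots - (ks chevE6 6 z (List.ofFn (mk c))).length = 12) : Co (EE c (hz chevE6 6 z)) := by
  obtain ⟨-, e1, e2, e3, e4, e5, e6⟩ := eE6
  have h0 : ks chevE6 6 z (List.ofFn (mk c)) = keys (bif z then t1E6 else t0E6) [8, 8, 8, 8, 8, 8]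
      (bif z then [9, 10, 10, 11, 10, 9] else [8, 8, 8, 8, 8, 8]) (List.ofFn (mk c)) := by
    rw [← e1, ← e2, ← e5]
    cases z
    · exact congrArg₂ (fun a b => keys _ a b _) e3 e4
    · exact congrArg (fun a => keys _ a _ _) e3
  rw [h0] at h1 h2
  rw [e6] at h2
  have h3 : hz chevE6 6 true 0 = 1 ∧ hz chevE6 6 true 5 = 1 := by decide +kernel
  rcases tab_E6 z _ (mem_masks _ (mk_cases c)) h2 h1 with ⟨rfl, h⟩ | ⟨rfl, h | h⟩
  · exact co_levi h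
  · refine co_one (i := 5) (j := 3) (k := 4) (by decide) (by decide) (by decide) h3.2 fun n => ?_
    rw [← mk_ne, show mk c = ![0, 0, 0, 1, 1, 1] from List.ofFn_injective h]
    revert n
    decide
  · refine co_one (i := 0) (j := 2) (k := 3) (by decide) (by decide) (by decide) h3.1 fun n => ?_
    rw [← mk_ne, show mk c = ![1, 0, 1, 1, 0, 0] from List.ofFn_injective h]
    revert n
    decide

variable (hp) {r : ℕ}

theorem cen_two {d : ℕ} (H : CZ D l d) (hdr : d.Coprime r) (H7 : ∀ i, hr D l i ≤ 7) (hl : 2 ≤ l) {n : ℕ}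
    (hC : ∀ (z : Bool) (c : Fin l → ℕ), 3 ∣ gg (ks D l z (List.ofFn (mk c))) →
      D.nroots - (ks D l z (List.ofFn (mk c))).length = n → Co (EE c (hz D l z))) (he : 0 < e) (hσ : IsFrob p e σ)
    (Φ : Fr M.toCoxeterSystem hp.isCartan (TT D (KK p)) (XX D l (KK p)) σ g) {y : YY D p} (hy : σ y = y) (hr' : r.Prime)
    (hrp : r ≠ p) (ho : orderOf y = r) (hq : orderOf ((p ^ e : ℕ) : ZMod r) = 3) (hd : dd p y = l + n) :
    Nat.card ↥(DL.fix σ ⊓ Subgroup.centralizer {y}) ≤ (p ^ e) ^ (dd p y - 2) * ((p ^ e) ^ 2 + p ^ e + 1) := by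
  have := Fact.mk hr'
  have hy1 : y ^ r = 1 := ho ▸ pow_orderOf_eq_one y
  obtain ⟨x, ζ, c, c0, a1, a2, a3, a4, a5⟩ := exists_kacform hp hr' hrp hy1 fun h => by
    rw [h, orderOf_one] at ho
    exact hr'.ne_one ho.symm
  obtain ⟨σ', w, b1, b2, b3, b4⟩ := exists_red (hp := hp) he hσ Φ hy a3
  generalize g.trans (repAut M.toCoxeterSystem hp.isCartan w) = u at b2
  have hk : ∀ b, ((bb c (u b) : ℤ) : ZMod r) = ((p ^ e : ℕ) : ZMod r) * (bb c b : ℤ) := fun b => by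
    have h5 := cX_sigma hp M.toCoxeterSystem b1 b2 a3 b
    have h0 := a1.ne_zero hr'.ne_zero
    rw [b3, a4, a4, ← zpow_natCast, ← _root_.zpow_mul] at h5
    rw [← Int.cast_natCast, ← Int.cast_mul, eq_comm, ZMod.intCast_eq_intCast_iff_dvd_sub, ← a1.zpow_eq_one_iff_dvd,
      zpow_sub₀ h0, h5, mul_comm, div_self (zpow_ne_zero _ h0)]
  obtain ⟨h1, h2⟩ := shape_ks hp a2 a5 u b2.root hk H7
  have h3 : dd p (x * y * x⁻¹) = l + nK D l r c := dd_tor_zpow hp a3 a1 (f := bb c) a4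
  have h4 := ncard_Ps (hp := hp) a3
  rw [dd_conj] at h3 h4
  obtain ⟨π, κ, h5, h6⟩ := hC _ c (hq ▸ h1) (by omega)
  have hZ := Set.singleton_subset_iff.2 a3
  have h7 : ∀ a, a ∈ Ps hp p {x * y * x⁻¹} ↔ IsRoot M.toCoxeterSystem hp.isCartan a ∧ (r : ℤ) ∣ bb c a := fun a => by
    rw [mem_Ps hZ, ← a1.zpow_eq_one_iff_dvd, ← a4]
    simp only [Set.mem_singleton_iff, forall_eq]
  have h8 : EE c (hz D l (decide (c0 = 0))) = AddSubgroup.closure (Ps hp p {x * y * x⁻¹}) :=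
    le_antisymm (EE_le hp a2 fun a ha h => AddSubgroup.subset_closure ((h7 a).2 ⟨ha, h⟩))
      ((AddSubgroup.closure_le _).2 fun a ha => mem_of_dvd hp a2 ((h7 a).1 ha).1 ((h7 a).1 ha).2)
  have hF := g_mem_Ps (hp := hp) b1 b2 hZ fun z hz => by rw [hz, b3]
  have h9 : ∀ z, ((bb c (κ *ᵥ (π *ᵥ z)) : ℤ) : ZMod r) = (bb c z : ℤ) := fun z => by
    rw [ZMod.intCast_eq_intCast_iff_dvd_sub, ← map_sub]
    refine dvd_of_mem a2 ((h6 _).1 ?_)
    rw [mulVec_sub, mulVec_mulVec, mulVec_mulVec, h5, Matrix.one_mul, sub_self]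
  have h10 : ∀ z : Fin 2 → ℤ, ((bb c (κ *ᵥ z) : ℤ) : ZMod r) = ∑ i, (z i : ZMod r) * (bb c (κ *ᵥ sr i) : ℤ) := fun z => by
    exact_mod_cast congrArg (Int.cast : ℤ → ZMod r) (eq_psi ((bb c).comp κ.mulVecLin.toAddMonoidHom) z)
  have hV : ∀ z, π *ᵥ z = 0 → π *ᵥ ((mat u)ᵀ *ᵥ z) = 0 := fun z hz => by
    rw [show (mat u)ᵀ *ᵥ z = u z from mulVec_mat u.toAddMonoidHom z, h6, h8]
    exact (AddSubgroup.closure_le ((AddSubgroup.closure (Ps hp p {x * y * x⁻¹})).comap u.toAddMonoidHom)).2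
      (fun a ha => AddSubgroup.subset_closure (hF a ha)) (h8 ▸ (h6 z).1 hz)
  obtain ⟨N, hN, h11⟩ := exists_pow (hp := hp) u b2.root
  have h12 := two_le hN (R2.pow_proj h5 hV h11) hq (v := fun i => (bb c (κ *ᵥ sr i) : ℤ)) (fun h => a5 fun z => by
      rw [← ZMod.intCast_zmod_eq_zero_iff_dvd, ← h9, h10]
      exact Finset.sum_eq_zero fun i _ => mul_eq_zero_of_right _ (congrFun h i)) (by
      funext j
      have h13 : (π * (mat u)ᵀ * κ) *ᵥ sr j = π *ᵥ u (κ *ᵥ sr j) := by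
        rw [← mulVec_mulVec, ← mulVec_mulVec]
        exact congrArg _ (mulVec_mat u.toAddMonoidHom _)
      refine Eq.trans ?_ ((h10 ((π * (mat u)ᵀ * κ) *ᵥ sr j)).symm.trans (by rw [h13, h9, hk]; rfl))
      rw [vecMul, dotProduct]
      refine Finset.sum_congr rfl fun i _ => ?_
      rw [mul_comm]
      exact congrArg (· * _) (congrArg (Int.cast : ℤ → ZMod r) (congrFun (mulVec_single_one (π * (mat u)ᵀ * κ) j) i).symm)) (q := (p ^ e : ℕ)) (by positivity)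
  rw [b4, conn (hp := hp) H ((Nat.coprime_primes hr' Fact.out).2 hrp) hdr a3
    (by rw [conj_pow, hy1, mul_one, mul_inv_cancel])]
  refine (card_DZ_two he b1 b2 hZ hF h5 (h8 ▸ h6) hl (b := (p ^ e) ^ 2 + p ^ e + 1) (by exact_mod_cast h12)).trans_eq ?_
  rw [← mul_assoc, ← pow_add]
  congr 2
  omega

/-- **The second clause of `BoxR3`.** -/
theorem clause2 (hD : Typ D) {q : ℕ} {K : Type} [Group K] (m : MData hp p q K) (a : K) (hr' : (orderOf a).Prime)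
    (h5 : 5 ≤ orderOf a) (hrp : orderOf a ≠ p) (hq : orderOf (q : ZMod (orderOf a)) = 3) (hl : l = 6)
    (h : dd p (m.ι a) = 18) : cn a ≤ q ^ 16 * (q ^ 2 + q + 1) := by
  have h0 := typ_l hp
  obtain rfl : D = chevE6 := by
    rcases hD with e | e | e | e
    exacts [absurd (h0.1 e) (by omega), e, absurd (h0.2.2.1 e) (by omega), absurd (h0.2.2.2 e) (by omega)]
  subst hl
  have h1 := cen_two hp cz_E6 ((Nat.coprime_primes Nat.prime_three hr').2 (by omega)) okE6.1 (by decide) (fun _ _ => co_E6)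
    m.he m.frob m.fr (m.fix a) hr' hrp (orderOf_injective m.ι m.inj a) (by rw [m.hq, hq]) h
  rw [m.hq, h] at h1
  exact (cn_le_card m.ι m.inj m.fix m.fin a).trans h1

end Cfsg.Agent.N2.Ex.Sm.R3A
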