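import Cfsg.Agent.N2.Ex.Sim.DfDefs
import Cfsg.Agent.N2.Ex.Sim.Sieve

/-!
# N2 (S3519), exceptional groups, defining characteristic, `L₂, L₃, U₃`: the arithmetic (helper83)
-/

set_option autoImplicit false

namespace Cfsg.Agent.N2.Ex.Sm.Sc

open Cfsg Cfsg.Agent.H902
open Cfsg.Agent.N2C.RX (frc frc_eq allR allR_sound)
open Cfsg.Agent.SB.Exc (dM ordU)

/-- the nine small groups -/
def qS0 : Art.Sh → ℕ → ℕ → ℕ → ℕ → Prop := fun X _ p a _ =>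
  X = .L 2 ∧ p ^ a ∈ [4, 5, 7, 9, 11] ∨ X = .L 3 ∧ p ^ a ∈ [2, 4] ∨ X = .U 3 ∧ p ^ a ∈ [3, 5]

/-- the data of a family -/
structure Dt where
  dx : ℕ
  gx : ℕ
  i : ℕ
  h : ℕ
  IH : List (ℕ × ℕ)
  kS : ℕ → ℕ → ℕ
  oX : ℕ → ℕ
  dd : ℕ → ℕ
  sm : ℕ → ℕ → ℕ → Bool

/-- what the group theory gives -/
structure Ab (δ : Dt) (l : ℕ) (tw : Bool) (p e T a o A : ℕ) (G : Prop) : Prop where
  typ : Ty l tw
  real : Art.Real (sh l tw) p e T
  a1 : 1 ≤ a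
  i2 : 2 ≤ δ.i
  mem : (δ.i, δ.h) ∈ δ.IH
  ho : o = δ.oX (p ^ a) / δ.dd (p ^ a)
  hA : A = δ.gx * a * δ.oX (p ^ a)
  le : δ.oX (p ^ a) ≤ (p ^ a) ^ δ.dx
  dvd : o ∣ T
  sm : δ.sm l (p ^ e) (p ^ a) = false
  km : δ.kS l p ≤ δ.kS l 3
  pr : 3 ≤ a * δ.i ∧ ¬ (p = 2 ∧ a * δ.i = 6) ∨ δ.dx = 3
  sc : ∀ k, δ.kS l p ≤ k → (dM l * ((p ^ e) ^ k * (p ^ e + 1) ^ l)) ^ 3 * A ≤ T → G
  pd : ∀ x ∈ δ.IH, 3 ≤ a * x.1 → ¬ (p = 2 ∧ a * x.1 = 6) → ∃ f ∈ Cb.tpT l,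
    Nat.lcm 2 (Nat.lcm x.2 (a * x.1 / Nat.gcd (a * x.1) e)) ∣ f.1 ∧ (((p ^ e) ^ f.2 * (p ^ e + 1) ^ l) ^ 3 * A ≤ T → G)

section chk

variable (δ : Dt) (l : ℕ) (tw : Bool)

/-- the uniform test for `q ≥ 64` -/
def ut (k g : ℕ) : Bool := frc (3 * k + (δ.dx * g + δ.i - 1) / δ.i + 1) fun K =>
  Nat.ble (K + 3 * l) (dimT l) && Nat.ble (dM l * (dM l ^ 3 * δ.gx * g * 6 * (64 ^ K * (64 + 1) ^ (3 * l)))) (ordU l 64 * (δ.i * 64))

def chkU : Bool := (!Nat.beq δ.dx 3 || ut δ l (δ.kS l 3) δ.i) &&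
  (Cb.tpT l).all fun f => !Nat.beq (f.1 % Nat.lcm 2 δ.h) 0 || ut δ l (min f.2 (δ.kS l 3)) f.1

/-- the exact test -/
def ex (p e q T a : ℕ) : Bool := frc (p ^ a) fun s => δ.sm l q s || frc (δ.oX s) fun o => !Nat.beq (T % (o / δ.dd s)) 0 ||
  frc (δ.gx * a * o) fun A => Nat.ble ((dM l * (q ^ δ.kS l p * (q + 1) ^ l)) ^ 3 * A) T ||
    δ.IH.any fun x => Nat.ble 3 (a * x.1) && !(Nat.beq p 2 && Nat.beq (a * x.1) 6) &&
      frc (Nat.lcm 2 (Nat.lcm x.2 (a * x.1 / Nat.gcd (a * x.1) e))) fun n =>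
        (Cb.tpT l).all fun f => !Nat.beq (f.1 % n) 0 || Nat.ble ((q ^ f.2 * (q + 1) ^ l) ^ 3 * A) T

def chkE : Bool := allR (fun p => cmp p || allR (fun e => frc (p ^ e) fun q => Nat.ble 64 q ||
  frc (oT l tw q) fun T => allR (ex δ l p e q T) (15 * e) 1) 5 1) 62 2

def chk : Bool := allT 0 fun l tw => chkU δ l && chkE δ l tw

end chk

variable {δ : Dt} {l : ℕ} {tw : Bool} {p e T a o A : ℕ} {G : Prop}

theorem unif3 (ht : Ty l tw) (h : Art.Real (sh l tw) p e T) {q1 k z α γ : ℕ} (h0 : 0 < q1) (hq : q1 ≤ p ^ e)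
    (hk : k + z ≤ dimT l) (hc : dM l * (α * (q1 ^ k * (q1 + 1) ^ z)) ≤ ordU l q1 * γ) :
    α * ((p ^ e) ^ k * (p ^ e + 1) ^ z) ≤ T * γ := by
  have h1 := ordU_le ht h
  have h2 := ordU_mono ht hq
  have h3 := succ_mono hq k z
  generalize p ^ e = q at *
  obtain ⟨E, hE⟩ := Nat.exists_eq_add_of_le hk
  refine Nat.le_of_mul_le_mul_left ?_ (Nat.mul_pos (pow_pos h0 (dimT l)) (dM_pos l))
  calc _ = dM l * α * q1 ^ E * (q ^ k * (q + 1) ^ z * q1 ^ (k + z)) := by rw [hE]; ring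
    _ ≤ dM l * α * q ^ E * (q1 ^ k * (q1 + 1) ^ z * q ^ (k + z)) := by gcongr
    _ = dM l * (α * (q1 ^ k * (q1 + 1) ^ z)) * q ^ dimT l := by rw [hE]; ring
    _ ≤ ordU l q1 * γ * q ^ dimT l := Nat.mul_le_mul_right _ hc
    _ = ordU l q1 * q ^ dimT l * γ := by ring
    _ ≤ q1 ^ dimT l * (dM l * T) * γ := Nat.mul_le_mul_right _ (h2.trans (Nat.mul_le_mul_left _ h1))
    _ = _ := by ring

theorem exp_le (hp : 2 ≤ p) (hq : 64 ≤ p ^ e) : e * 64 ≤ 6 * p ^ e := by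
  rcases le_total e 6 with h | h
  · exact Nat.mul_le_mul h hq
  refine le_trans ?_ (Nat.mul_le_mul_left _ (Nat.pow_le_pow_left hp e))
  induction e, h using Nat.le_induction with
  | base => norm_num
  | succ n hn ih =>
    have := ih (le_trans (by norm_num) (Nat.pow_le_pow_right (by omega) hn |>.trans' (Nat.pow_le_pow_left hp 6)))
    rw [pow_succ]
    omega

theorem tp_pos (ht : Ty l tw) : ∀ f ∈ Cb.tpT l, 0 < f.1 ∧ f.1 ≤ 30 := by
  rcases ht with rfl | ⟨-, rfl | rfl | rfl⟩ <;> decide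

theorem ratio {n e g : ℕ} (he : 0 < e) (hg : 0 < g) (h : n / Nat.gcd n e ∣ g) : n ≤ e * g := by
  refine Nat.le_of_dvd (Nat.mul_pos he hg) ?_
  rw [← Nat.mul_div_cancel' (Nat.gcd_dvd_left n e)]
  exact Nat.mul_dvd_mul (Nat.gcd_dvd_right n e) h

namespace Ab

variable (H : Ab δ l tw p e T a o A G)
include H

theorem of_ut (hq : 64 ≤ p ^ e) {k g : ℕ} (hr : a * δ.i ≤ e * g) (h : ut δ l k g = true) :
    (dM l * ((p ^ e) ^ k * (p ^ e + 1) ^ l)) ^ 3 * A ≤ T := by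
  simp only [ut, frc_eq, Bool.and_eq_true, Nat.ble_eq] at h
  have hi := H.i2
  have h1 := unif3 H.typ H.real (by norm_num) hq h.1 h.2
  have h2 := exp_le H.real.hp.two_le hq
  obtain ⟨j, hj⟩ : ∃ j, (δ.dx * g + δ.i - 1) / δ.i = j := ⟨_, rfl⟩
  have h3 : δ.dx * g ≤ j * δ.i := by
    have := Nat.lt_div_mul_add (a := δ.dx * g + δ.i - 1) (show 0 < δ.i by omega)
    rw [hj] at this
    omega
  have h4 : δ.oX (p ^ a) ≤ (p ^ e) ^ j := by
    refine H.le.trans ?_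
    rw [← pow_mul, ← pow_mul]
    refine Nat.pow_le_pow_right H.real.hp.pos (Nat.le_of_mul_le_mul_right ?_ (show 0 < δ.i by omega))
    calc _ = δ.dx * (a * δ.i) := by ring
      _ ≤ δ.dx * (e * g) := by gcongr
      _ = e * (δ.dx * g) := by ring
      _ ≤ e * (j * δ.i) := by gcongr
      _ = _ := by ring
  rw [hj] at h1
  rw [H.hA]
  refine Nat.le_of_mul_le_mul_right (le_trans ?_ h1) (show 0 < δ.i * 64 by omega)
  generalize δ.oX (p ^ a) = x at *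
  generalize p ^ e = q at *
  calc _ = (dM l * (q ^ k * (q + 1) ^ l)) ^ 3 * δ.gx * x * (a * δ.i * 64) := by ring
    _ ≤ (dM l * (q ^ k * (q + 1) ^ l)) ^ 3 * δ.gx * q ^ j * (e * g * 64) := by gcongr
    _ = (dM l * (q ^ k * (q + 1) ^ l)) ^ 3 * δ.gx * q ^ j * g * (e * 64) := by ring
    _ ≤ (dM l * (q ^ k * (q + 1) ^ l)) ^ 3 * δ.gx * q ^ j * g * (6 * q) := by gcongr
    _ = _ := by ring

theorem of_U (hq : 64 ≤ p ^ e) (h : chkU δ l = true) : G := by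
  simp only [chkU, Bool.and_eq_true, Bool.or_eq_true, Bool.not_eq_true', beq_false, List.all_eq_true] at h
  have he := H.real.hf
  by_cases h1 : 3 ≤ a * δ.i ∧ ¬ (p = 2 ∧ a * δ.i = 6)
  · obtain ⟨f, hf, h2, h3⟩ := H.pd _ H.mem h1.1 h1.2
    have h4 := H.of_ut hq (ratio he (tp_pos H.typ f hf).1 (((Nat.dvd_lcm_right _ _).trans (Nat.dvd_lcm_right _ _)).trans h2))
      ((h.2 f hf).resolve_left (not_not.2 (Nat.mod_eq_zero_of_dvd ((Nat.lcm_dvd (Nat.dvd_lcm_left _ _)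
        ((Nat.dvd_lcm_left _ _).trans (Nat.dvd_lcm_right _ _))).trans h2))))
    rcases le_total f.2 (δ.kS l 3) with k | k
    · rw [min_eq_left k] at h4
      exact h3 ((Nat.mul_le_mul_right _ (Nat.pow_le_pow_left (Nat.le_mul_of_pos_left _ (dM_pos l)) 3)).trans h4)
    · rw [min_eq_right k] at h4
      exact H.sc _ H.km h4
  · refine H.sc _ H.km (H.of_ut hq (Nat.mul_le_mul_right _ ?_) (h.1.resolve_left (not_not.2 (H.pr.resolve_left h1))))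
    have h2 := Nat.mul_le_mul_left a H.i2
    by_cases h3 : p = 2 ∧ a * δ.i = 6
    · obtain ⟨rfl, h3⟩ := h3
      have := (Nat.pow_le_pow_iff_right one_lt_two).1 (show 2 ^ 6 ≤ 2 ^ e from hq)
      omega
    · have := not_and.1 h1
      omega

theorem a_le : a ≤ 15 * e := by
  have he := H.real.hf
  have h2 := Nat.mul_le_mul_left a H.i2
  by_cases h1 : 3 ≤ a * δ.i ∧ ¬ (p = 2 ∧ a * δ.i = 6)
  · obtain ⟨f, hf, h3, -⟩ := H.pd _ H.mem h1.1 h1.2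
    have h4 := tp_pos H.typ f hf
    have h5 : a * δ.i ≤ e * 30 := (ratio he h4.1 (((Nat.dvd_lcm_right _ _).trans (Nat.dvd_lcm_right _ _)).trans h3)).trans
      (Nat.mul_le_mul_left _ h4.2)
    omega
  · omega

theorem of_ex (h : ex δ l p e (p ^ e) T a = true) : G := by
  simp only [ex, frc_eq, Bool.or_eq_true, Bool.not_eq_true', beq_false, Nat.ble_eq, List.any_eq_true, Bool.and_eq_true,
    List.all_eq_true, H.sm, ← H.ho, ← H.hA, Bool.false_eq_true, false_or] at h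
  rcases h with h | h | ⟨x, hx, ⟨h1, h2⟩, h3⟩
  · exact absurd (Nat.mod_eq_zero_of_dvd H.dvd) h
  · exact H.sc _ le_rfl h
  · obtain ⟨f, hf, h4, h5⟩ := H.pd x hx h1 fun k => by simp [k.1, k.2] at h2
    exact h5 ((h3 f hf).resolve_left (not_not.2 (Nat.mod_eq_zero_of_dvd h4)))

/-- **the arithmetic** -/
theorem fin (h : chk δ = true) : G := by
  have h1 := allT_sound h H.typ (Nat.zero_le _)
  rw [Bool.and_eq_true] at h1
  rcases le_or_gt 64 (p ^ e) with hq | hq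
  · exact H.of_U hq h1.1
  have hp := H.real.hp
  have he := H.real.hf
  have h2 := allR_sound h1.2 hp.two_le (lt_of_le_of_lt (Nat.le_self_pow (by omega) p) hq)
  rw [cmp_prime hp, Bool.false_or] at h2
  have h3 := allR_sound h2 he ((Nat.pow_lt_pow_iff_right one_lt_two).1
    (lt_of_le_of_lt (Nat.pow_le_pow_left hp.two_le e) (show p ^ e < 2 ^ 6 from hq)))
  rw [frc_eq, frc_eq, oT_eq H.real, Bool.or_eq_true, Nat.ble_eq] at h3
  exact H.of_ex (allR_sound (h3.resolve_left (by omega)) H.a1 (by have := H.a_le; omega))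

end Ab

/-! ### the three families -/

def k2 (l p : ℕ) : ℕ := bif Nat.beq l 4 then 8 else bif Nat.beq l 6 then (bif Nat.beq p 3 then 12 else 10) else
  bif Nat.beq l 7 then 22 else 40

def k3 (l : ℕ) : ℕ := bif Nat.ble l 6 then 14 else bif Nat.beq l 7 then 29 else 56

def dL2 : Dt := ⟨3, 1, 2, 2, [(2, 2), (1, 2)], k2, fun s => s * (s ^ 2 - 1), fun s => Nat.gcd 2 (s - 1),
  fun _ _ s => Nat.ble s 7 || Nat.beq s 9 || Nat.beq s 11⟩

def dL3 : Dt := ⟨8, 2, 3, 3, [(3, 3), (2, 2)], fun l _ => k3 l, fun s => s ^ 3 * ((s ^ 2 - 1) * (s ^ 3 - 1)),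
  fun s => Nat.gcd 3 (s - 1), fun l q s => Nat.beq s 2 || Nat.beq s 4 || (Nat.beq l 4 && Nat.beq q 2 && Nat.beq s 16)⟩

def dU3 : Dt := ⟨8, 2, 6, 3, [(6, 3)], fun l _ => k3 l, fun s => s ^ 3 * ((s ^ 2 - 1) * (s ^ 3 + 1)),
  fun s => Nat.gcd 3 (s + 1), fun _ _ s => Nat.ble s 3 || Nat.beq s 5⟩

theorem chk_L2 : chk dL2 = true := by decide +kernel
theorem chk_L3 : chk dL3 = true := by decide +kernel
theorem chk_U3 : chk dU3 = true := by decide +kernel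

end Cfsg.Agent.N2.Ex.Sm.Sc
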