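import Cfsg.Agent.N2.Ex.Sim.Defs
import Cfsg.Agent.N2.Tri.MatO

/-!
# N2 (S3519), simple socle: tools for generating triples (helper85)
-/

set_option autoImplicit false

namespace Cfsg.Agent.N2.Ex.Sm.Trp

open Cfsg Subgroup Cfsg.Agent.N2.Tg Cfsg.Agent.N2.Tg.Eng

variable {N : Type} [Group N] {p B n o a b c r : ℕ} {X Y : List ℕ}

theorem full (H : Has p B n N o [X, Y]) (L : List (ℕ × ℕ × ℕ × List (List ℕ))) (h : chkT p B n X Y L o a b c = true) :
    Sm.Tr N a b c := by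
  obtain ⟨_, _, _, _, _, _, _, C, k⟩ := H
  obtain ⟨x, y, h1, h2, h3, h4, -⟩ := C.core k h
  exact ⟨x, y, h1, h2, h4, h3⟩

/-- a subgroup of small index of a simple group -/
theorem top_of_index [Finite N] [IsSimpleGroup N] (hr : r.Prime) (hd : r ∣ Nat.card N) {K : Subgroup N} (h : K.index < r) :
    K = ⊤ := by
  rcases K.normalCore_normal.eq_bot_or_eq_top with k | k
  · have h1 : Nat.card N ∣ K.index.factorial := by
      have := K.normalCore.index_mul_card
      rw [k, index_bot] at this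
      rw [← index_bot, ← k, normalCore_eq_ker, index_ker, index_eq_card, ← Nat.card_perm]
      exact card_subgroup_dvd_card _
    exact absurd (hr.dvd_factorial.1 (hd.trans h1)) (not_le.2 h)
  · exact top_le_iff.1 (k ▸ K.normalCore_le)

/-- the chain proves only that the index is less than the prime `r` -/
theorem part [Finite N] [IsSimpleGroup N] (hn : ¬ IsMulCommutative N) (hr : r.Prime) (hd : r ∣ Nat.card N)
    (H : Has p B n N o [X, Y]) (L : List (ℕ × ℕ × ℕ × List (List ℕ))) (h : chkT p B n X Y L (o / r + 1) a b c = true) :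
    Sm.Tr N a b c := by
  obtain ⟨_, _, bl, G, _, ρ, f, C, ho⟩ := H
  have := finite_of C.fr C.inj
  simp only [chkT, frcL_eq, Bool.and_eq_true, Nat.ble_eq, Bool.not_eq_true'] at h
  obtain ⟨⟨⟨⟨⟨h1, h2⟩, h3⟩, h4⟩, -⟩, h6⟩ := h
  obtain ⟨x, -, hx⟩ := C.mem X (by simp)
  obtain ⟨y, -, hy⟩ := C.mem Y (by simp)
  have h5 : o / r + 1 ≤ Nat.card (closure ({x, y} : Set G)) := h2.trans (chain_le C.fr L _ _ (by
    simp only [List.mem_cons, List.not_mem_nil, or_false, forall_eq_or_imp, forall_eq]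
    exact ⟨⟨x, subset_closure (by simp), hx⟩, y, subset_closure (by simp), hy⟩) h1)
  have h7 : closure ({f x, f y} : Set N) = ⊤ := by
    rw [← Set.image_pair, ← MonoidHom.map_closure]
    refine top_of_index hr hd ((Nat.le_of_dvd (Nat.pos_of_ne_zero index_ne_zero_of_finite)
      (index_map_dvd _ C.sur)).trans_lt (lt_of_mul_lt_mul_right (a := Nat.card (closure ({x, y} : Set G))) ?_ (Nat.zero_le _)))
    rw [index_mul_card, ho]
    exact (Nat.lt_mul_div_succ o hr.pos).trans_le (Nat.mul_le_mul_left r h5)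
  have key : ∀ z : G, Commute z x → Commute z y → f z = 1 := fun z k1 k2 => by
    rcases (inferInstance : (center N).Normal).eq_bot_or_eq_top with k | k
    · exact mem_bot.1 (k ▸ mem_center_of h7 (k1.map f) (k2.map f))
    · exact absurd ⟨⟨fun u v => mem_center_iff.1 (k.ge (mem_top v)) u⟩⟩ hn
  have h8 : Rep p B n bl (cmp p B n X Y) (ρ (x * y)) := map_mul ρ x y ▸ hx.mul C.fr hy
  have h9 : Commute ((x * y) ^ c) x := (C.com (map_pow ρ _ c ▸ h8.pw C.fr c) hx).1 h6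
  refine ⟨f x, f y, ?_, ?_, ?_, h7⟩
  · rw [← map_pow]
    exact key _ (Commute.pow_self x a) ((C.com (map_pow ρ x a ▸ hx.pw C.fr a) hy).1 h3)
  · rw [← map_pow]
    exact key _ ((C.com (map_pow ρ y b ▸ hy.pw C.fr b) hx).1 h4) (Commute.pow_self y b)
  · rw [← map_mul, ← map_pow]
    refine key _ h9 ?_
    have := h9.inv_right.mul_right (Commute.pow_self (x * y) c)
    rwa [inv_mul_cancel_left] at this

/-- the field with 64 elements -/
abbrev Q6 : Type := QuadraticAlgebra (C3 (ZMod 2)) 1 1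
/-- base -/
def b64 : List Q6 := [⟨⟨1, 0, 0⟩, 0⟩, ⟨⟨0, 1, 0⟩, 0⟩, ⟨⟨0, 0, 1⟩, 0⟩, ⟨0, ⟨1, 0, 0⟩⟩, ⟨0, ⟨0, 1, 0⟩⟩, ⟨0, ⟨0, 0, 1⟩⟩]
/-- coordinates -/
def c64 (x : Q6) : List ℕ := [x.re.a.val, x.re.b.val, x.re.c.val, x.im.a.val, x.im.b.val, x.im.c.val]
/-- the field with 81 elements -/
abbrev Q81 : Type := QuadraticAlgebra (Q2 3 2 0) ⟨1, 1⟩ 0
/-- base -/
def b81 : List Q81 := [⟨⟨1, 0⟩, 0⟩, ⟨⟨0, 1⟩, 0⟩, ⟨0, ⟨1, 0⟩⟩, ⟨0, ⟨0, 1⟩⟩]
/-- coordinates -/
def c81 (x : Q81) : List ℕ := [x.re.re.val, x.re.im.val, x.im.re.val, x.im.im.val]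

theorem rg64 : Rg Q6 2 6 b64 c64 :=
  ⟨by decide, by decide +kernel, rfl, by decide +kernel, by decide +kernel, by decide +kernel, by decide +kernel⟩

theorem rg81 : Rg Q81 3 4 b81 c81 :=
  ⟨by decide, by decide +kernel, rfl, by decide +kernel, by decide +kernel, by decide +kernel, by decide +kernel⟩

end Cfsg.Agent.N2.Ex.Sm.Trp
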