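import Cfsg.Agent.N2.Ex.Sim.TrA
import Cfsg.Agent.N2.Tri.Exc

/-!
# N2 (S3519), simple socle: `U₃(8)`, `U₃(9)`, `U₄(4)`, `O₇(3)`, `³D₄(2)` (helper85)
-/

set_option autoImplicit false
set_option maxRecDepth 100000

namespace Cfsg.Agent.N2.Ex.Sm.Trp

open Cfsg Cfsg.Agent.N2.Tg Cfsg.Agent.N2.Tg.Eng

variable {N : Type} [Group N]

theorem tr_u3_8_2_3_21 [Finite N] [IsSimpleGroup N] (hn : ¬ IsMulCommutative N) (h : OrdDiv.Real (.psu 3 8) N) (hd : 19 ∣ Nat.card N) :
    Sm.Tr N 2 3 21 :=
  part hn (by norm_num) hd ((has_U (B := 32) (n := 18) (o := 16547328) (s := 3) rg64 (il_fin 3 (by decide)) (by norm_num) h (by decide) (by decide)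
      (by decide +kernel)
      [mat 2 b64 Fin.val [[16, 36, 7], [4, 24, 54], [63, 6, 0]],
      mat 2 b64 Fin.val [[22, 34, 52], [22, 52, 34], [34, 34, 34]]]
      (two_mem (by simp only [Matrix.det_fin_three]; decide +kernel))).ext [[0], [1]]
      [[39933549617177188876943360, 38724586904073348237492224, 37780084785595641004032, 1218674059166457266208, 1181745703306330637312, 1190076201533734945, 1217486269949142893568, 1218675185066364141601, 1181781732103350649888, 39894552048443882477716480, 39932331016301550724186145, 38723405196722106995311648, 37155830797173793, 37191016243004417, 36065081976422401, 1133906001920, 1134978695168, 1100585402368],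
      [38685663122283314788959264, 1247885379128235745346593, 39894590094854599656637441, 39895732674932311588864032, 39932369026717555744605184, 38724622681794687976603681, 38685663158312077480689696, 1247885380288220480177152, 39894590129757530088276001, 39895732640030513989420032, 39932369061585303951671329, 38724622645802140480603168, 38685663157185112423007232, 1247885344260487572914209, 39894590130847147184129056, 39895732676059276615091232, 39932369062745288717894689, 38724622680705070846215169]] (by decide +kernel))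
    [(1, 1729, 1083, [[0, 0, 1, 0, 1, 1], [1, 1, 0, 1, 1, 0, 1, 1, 0, 1, 0, 1, 0, 1, 1, 0, 1, 0, 1, 0, 1, 0, 1, 0]]),
      (1073741824, 504, 456, [])]
    (by decide +kernel)

theorem tr_u3_9_2_3_40 [Finite N] [IsSimpleGroup N] (hn : ¬ IsMulCommutative N) (h : OrdDiv.Real (.psu 3 9) N) (hd : 73 ∣ Nat.card N) :
    Sm.Tr N 2 3 40 :=
  part hn (by norm_num) hd ((has_U (B := 64) (n := 12) (o := 42573600) (s := 2) rg81 (il_fin 3 (by decide)) (by norm_num) h (by decide) (by decide)
      (by decide +kernel)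
      [mat 3 b81 Fin.val [[6, 11, 29], [20, 4, 15], [56, 24, 1]],
      mat 3 b81 Fin.val [[6, 50, 31], [39, 79, 31], [12, 53, 44]]]
      (two_mem (by simp only [Matrix.det_fin_three]; decide +kernel))).ext [[0], [1]]
      [[147574515677102342272, 1188959099866316801, 2342153420829884416, 147592257261419892736, 2341871807323181058, 147574234065760682112, 147610548803414794305, 1189236312088510530, 281545843933186, 18018796572778624, 1152930301790396482, 73786976364665503874],
      [1170940370956058752, 73787543780310646785, 73805276568518918144, 2324420495132332032, 76129419986720792642, 149916114736789332098, 149880085939753328641, 148744892959592816704, 74976493945554731073, 76129129714593833026, 149915828863782621250, 148727160106926743682]] (by decide +kernel))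
    [(1, 811, 613, [[1, 1, 0, 1, 0, 1, 1, 0, 1, 1, 0, 1, 0, 1, 1, 0, 1, 0, 1, 0, 1, 0, 1, 0, 1, 0, 1, 1, 0, 1, 1], [0, 1, 0, 1, 1, 0, 1, 1, 0, 1, 0, 1, 1, 0, 1, 0, 1, 0, 1, 0, 1, 0, 1, 1, 0, 1, 0, 1, 1, 0, 1, 0, 1, 0, 1, 1, 0]]),
      (16777216, 720, 700, [])]
    (by decide +kernel)

theorem ch_u4_4 (h : OrdDiv.Real (.psu 4 4) N) : Ch N 5 4 :=
  Ch.of_cj (((has_U (B := 32) (n := 16) (o := 1018368000) (s := 2) rg16 (il_fin 4 (by decide)) (by norm_num) h (by decide)
      (by decide) (by decide +kernel)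
      [mat 2 b4 Fin.val [[8, 0, 0, 0], [0, 13, 0, 0], [0, 0, 10, 0], [0, 0, 0, 14]],
      mat 2 b4 Fin.val [[0, 1, 0, 0], [0, 0, 1, 0], [0, 0, 0, 1], [1, 0, 0, 0]]]
      (two_mem (by decide +kernel))).ext [[0], [1]]
      [[32768, 33792, 32801, 33793, 35434528768, 1107296256, 34360786944, 35467034624, 36063981391052800, 37190980809523200, 36283883716608, 1099511627776, 38996416971821992116224, 1218638030369437253632, 1181744542222018150400, 37815825351104580812800],
      [1152921504606846976, 36893488147419103232, 1180591620717411303424, 37778931862957161709568, 1, 32, 1024, 32768, 1048576, 33554432, 1073741824, 34359738368, 1099511627776, 35184372088832, 1125899906842624, 36028797018963968]] (by decide +kernel)).cj [0] [1] (j := 2) (by norm_num) (by decide +kernel))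
    (by rw [orderOf_eq_prime_pow (p := 2) (n := 1) (by decide) (by decide)]; decide)

theorem ch_o7_3 (h : OrdDiv.Real (.oodd 3 3) N) : Ch N 7 6 :=
  Ch.of_cj (((has_O (B := 32) (n := 7) (o := 4585351680) (rg_prime 3 (by norm_num)) (il_O 3 (by decide)) h (by decide)
      (by decide) (by decide +kernel)
      (mat 3 ([1] : List (ZMod 3)) (ixO 3) [[2, 0, 0, 2, 2, 2, 0], [1, 0, 2, 2, 0, 2, 2], [1, 0, 2, 2, 2, 2, 2], [0, 0, 0, 1, 2, 2, 0], [0, 1, 2, 0, 0, 0, 0], [0, 2, 1, 0, 2, 2, 0], [1, 0, 0, 2, 2, 2, 1]])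
      (mat 3 ([1] : List (ZMod 3)) (ixO 3) [[1, 2, 2, 0, 1, 2, 1], [1, 0, 0, 2, 2, 2, 1], [2, 1, 1, 2, 0, 0, 1], [1, 1, 1, 0, 0, 2, 0], [2, 0, 1, 0, 1, 2, 2], [2, 1, 0, 0, 2, 0, 0], [0, 1, 2, 1, 1, 2, 1]])
      (by decide +kernel) (by decide +kernel)).ext [[0], [1], [1, 1]]
      [[1073742882, 68157440, 35653696, 2147518530, 2214660098, 2214660162, 1073743936],
      [69240865, 1107330050, 2148566018, 1073743936, 1141899329, 2149646402, 1075840033],
      [34669633, 33622049, 1048641, 1141934112, 2147518530, 2182119425, 34605058]] (by decide +kernel)).cj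
      [0, 1, 0, 1, 0, 1, 0, 1, 0, 1, 0, 2, 0, 2, 0, 2]
      [2, 0, 1, 0, 2, 0, 1, 0, 2, 0, 1, 0, 2, 0, 2, 0, 1, 0, 2, 0, 2, 0, 2, 0, 2, 0, 1, 0, 2, 0, 1, 0, 2, 0, 1, 0, 2, 0, 2, 0, 1, 0, 1, 0, 1, 0, 1, 0, 2, 0, 1, 0, 1, 0, 2]
      (j := 3) (by norm_num) (by decide +kernel))
    (by rw [(orderOf_eq_iff (n := 6) (by decide)).2 (by decide)])

section

open Cfsg.Agent.SB.Spor Cfsg.Agent.N2.Tg.PE Cfsg.Agent.H347.HX

theorem ck_d42 : triChk (plk 10 1023) (pmk 10 1023 819 10) 819 211341312 ([0, 1, 2, 3, 4].map D42.LT) 2 72903135676662529 2 3 21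
    [258, 131587, 72340177133109762, 9500218159781088788995, 18591424415090737666, 55485195145588113923, 18591423319874077186]
    [(0, [7, 6]), (22, [5, 4]), (71, [3, 2]), (1, [1])] = true := by decide +kernel

theorem tr_td4_2 (h : OrdDiv.Real (.td4 2) N) : Sm.Tr N 2 3 21 := by
  obtain ⟨F, _, _, hF, ⟨e⟩⟩ := h
  obtain ⟨f⟩ := D42.iso F hF
  have : Finite D42.K := Nat.finite_of_card_ne_zero (by rw [D42.card_K]; norm_num)
  refine Sm.Tr.congr (f.trans e.symm)
    (gen_of_chk (perm_tab (PM.ofHom (D42.A.subtype.comp D42.K.subtype)) (by norm_num) (by norm_num) (by norm_num))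
      (fun t ht => ?_) D42.card_K.le ck_d42)
  obtain ⟨j, -, rfl⟩ := List.mem_map.1 ht
  exact ⟨⟨D42.s j, D42.s_mem j⟩, PM.rf_ofHom _ fun _ => rfl⟩

end

end Cfsg.Agent.N2.Ex.Sm.Trp
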