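import Cfsg.Agent.N2.Ex.Sim.TrA
import Cfsg.Agent.N2.Ex.Sim.TrB
import Cfsg.Agent.N2.Ex.Sim.TrC
import Cfsg.Agent.N2.Ex.Sim.CrE
import Cfsg.Agent.N2.Tri.L2
import Cfsg.Agent.N2.Tri.L3
import Cfsg.Agent.N2.Tri.U3
import Cfsg.Agent.N2.Tri.S6
import Cfsg.Agent.N2.Tri.O8p
import Cfsg.Agent.N2.Tri.U43
import Cfsg.Agent.N2.Tri.U56
import Cfsg.Agent.N2.Tri.Sz8
import Cfsg.Agent.S0249
import Cfsg.Agent.S0270
import Cfsg.Agent.S0283

/-!
# N2 (S3519), simple socle: the list of all triples (helper85)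
-/

set_option autoImplicit false
set_option maxRecDepth 100000

namespace Cfsg.Agent.N2.Ex.Sm.Trp

open Cfsg Cfsg.Agent.N2.Tg Cfsg.Agent.N2.Tg.Eng

variable {N : Type} [Group N]

theorem tr_u4_4_2_3_65 [Finite N] [IsSimpleGroup N] (hn : ¬ IsMulCommutative N) (h : OrdDiv.Real (.psu 4 4) N) (hd : 17 ∣ Nat.card N) :
    Sm.Tr N 2 3 65 :=
  part hn (by norm_num) hd ((has_U (B := 32) (n := 16) (o := 1018368000) (s := 2) rg16 (il_fin 4 (by decide)) (by norm_num) h (by decide) (by decide)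
      (by decide +kernel)
      [mat 2 b4 Fin.val [[0, 8, 11, 3], [10, 3, 2, 13], [9, 2, 2, 2], [3, 14, 2, 1]],
      mat 2 b4 Fin.val [[7, 13, 12, 0], [1, 11, 2, 8], [14, 8, 11, 7], [9, 6, 12, 6]]]
      (two_mem (by decide +kernel))).ext [[0], [1]]
      [[38082439582949834752, 1190111421372825600, 38959560674655417139200, 1180592747716830822400, 38996417007006398840832, 1218638066653322052608, 1181780571054470627361, 37815862505802580395009, 36893523331824779297, 38046445935944303617, 37778967891788540412961, 38959560638406932332545, 1152956724413464609, 36893524432410116097, 1180627649548791088128, 37778969017689554551808],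
      [37780121974343067501601, 38996418134005816262657, 38997571020327091208224, 1181780606237768975393, 1217521137696243745793, 37817015427341547996192, 38996453036904003174401, 1218675186200235508768, 38959559548755509281792, 1180628776513883341824, 38960677567397330191361, 1217521138796794479648, 1217486271082980704256, 37817014302541151731712, 38996453035837777510400, 1218675221385681305600]] (by decide +kernel))
    [(1, 961, 729, [[0, 1, 0, 1, 0, 1, 0, 1, 0, 1, 0, 1, 0, 1, 0, 1, 0, 1, 1, 0, 1, 0, 1, 0, 1, 1, 0, 1], [1, 1, 0, 1, 1, 0, 1, 0, 1, 0, 1, 0, 1, 0, 1, 0, 1, 1, 0, 1, 1, 0, 1, 1, 0, 1, 1, 0, 1, 0, 1]]),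
      (1048576, 1040, 1006, [[0, 0, 0, 0, 0], [1, 0, 0, 1, 1, 0, 0, 1, 0]]),
      (1099511627776, 60, 43, [])]
    (by decide +kernel)

theorem tr_o7_3_2_3_14 (h : OrdDiv.Real (.oodd 3 3) N) : Sm.Tr N 2 3 14 :=
  full ((has_O (B := 32) (n := 7) (o := 4585351680) (rg_prime 3 (by norm_num)) (il_O 3 (by decide)) h (by decide)
      (by decide) (by decide +kernel)
      (mat 3 ([1] : List (ZMod 3)) (ixO 3) [[2, 0, 0, 2, 2, 2, 0], [1, 0, 2, 2, 0, 2, 2], [1, 0, 2, 2, 2, 2, 2], [0, 0, 0, 1, 2, 2, 0], [0, 1, 2, 0, 0, 0, 0], [0, 2, 1, 0, 2, 2, 0], [1, 0, 0, 2, 2, 2, 1]])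
      (mat 3 ([1] : List (ZMod 3)) (ixO 3) [[1, 2, 2, 0, 1, 2, 1], [1, 0, 0, 2, 2, 2, 1], [2, 1, 1, 2, 0, 0, 1], [1, 1, 1, 0, 0, 2, 0], [2, 0, 1, 0, 1, 2, 2], [2, 1, 0, 0, 2, 0, 0], [0, 1, 2, 1, 1, 2, 1]])
      (by decide +kernel) (by decide +kernel)).ext [[0], [0, 1, 0, 1, 1, 0, 1, 1, 1, 1, 0, 1, 0, 1, 1, 0]]
      [[1073742882, 68157440, 35653696, 2147518530, 2214660098, 2214660162, 1073743936],
      [66561, 1140885569, 35684385, 1140851745, 1083392, 33792, 2098176]] (by decide +kernel))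
    [(1, 756, 716, [[1, 0, 1, 0, 1, 1], [0, 1, 0, 1, 0, 1, 0, 1, 1, 0, 1, 0, 1, 0, 1, 0, 1, 0, 1]]),
      (32, 260, 248, [[0, 0, 1, 0, 0, 1, 1, 1, 0], [1, 0, 0, 1, 1, 0, 1, 0, 1]]),
      (1024, 96, 90, [[0, 0, 0, 0], [0, 1, 1, 0, 1, 1], [1, 1, 1, 1, 0, 0, 0], [1, 0, 0, 0, 1, 1, 1]]),
      (1048576, 27, 20, [[1], [3, 1, 2]]), (33554432, 9, 6, [])]
    (by decide +kernel)

theorem sim_L {n q : ℕ} (h : OrdDiv.Real (.psl n q) N) (hn : 3 ≤ n) : IsSimpleGroup N :=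
  let ⟨F, _, _, _, ⟨e⟩⟩ := h
  have := S0249.result (F := F) n hn
  e.isSimpleGroup

theorem sim_S {n q : ℕ} (h : OrdDiv.Real (.psp n q) N) (hn : 2 ≤ n) (hq : 3 ≤ q) : IsSimpleGroup N :=
  let ⟨F, _, _, hF, ⟨e⟩⟩ := h
  have := S0270.result (F := F) n hn fun _ => hF ▸ hq
  e.isSimpleGroup

theorem sim_U {n q : ℕ} (h : OrdDiv.Real (.psu n q) N) (hn : 3 ≤ n) (hq : q ≠ 2) : IsSimpleGroup N :=
  let ⟨_, _, _, hF, ⟨e⟩⟩ := h
  have := S0283.result hF n hn fun k => hq k.2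
  e.isSimpleGroup

theorem nab [IsSimpleGroup N] {o : ℕ} (ho : Nat.card N = o) (h : o % 4 = 0) : ¬ IsMulCommutative N := fun k => by
  let _ : CommGroup N := { ‹Group N› with mul_comm := k.1.1 }
  have h1 : (Nat.card N).Prime := IsSimpleGroup.prime_card
  rcases (Nat.dvd_prime h1).1 (ho ▸ Nat.dvd_of_mod_eq_zero h) with k | k
  · omega
  · exact absurd (k ▸ h1) (by norm_num)

/-- name, order, triple -/
def xs : List (OrdDiv.Grp × ℕ × Cr.T3) :=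
  [(.psl 2 7, 168, 2, 3, 7), (.psl 2 7, 168, 3, 4, 4), (.psl 3 2, 168, 2, 3, 7), (.psl 2 8, 504, 2, 3, 7),
   (.psl 2 11, 660, 2, 3, 11), (.psl 2 11, 660, 2, 5, 5), (.psl 2 11, 660, 3, 3, 5), (.psl 2 13, 1092, 2, 3, 13),
   (.psl 2 17, 2448, 2, 3, 17), (.psl 2 25, 7800, 2, 3, 13), (.psl 3 3, 5616, 2, 3, 13), (.psl 3 3, 5616, 2, 8, 8),
   (.psl 3 3, 5616, 3, 3, 4), (.psl 3 4, 20160, 2, 4, 7), (.psl 3 4, 20160, 2, 5, 5), (.psl 3 8, 16482816, 2, 3, 63),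
   (.psl 4 3, 6065280, 2, 4, 13), (.psp 2 3, 25920, 2, 6, 5), (.psp 2 3, 25920, 2, 4, 9), (.psp 2 4, 979200, 2, 4, 17),
   (.psp 2 5, 4680000, 2, 3, 13), (.psp 2 7, 138297600, 2, 3, 24), (.psp 3 2, 1451520, 2, 4, 7), (.psp 3 3, 4585351680, 2, 3, 13),
   (.oodd 3 3, 4585351680, 2, 3, 14), (.psu 3 3, 6048, 2, 6, 7), (.psu 3 3, 6048, 2, 7, 7), (.psu 3 3, 6048, 2, 6, 8),
   (.psu 3 3, 6048, 3, 4, 7), (.psu 3 4, 62400, 2, 3, 13), (.psu 3 4, 62400, 2, 3, 15), (.psu 3 5, 126000, 2, 5, 7),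
   (.psu 3 8, 5515776, 2, 3, 21), (.psu 3 9, 42573600, 2, 3, 40), (.psu 4 2, 25920, 2, 6, 5), (.psu 4 2, 25920, 2, 4, 9),
   (.psu 4 3, 3265920, 2, 5, 7), (.psu 4 3, 3265920, 2, 6, 7), (.psu 4 4, 1018368000, 2, 3, 65), (.psu 5 2, 13685760, 2, 4, 11),
   (.psu 6 2, 9196830720, 2, 3, 11), (.oplus 4 2, 174182400, 2, 4, 7), (.sz 8, 29120, 2, 4, 13), (.g2 3, 4245696, 2, 3, 13),
   (.g2 4, 251596800, 2, 3, 13), (.td4 2, 211341312, 2, 3, 13), (.td4 2, 211341312, 2, 3, 21)]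

/-- **all triples** -/
theorem xs85 : Cr.XS xs := by
  simp only [Cr.XS, xs, List.forall_mem_cons]
  refine ⟨?_, ?_, ?_, ?_, ?_, ?_, ?_, ?_, ?_, ?_, ?_, ?_, ?_, ?_, ?_, ?_, ?_, ?_, ?_, ?_, ?_, ?_, ?_, ?_, ?_, ?_, ?_, ?_, ?_, ?_, ?_, ?_, ?_, ?_, ?_, ?_, ?_, ?_, ?_, ?_, ?_, ?_, ?_, ?_, ?_, ?_, ?_, fun _ h => absurd h List.not_mem_nil⟩ <;> intro N _ _ h ho
  · exact .of_tri (L2.dat_l2_7 h).1
  · exact tr_l2_7_3_4_4 h
  · exact .of_tri (L2.dat_l3_2 h).1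
  · exact .of_tri (L2.dat_l2_8 h ho).1
  · exact .of_tri (L2.dat_l2_11 h).1
  · exact tr_l2_11_2_5_5 h
  · exact tr_l2_11_3_3_5 h
  · exact .of_tri (L2.dat_l2_13 h).1
  · exact .of_tri (L2.dat_l2_17 h).1
  · exact .of_tri (L2.dat_l2_25 h).1
  · exact .of_tri (L3.dat_l3_3 h ho).1
  · exact tr_l3_3_2_8_8 h
  · exact tr_l3_3_3_3_4 h
  · exact .of_tri (L3.dat_l3_4 h ho).1
  · exact tr_l3_4_2_5_5 h
  · have := sim_L h (by decide)
    exact tr_l3_8_2_3_63 (nab ho rfl) h (ho ▸ Nat.dvd_of_mod_eq_zero rfl)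
  · exact tr_l4_3_2_4_13 h
  · exact .of_tri (S4.dat_s4_3 h ho).1
  · exact tr_s4_3_2_4_9 h
  · exact .of_tri (S4.dat_s4_4 h ho).1
  · exact .of_tri (S4.dat_s4_5 h).1
  · have := sim_S h (by decide) (by decide)
    exact tr_s4_7_2_3_24 (nab ho rfl) h (ho ▸ Nat.dvd_of_mod_eq_zero rfl)
  · exact .of_tri (S6.dat_s6_2 h ho).1
  · exact .of_tri (S6.dat_s6_3 h).1
  · exact tr_o7_3_2_3_14 h
  · exact .of_tri (U3.dat_u3_3 h ho).1
  · exact tr_u3_3_2_7_7 h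
  · exact tr_u3_3_2_6_8 h
  · exact tr_u3_3_3_4_7 h
  · exact .of_tri (U3.dat_u3_4 h).1
  · have := sim_U h (by decide) (by decide)
    exact tr_u3_4_2_3_15 (nab ho rfl) h (ho ▸ Nat.dvd_of_mod_eq_zero rfl)
  · exact .of_tri (U3.dat_u3_5 h).1
  · have := sim_U h (by decide) (by decide)
    exact tr_u3_8_2_3_21 (nab ho rfl) h (ho ▸ Nat.dvd_of_mod_eq_zero rfl)
  · have := sim_U h (by decide) (by decide)
    exact tr_u3_9_2_3_40 (nab ho rfl) h (ho ▸ Nat.dvd_of_mod_eq_zero rfl)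
  · exact tr_u4_2_2_6_5 h
  · exact tr_u4_2_2_4_9 h
  · exact .of_tri (U43.dat_u43 h).1
  · exact .of_tri (U43.dat_u43 h).2.1
  · have := sim_U h (by decide) (by decide)
    exact tr_u4_4_2_3_65 (nab ho rfl) h (ho ▸ Nat.dvd_of_mod_eq_zero rfl)
  · exact .of_tri (U56.dat_u52 h).1
  · exact .of_tri (U56.dat_u62 h).1
  · exact .of_tri (O8p.dat_o8p h).1
  · exact .of_tri (Sz8.dat_sz8 h).1
  · exact .of_tri (Exc.dat_g23 h).1
  · exact .of_tri (Exc.dat_g24 h).1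
  · exact .of_tri (Exc.dat_td42 h)
  · exact tr_td4_2 h

end Cfsg.Agent.N2.Ex.Sm.Trp
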