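import Cfsg.Agent.N2.Ex.Sim.Defs
import Cfsg.Agent.N2.Ex.Sim.U3M
import Cfsg.Agent.H947.Cv.Psu3

/-!
# N2 (S3519), simple socle: the box `[U3]` (helper67)

`y` has order `m = r` or `49`, `r` a primitive prime divisor of `p ^ (6 f) - 1`; `x` is an involution and `x y` has the
characteristic polynomial of `y⁻¹`.  A maximal subgroup of order divisible by `m` has odd order.
-/

set_option autoImplicit false
set_option linter.unusedSectionVars false

namespace Cfsg.Agent.N2.Ex.Sm.U3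

open Cfsg Matrix Subgroup Cfsg.Agent.LieClassical.HermBasic Cfsg.Agent.H947.El
open scoped MatrixGroups

variable {F : Type*} [Field F] [Fintype F] {q : ℕ}

/-- the matrix of an element -/
def mt : SU 3 F q →* Matrix (Fin 3) (Fin 3) F where
  toFun g := ((g : SL(3, F)) : Matrix (Fin 3) (Fin 3) F)
  map_one' := rfl
  map_mul' _ _ := rfl

theorem mt_inj : Function.Injective (mt : SU 3 F q →* Matrix (Fin 3) (Fin 3) F) :=
  fun _ _ h => Subtype.ext (Subtype.ext h)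

theorem cj_pow (P : GL (Fin 3) F) (A : Matrix (Fin 3) (Fin 3) F) (k : ℕ) :
    (((P⁻¹ : GL (Fin 3) F) : Matrix _ _ F) * A * (P : Matrix _ _ F)) ^ k = 1 ↔ A ^ k = 1 := by
  have h1 := Units.conj_pow' P A k
  rw [h1]
  constructor
  · intro h
    have h2 : A ^ k = (P : Matrix _ _ F) * (((P⁻¹ : GL (Fin 3) F) : Matrix _ _ F) * A ^ k * (P : Matrix _ _ F)) *
        ((P⁻¹ : GL (Fin 3) F) : Matrix _ _ F) := by
      simp only [mul_assoc, Units.mul_inv, mul_one, Units.mul_inv_cancel_left]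
    rw [h2, h, mul_one, Units.mul_inv]
  · intro h
    rw [h, mul_one, Units.inv_mul]

theorem r_dvd {p n r : ℕ} (h : PN F p n q r) : r ∣ q ^ 2 - q + 1 := by
  have hn := h.n0
  have h1 : r ∣ q ^ 3 + 1 := by
    have h2 : r ∣ q ^ 6 - 1 := by
      rw [h.qp, ← pow_mul, h.iff]; exact ⟨1, by ring⟩
    have h3 : q ^ 6 - 1 = (q ^ 3 + 1) * (q ^ 3 - 1) := by
      have := Nat.sq_sub_sq (q ^ 3) 1
      rwa [one_pow, ← pow_mul] at this
    rw [h3] at h2
    refine (h.pr.dvd_mul.1 h2).resolve_right fun h4 => ?_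
    rw [h.qp, ← pow_mul] at h4
    exact h.not_dvd (by omega) (by omega) h4
  have hcube : q ^ 3 + 1 = (q + 1) * (q ^ 2 - q + 1) := by
    zify [Nat.le_self_pow (by norm_num : 2 ≠ 0) q]; ring
  rw [hcube] at h1
  refine (h.pr.dvd_mul.1 h1).resolve_left fun h4 => ?_
  have h5 : r ∣ q ^ 2 - 1 := by
    have := Nat.sq_sub_sq q 1
    rw [one_pow] at this
    rw [this]
    exact h4.mul_right _
  rw [h.qp, ← pow_mul] at h5
  exact h.not_dvd (by omega) (by omega) h5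

theorem gcd_dvd (q : ℕ) : Nat.gcd 3 (q + 1) ∣ q ^ 2 - q + 1 := by
  rcases (Nat.dvd_prime Nat.prime_three).1 (Nat.gcd_dvd_left 3 (q + 1)) with h | h
  · rw [h]; exact one_dvd _
  · have h1 : 3 ∣ q + 1 := h ▸ Nat.gcd_dvd_right 3 (q + 1)
    obtain ⟨k, hk⟩ := h1
    obtain ⟨j, rfl⟩ : ∃ j, k = j + 1 := ⟨k - 1, by omega⟩
    obtain rfl : q = 3 * j + 2 := by omega
    rw [h]
    refine ⟨3 * j ^ 2 + 3 * j + 1, ?_⟩
    have : (3 * j + 2) ^ 2 = (9 * j ^ 2 + 9 * j + 2) + (3 * j + 2) := by ring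
    rw [this, Nat.add_sub_cancel]
    ring

theorem odd_tor (q : ℕ) : ¬ 2 ∣ 3 * (q ^ 2 - q + 1) := by
  have h1 : q ^ 2 - q = q * (q - 1) := by rw [Nat.mul_sub_one, pow_two]
  obtain ⟨k, hk⟩ := Nat.even_mul_pred_self q
  rw [h1, hk]
  omega

/-- the triple in `SU₃(q)` -/
theorem exists_triple (hF : Fintype.card F = q ^ 2) {p n r : ℕ} (h : PN F p n q r) {b : SU 3 F q} (hb : r ∣ orderOf b) :
    ∃ x y : SU 3 F q, orderOf x = 2 ∧ orderOf y = orderOf b ∧ (x * y) ^ orderOf b = 1 := by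
  have hfin : Finite (SU 3 F q) := inferInstance
  obtain ⟨k, hk⟩ := hb
  have hk0 : 0 < k := Nat.pos_of_ne_zero fun h0 => (orderOf_pos b).ne' (by rw [hk, h0, mul_zero])
  have hirr : ∀ A : Matrix (Fin 3) (Fin 3) F, (∀ j, A ^ j = 1 ↔ orderOf b ∣ j) → Irr A := by
    intro A hA
    refine Irr.of_pow (k := k) fun W h0 h1 hW => h.no_sub (X := A ^ k) ?_ ?_ h0 h1 hW
    · rw [← pow_mul, hA, hk, mul_comm]
    · rw [Ne, hA, hk]
      intro h2
      have h3 := Nat.le_of_dvd hk0 h2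
      have h4 := h.pr.two_le
      nlinarith
  have hB : ∀ j, mt b ^ j = 1 ↔ orderOf b ∣ j := fun j => by
    rw [← map_pow, ← map_one mt, mt_inj.eq_iff, orderOf_dvd_iff_pow_eq_one]
  have hB' : ∀ j, mt b⁻¹ ^ j = 1 ↔ orderOf b ∣ j := fun j => by
    rw [← map_pow, ← map_one mt, mt_inj.eq_iff, ← orderOf_inv b, orderOf_dvd_iff_pow_eq_one]
  obtain ⟨t, ht⟩ : ∃ t, (mt b).trace = t := ⟨_, rfl⟩
  have c1 := su_cube hF b (A := mt b) rfl
  rw [ht] at c1
  have c2 : mt b⁻¹ ^ 3 = conj hF t • mt b⁻¹ ^ 2 + (-t) • mt b⁻¹ + (1 : F) • (1 : Matrix (Fin 3) (Fin 3) F) := by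
    have e1 : mt b * mt b⁻¹ = 1 := by rw [← map_mul, mul_inv_cancel, map_one]
    have e2 : ∀ i j : ℕ, mt b ^ i * mt b⁻¹ ^ (i + j) = mt b⁻¹ ^ j := fun i j => by
      rw [← map_pow, ← map_pow, ← map_pow, ← map_mul, pow_add, ← mul_assoc, inv_pow, mul_inv_cancel, one_mul]
    have e3 := congrArg (· * mt b⁻¹ ^ 3) c1
    have e4 := e2 3 0
    have e5 := e2 2 1
    have e6 := e2 1 2
    simp only [add_mul, smul_mul_assoc, one_mul] at e3
    rw [pow_one] at e5 e6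
    rw [e4, e5, e6, pow_zero, one_smul] at e3
    rw [one_smul]
    conv_rhs => rw [e3]
    module
  have hC : ∀ j, Cm t (conj hF t) ^ j = 1 ↔ orderOf b ∣ j := fun j => by
    rw [← hB]
    exact ⟨transfer (Cm_cube _ _) c1 (Cm_indep _ _), transfer c1 (Cm_cube _ _) (hirr _ hB).indep⟩
  have hZ : (Xm t (conj hF t) * Cm t (conj hF t)) ^ orderOf b = 1 :=
    transfer c2 (Zm_cube _ _) (hirr _ hB').indep ((hB' _).2 dvd_rfl)
  obtain ⟨P, x, y, hx, hy⟩ := exists_pair hF (hirr _ hC)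
  change mt x = _ at hx
  change mt y = _ at hy
  refine ⟨x, y, orderOf_eq_prime (mt_inj ?_) fun h1 => Xm_ne_one (ne_of_irr (hirr _ hC)) ?_, ?_, mt_inj ?_⟩
  · rw [map_pow, map_one, hx, cj_pow, pow_two, Xm_sq]
  · rw [← pow_one (Xm t _), ← cj_pow P, ← hx, h1, map_one, one_pow]
  · refine orderOf_eq_orderOf_iff.2 fun j => ?_
    rw [← mt_inj.eq_iff, map_pow, map_one, hy, cj_pow, hC, orderOf_dvd_iff_pow_eq_one]
  · have h1 : mt (x * y) = ((P⁻¹ : GL (Fin 3) F) : Matrix _ _ F) * (Xm t (conj hF t) * Cm t (conj hF t)) *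
        (P : Matrix _ _ F) := by
      rw [map_mul, hx, hy]
      simp only [mul_assoc, Units.mul_inv_cancel_left]
    rw [map_pow, map_one, h1, cj_pow, hZ]

/-- the triple in `PSU₃(q)` -/
theorem psu_triple (hF : Fintype.card F = q ^ 2) (hq : 4 ≤ q) (hq5 : q ≠ 5) :
    ∃ x y : PSU 3 F q, x ^ 2 = 1 ∧ y ^ ((q ^ 2 - q + 1) / Nat.gcd 3 (q + 1)) = 1 ∧
      (x * y) ^ ((q ^ 2 - q + 1) / Nat.gcd 3 (q + 1)) = 1 ∧ closure ({x, y} : Set (PSU 3 F q)) = ⊤ := by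
  obtain ⟨p, n, r, h, -, h7⟩ := Cfsg.Agent.H947.Cv.exists_PN7 hF hq hq5
  obtain ⟨a, ha, ha7⟩ := Cfsg.Agent.H947.Cv.exists_a hF h h7
  have hfin : Finite (PSU 3 F q) := Quotient.finite _
  have hfinS : Finite (SU 3 F q) := inferInstance
  obtain ⟨b0, rfl⟩ := QuotientGroup.mk'_surjective (center (SU 3 F q)) a
  set π := QuotientGroup.mk' (center (SU 3 F q)) with hπ
  have hr3 : r.Coprime 3 := by
    rw [Nat.coprime_primes h.pr Nat.prime_three]
    have := h.ge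
    have := h.n0
    omega
  obtain ⟨m, hm0, hmN, hrm, hm7, hm3⟩ : ∃ m, m ∣ orderOf b0 ∧ m ∣ q ^ 2 - q + 1 ∧ r ∣ m ∧ (r = 7 → 49 ∣ m) ∧ m.Coprime 3 := by
    by_cases hr : r = 7
    · exact ⟨49, (ha7 hr).trans (orderOf_map_dvd π b0), h7 hr, by rw [hr]; norm_num, fun _ => dvd_rfl, by norm_num⟩
    · exact ⟨r, ha.trans (orderOf_map_dvd π b0), r_dvd h, dvd_rfl, fun h1 => absurd h1 hr, hr3⟩
  have hmg : m.Coprime (Nat.gcd 3 (q + 1)) := hm3.coprime_dvd_right (Nat.gcd_dvd_left _ _)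
  have hb : orderOf (b0 ^ (orderOf b0 / m)) = m := orderOf_pow_orderOf_div (orderOf_pos b0).ne' hm0
  obtain ⟨x, y, hx, hy, hxy⟩ := exists_triple hF h (b := b0 ^ (orderOf b0 / m)) (by rw [hb]; exact hrm)
  rw [hb] at hy hxy
  obtain ⟨k, hk⟩ : m ∣ (q ^ 2 - q + 1) / Nat.gcd 3 (q + 1) := by
    refine hmg.dvd_of_dvd_mul_left ?_
    rwa [Nat.mul_div_cancel' (gcd_dvd q)]
  refine ⟨π x, π y, ?_, ?_, ?_, ?_⟩
  · rw [← map_pow, ← hx, pow_orderOf_eq_one, map_one]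
  · rw [← map_pow, hk, pow_mul, ← hy, pow_orderOf_eq_one, one_pow, map_one]
  · rw [← map_mul, ← map_pow, hk, pow_mul, hxy, one_pow, map_one]
  · by_contra hne
    obtain ⟨M, hM, hle⟩ := (eq_top_or_exists_le_coatom _).resolve_left hne
    have hc := Cfsg.Agent.H947.Cyc.card_comap_pi hF M
    have h1 : orderOf x ∣ Nat.card (M.comap π) :=
      Subgroup.orderOf_dvd_natCard _ (hle (subset_closure (Set.mem_insert _ _)))
    have h2 : orderOf y ∣ Nat.card (M.comap π) :=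
      Subgroup.orderOf_dvd_natCard _ (hle (subset_closure (Set.mem_insert_of_mem _ rfl)))
    rw [hc] at h1 h2
    rw [hy] at h2
    have h3 := hmg.dvd_of_dvd_mul_left h2
    have h4 := Cfsg.Agent.H947.Cv.tor_of hF hq hq5 h hM (hrm.trans h3) fun h5 => (hm7 h5).trans h3
    rw [hx] at h1
    exact odd_tor q (h1.trans h4)

end Cfsg.Agent.N2.Ex.Sm.U3

namespace Cfsg.Agent.N2.Ex.Sm

/-- **[U3]** -/
theorem boxU3 : BoxU3 := by
  intro s a N _ h h3 h5
  have h1 : 3 ≤ 3 ∧ (3 = 3 → 3 ≤ s ^ a) := h.ord.ok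
  have h2 := h1.2 rfl
  obtain ⟨F, _, _, hF, ⟨e⟩⟩ := h.real
  exact Tr.congr e.symm (U3.psu_triple hF (by omega) h5)

end Cfsg.Agent.N2.Ex.Sm
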